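import Cfsg.Agent.Lib.SixThree54.Spec
import Cfsg.Agent.Lib.Wielandt.Formula
import Cfsg.Agent.Lib.J4Bridge14.GF4Det80

/-!
# General lemmas for the recognition of `J4` from `6.M22` (written by helper54)
-/

set_option autoImplicit false

universe u v

namespace Cfsg.Agent.Lib.SixThree54

open Cfsg Subgroup

/-- A map of cube one on a set of order prime to three fixes a point. -/
theorem exists_fixed_of_cube {α : Type*} [Finite α] (σ : α → α) (h3 : ∀ a, σ (σ (σ a)) = a)
    (hn : ¬ 3 ∣ Nat.card α) : ∃ a, σ a = a := by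
  classical
  haveI := Fintype.ofFinite α
  haveI : Fact (Nat.Prime 3) := ⟨Nat.prime_three⟩
  let π : Equiv.Perm α := ⟨σ, fun a => σ (σ a), h3, h3⟩
  have hπ : π ^ 3 ^ 1 = 1 := Equiv.ext fun a => h3 a
  rw [Nat.card_eq_fintype_card] at hn
  obtain ⟨a, ha⟩ := Equiv.Perm.exists_fixed_point_of_prime hn hπ
  exact ⟨a, ha⟩

/-- A map of cube one has as many fixed points as points, modulo three. -/
theorem card_fixed_mod {α : Type*} [Finite α] (σ : α → α) (h3 : ∀ a, σ (σ (σ a)) = a) :
    Nat.card α % 3 = Nat.card {a : α // σ a = a} % 3 := by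
  classical
  haveI := Fintype.ofFinite α
  haveI : Fact (Nat.Prime 3) := ⟨Nat.prime_three⟩
  have h := Equiv.Perm.card_fixedPoints_modEq (p := 3) (n := 1) (f := σ) (funext fun a => h3 a)
  have e : Fintype.card (Function.fixedPoints σ) = Nat.card {a : α // σ a = a} := by
    rw [← Nat.card_eq_fintype_card]; rfl
  rw [← e, Nat.card_eq_fintype_card]
  exact h

section Twist

variable {H : Type*} [Group H]

/-- Two elements of order dividing three which agree on a coset of a coprime subgroup are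
intertwined by an element of the coset. -/
theorem exists_twist (N : Subgroup H) [Finite N] (y z k : H) (hy : y ^ 3 = 1) (hz : z ^ 3 = 1)
    (hn : ¬ 3 ∣ Nat.card ↥N) (hN : ∀ n ∈ N, z * n * z⁻¹ ∈ N) (hk : k⁻¹ * y * k * z⁻¹ ∈ N) :
    ∃ n ∈ N, y * (k * n) = k * n * z := by
  have hmem : ∀ n : ↥N, k⁻¹ * y * k * (n : H) * z⁻¹ ∈ N := by
    intro n
    rw [show k⁻¹ * y * k * (n : H) * z⁻¹ = (k⁻¹ * y * k * z⁻¹) * (z * n * z⁻¹) by group]
    exact N.mul_mem hk (hN n n.2)
  obtain ⟨n, hfix⟩ := exists_fixed_of_cube (fun n => (⟨_, hmem n⟩ : ↥N)) (fun n => Subtype.ext (by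
    show k⁻¹ * y * k * (k⁻¹ * y * k * (k⁻¹ * y * k * (n : H) * z⁻¹) * z⁻¹) * z⁻¹ = n
    rw [show k⁻¹ * y * k * (k⁻¹ * y * k * (k⁻¹ * y * k * (n : H) * z⁻¹) * z⁻¹) * z⁻¹ =
      k⁻¹ * (y * y * y) * k * n * (z * z * z)⁻¹ by group,
      show y * y * y = y ^ 3 by rw [pow_succ, pow_two], show z * z * z = z ^ 3 by rw [pow_succ, pow_two], hy, hz]
    group)) hn
  refine ⟨n, n.2, ?_⟩
  have h : k⁻¹ * y * k * (n : H) * z⁻¹ = n := congrArg Subtype.val hfix
  calc y * (k * n) = k * (k⁻¹ * y * k * (n : H) * z⁻¹) * z := by group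
    _ = k * n * z := by rw [h]

end Twist

/-- A group with the facts of the cover of `M22` cannot act fixed-point-freely on a small elementary
two-group through a central element of order three. -/
theorem two_pow_twelve_le {L : Type u} [Group L] [Finite L] (hC : CoverFacts L)
    (hperf : ⁅(⊤ : Subgroup L), (⊤ : Subgroup L)⁆ = ⊤) (p : L) (hp3 : p ^ 3 = 1)
    (hpc : p ∈ Subgroup.center L) {V : Type v} [Group V] [Finite V] [Nontrivial V]
    (ψ : L →* MulAut V) (h2 : ∀ v : V, v * v = 1) (hfix : ∀ v : V, ψ p v = v → v = 1) :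
    2 ^ 12 ≤ Nat.card V := by
  classical
  have hcomm : ∀ a b : V, a * b = b * a := by
    intro a b
    have h := h2 (a * b)
    have ha : a⁻¹ = a := inv_eq_of_mul_eq_one_left (h2 a)
    have hb : b⁻¹ = b := inv_eq_of_mul_eq_one_left (h2 b)
    calc a * b = (a * b)⁻¹ := (inv_eq_of_mul_eq_one_left h).symm
      _ = b * a := by rw [mul_inv_rev, ha, hb]
  letI : CommGroup V := { ‹Group V› with mul_comm := hcomm }
  letI : DistribMulAction L (Additive V) :=
    { smul := fun l v => Additive.ofMul (ψ l v.toMul)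
      one_smul := fun v => by
        show Additive.ofMul (ψ 1 v.toMul) = v
        rw [map_one]; rfl
      mul_smul := fun l m v => by
        show Additive.ofMul (ψ (l * m) v.toMul) = Additive.ofMul (ψ l (ψ m v.toMul))
        rw [map_mul]; rfl
      smul_zero := fun l => congrArg Additive.ofMul (map_one (ψ l))
      smul_add := fun l v w => congrArg Additive.ofMul (map_mul (ψ l) v.toMul w.toMul) }
  have hppp : ∀ v : V, ψ p (ψ p (ψ p v)) = v := fun v => by
    rw [← MulAut.mul_apply, ← MulAut.mul_apply, ← map_mul, ← map_mul,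
      show p * p * p = p ^ 3 by rw [pow_succ, pow_two], hp3, map_one]
    rfl
  have hrel : ∀ v : Additive V, p • p • v + p • v + v = 0 := by
    intro v
    have : ψ p (ψ p (ψ p v.toMul) * ψ p v.toMul * v.toMul) = ψ p (ψ p v.toMul) * ψ p v.toMul * v.toMul := by
      rw [map_mul, map_mul, hppp]
      simp only [mul_comm, mul_left_comm]
    exact congrArg Additive.ofMul (hfix _ this)
  have hperf' : p ∈ commutator L := by
    rw [commutator_def, hperf]; exact Subgroup.mem_top p
  obtain ⟨d, hd, h3, h11⟩ := Cfsg.Agent.Lib.J4Bridge14.GF4Det80.card_eq_and_dvd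
    (K := L) (V := Additive V) (fun v => congrArg Additive.ofMul (h2 v.toMul)) p hrel
    (fun k v => by rw [← mul_smul, ← mul_smul, Subgroup.mem_center_iff.1 hpc k]) hperf'
  have hcard : Nat.card V = 4 ^ d := by
    rw [← hd]; exact Nat.card_congr Additive.ofMul
  have hd0 : d ≠ 0 := by
    intro h
    rw [h, pow_zero] at hcard
    exact absurd hcard (Finite.one_lt_card (α := V)).ne'
  have hd3 : d ≠ 3 := by
    intro h
    obtain ⟨k, hk, hkc⟩ := hC.exists_eleven
    have hker : k ∈ ψ.ker := MulEquiv.ext fun v => congrArg Additive.toMul (h11 h k hk (Additive.ofMul v))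
    rcases hC.normal ψ.ker inferInstance with hN | hN
    · exact hkc (hN hker)
    · obtain ⟨v, hv⟩ := exists_ne (1 : V)
      refine hv (hfix v ?_)
      rw [MonoidHom.mem_ker.1 (hN ▸ Subgroup.mem_top p : p ∈ ψ.ker)]
      rfl
  have hd6 : 6 ≤ d := by omega
  rw [hcard]
  calc 2 ^ 12 = 4 ^ 6 := by norm_num
    _ ≤ 4 ^ d := Nat.pow_le_pow_right (by norm_num) hd6

/-- The line through `c` in the plane over three elements. -/
def line (c : ZMod 3 × ZMod 3) : Subgroup (Multiplicative (ZMod 3 × ZMod 3)) where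
  carrier := {v | c.1 * v.toAdd.2 = c.2 * v.toAdd.1}
  one_mem' := by simp
  mul_mem' := by
    intro a b ha hb
    simp only [Set.mem_setOf_eq, toAdd_mul, Prod.snd_add, Prod.fst_add, mul_add] at *
    rw [ha, hb]
  inv_mem' := by
    intro a ha
    simp only [Set.mem_setOf_eq, toAdd_inv, Prod.snd_neg, Prod.fst_neg, mul_neg] at *
    rw [ha]

theorem mem_line {c : ZMod 3 × ZMod 3} {v : Multiplicative (ZMod 3 × ZMod 3)} :
    v ∈ line c ↔ c.1 * v.toAdd.2 = c.2 * v.toAdd.1 :=
  Iff.rfl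

/-- The four directions. -/
def dir : Fin 4 → ZMod 3 × ZMod 3 := ![(1, 0), (0, 1), (1, 1), (2, 1)]

theorem dir_mem_line (i : Fin 4) : Multiplicative.ofAdd (dir i) ∈ line (dir i) :=
  mem_line.2 (mul_comm (dir i).1 (dir i).2)

theorem mem_line_cases : ∀ (i : Fin 4) (v : Multiplicative (ZMod 3 × ZMod 3)),
    (dir i).1 * v.toAdd.2 = (dir i).2 * v.toAdd.1 →
      ∃ m : Fin 3, v = Multiplicative.ofAdd (dir i) ^ (m : ℕ) := by
  decide

theorem card_line (i : Fin 4) : Nat.card ↥(line (dir i)) = 3 := by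
  have hd : ∀ i : Fin 4, Fintype.card {v : Multiplicative (ZMod 3 × ZMod 3) //
      (dir i).1 * v.toAdd.2 = (dir i).2 * v.toAdd.1} = 3 := by decide
  refine Eq.trans ?_ (hd i)
  rw [← Nat.card_eq_fintype_card]
  rfl

theorem line_relation : ∀ v : Multiplicative (ZMod 3 × ZMod 3),
    (-1 : ℤ) + ((if v = 1 then -3 else 0) +
      ∑ i, if (dir i).1 * v.toAdd.2 = (dir i).2 * v.toAdd.1 then (1 : ℤ) else 0) = 0 := by
  decide

set_option maxHeartbeats 400000 in
theorem card_mul_fixed {H : Type*} [Group H] [Finite H] (E : Subgroup H) [E.Normal] (hE : IsPGroup 2 ↥E)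
    (x a : H) (hx : x ^ 3 = 1) (ha : a ^ 3 = 1) (hxa : Commute x a) :
    Nat.card ↥E * Nat.card ↥(E ⊓ centralizer {x} ⊓ centralizer {a}) ^ 3 =
      Nat.card ↥(E ⊓ centralizer {x}) * Nat.card ↥(E ⊓ centralizer {a}) *
        Nat.card ↥(E ⊓ centralizer {x * a}) * Nat.card ↥(E ⊓ centralizer {x ^ 2 * a}) := by
  classical
  haveI : Fact (Nat.Prime 2) := ⟨Nat.prime_two⟩
  let Φ : Multiplicative (ZMod 3 × ZMod 3) →* H :=
    MonoidHom.mk' (fun v => x ^ v.toAdd.1.val * a ^ v.toAdd.2.val) (by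
      intro v w
      show x ^ (v.toAdd.1 + w.toAdd.1).val * a ^ (v.toAdd.2 + w.toAdd.2).val = _
      rw [ZMod.val_add, ZMod.val_add, ← pow_eq_pow_mod _ hx, ← pow_eq_pow_mod _ ha, pow_add, pow_add,
        mul_assoc, mul_assoc, ← mul_assoc (x ^ w.toAdd.1.val), (hxa.pow_pow _ _).eq, mul_assoc])
  let φ : Multiplicative (ZMod 3 × ZMod 3) →* MulAut ↥E := (MulAut.conjNormal).comp Φ
  let Hs : Option (Option (Fin 4)) → Subgroup (Multiplicative (ZMod 3 × ZMod 3)) := fun o =>
    o.elim ⊤ fun o' => o'.elim ⊥ fun i => line (dir i)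
  let cs : Option (Option (Fin 4)) → ℤ := fun o => o.elim (-1) fun o' => o'.elim (-3) fun _ => 1
  have hrel : ∀ v, ∑ o, (if v ∈ Hs o then cs o else 0) = 0 := by
    intro v
    rw [Fintype.sum_option, Fintype.sum_option]
    simp only [Hs, cs, Option.elim_none, Option.elim_some, Subgroup.mem_top, if_true, Subgroup.mem_bot]
    convert line_relation v using 5
    exact if_congr mem_line rfl rfl
  obtain ⟨k, hk⟩ := IsPGroup.iff_card.1 hE
  have hT : Nat.card (Multiplicative (ZMod 3 × ZMod 3)) = 9 := by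
    rw [Nat.card_congr Multiplicative.toAdd, Nat.card_prod, Nat.card_zmod]
  have hcop : (Nat.card (Multiplicative (ZMod 3 × ZMod 3))).Coprime (Nat.card ↥E) := by
    rw [hT, hk]; exact Nat.Coprime.pow_right _ (by norm_num)
  haveI := hE.isNilpotent
  have hW := Wielandt.prod_card_fixedSub Hs cs hrel (inferInstance : Group.IsSolvable ↥E) hcop φ
  have hfix : ∀ (K : Subgroup (Multiplicative (ZMod 3 × ZMod 3))) (S : Set H),
      (∀ v ∈ K, Φ v ∈ Subgroup.closure S) → (∀ s ∈ S, ∃ v ∈ K, Φ v = s) →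
        Nat.card ↥(Wielandt.fixedSub φ K) = Nat.card ↥(E ⊓ centralizer S) := by
    intro K S h1 h2
    refine Nat.card_congr
      { toFun := fun e => ⟨(e.1 : H), e.1.2, fun s hs => by
          obtain ⟨v, hv, rfl⟩ := h2 s hs
          have h := congrArg Subtype.val (e.2 v hv)
          simp only [φ, MonoidHom.comp_apply, MulAut.conjNormal_apply] at h
          exact mul_inv_eq_iff_eq_mul.1 h⟩
        invFun := fun e => ⟨⟨(e : H), e.2.1⟩, fun v hv => by
          have h : (e : H) ∈ centralizer (Subgroup.closure S : Set H) := by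
            rw [Subgroup.centralizer_closure]; exact e.2.2
          apply Subtype.ext
          simp only [φ, MonoidHom.comp_apply, MulAut.conjNormal_apply]
          exact mul_inv_eq_iff_eq_mul.2 (Subgroup.mem_centralizer_iff.1 h _ (h1 v hv))⟩
        left_inv := fun _ => rfl
        right_inv := fun _ => rfl }
  have hline : ∀ i, Nat.card ↥(Wielandt.fixedSub φ (line (dir i))) =
      Nat.card ↥(E ⊓ centralizer {Φ (Multiplicative.ofAdd (dir i))}) := by
    intro i
    refine hfix _ _ (fun v hv => ?_) (fun s hs => ⟨Multiplicative.ofAdd (dir i), ?_, ?_⟩)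
    · obtain ⟨m, rfl⟩ := mem_line_cases i v (mem_line.1 hv)
      rw [map_pow]
      exact pow_mem (Subgroup.subset_closure (Set.mem_singleton _)) _
    · exact dir_mem_line i
    · exact (Set.mem_singleton_iff.1 hs).symm
  have hbot : Nat.card ↥(Wielandt.fixedSub φ (⊥ : Subgroup (Multiplicative (ZMod 3 × ZMod 3)))) =
      Nat.card ↥E := by
    rw [hfix ⊥ ∅ (fun v hv => by rw [Subgroup.mem_bot.1 hv, map_one]; exact one_mem _)
      (fun s hs => hs.elim)]
    exact congrArg (fun K : Subgroup H => Nat.card ↥K) (inf_eq_left.2 fun e _ => by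
      simp [Subgroup.mem_centralizer_iff])
  have htop : Nat.card ↥(Wielandt.fixedSub φ (⊤ : Subgroup (Multiplicative (ZMod 3 × ZMod 3)))) =
      Nat.card ↥(E ⊓ centralizer {x} ⊓ centralizer {a}) := by
    have hxm : x ∈ Subgroup.closure ({x} ∪ {a} : Set H) := Subgroup.subset_closure (Or.inl rfl)
    have ham : a ∈ Subgroup.closure ({x} ∪ {a} : Set H) := Subgroup.subset_closure (Or.inr rfl)
    rw [hfix ⊤ ({x} ∪ {a} : Set H) (fun v _ => Subgroup.mul_mem _ (Subgroup.pow_mem _ hxm _)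
      (Subgroup.pow_mem _ ham _)) (fun s hs => ?_)]
    · refine congrArg (fun K : Subgroup H => Nat.card ↥K) ?_
      ext e
      simp only [Subgroup.mem_inf, Subgroup.mem_centralizer_iff, Set.mem_union, Set.mem_singleton_iff]
      constructor
      · exact fun h => ⟨⟨h.1, fun g hg => h.2 g (Or.inl hg)⟩, fun g hg => h.2 g (Or.inr hg)⟩
      · exact fun h => ⟨h.1.1, fun g hg => hg.elim (h.1.2 g) (h.2 g)⟩
    · rcases hs with rfl | rfl
      · refine ⟨Multiplicative.ofAdd (1, 0), Subgroup.mem_top _, ?_⟩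
        simp [Φ, ZMod.val_one]
      · refine ⟨Multiplicative.ofAdd (0, 1), Subgroup.mem_top _, ?_⟩
        simp [Φ, ZMod.val_one]
  have hcl := card_line
  rw [Fintype.prod_option, Fintype.prod_option, Fin.prod_univ_four] at hW
  simp only [Hs, cs, Option.elim_none, Option.elim_some, Subgroup.card_top, Subgroup.card_bot, hT, hbot,
    htop, hline, hcl] at hW
  rw [show Φ (Multiplicative.ofAdd (dir 0)) = x by simp [Φ, dir, ZMod.val_one],
    show Φ (Multiplicative.ofAdd (dir 1)) = a by simp [Φ, dir, ZMod.val_one],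
    show Φ (Multiplicative.ofAdd (dir 2)) = x * a by simp [Φ, dir, ZMod.val_one],
    show Φ (Multiplicative.ofAdd (dir 3)) = x ^ 2 * a by
      simp [Φ, dir, ZMod.val_one, show ((2 : ZMod 3).val) = 2 from rfl]] at hW
  generalize hn0 : Nat.card ↥E = n₀ at hW ⊢
  generalize hn1 : Nat.card ↥(E ⊓ centralizer {x} ⊓ centralizer {a}) = n₁ at hW ⊢
  generalize Nat.card ↥(E ⊓ centralizer {x}) = b₀ at hW ⊢
  generalize Nat.card ↥(E ⊓ centralizer {a}) = b₁ at hW ⊢
  generalize Nat.card ↥(E ⊓ centralizer {x * a}) = b₂ at hW ⊢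
  generalize Nat.card ↥(E ⊓ centralizer {x ^ 2 * a}) = b₃ at hW ⊢
  have h0 : (n₀ : ℚ) ≠ 0 := by rw [← hn0]; exact Nat.cast_ne_zero.2 Nat.card_pos.ne'
  have h1 : (n₁ : ℚ) ≠ 0 := by rw [← hn1]; exact Nat.cast_ne_zero.2 Nat.card_pos.ne'
  norm_num at hW
  field_simp at hW
  apply Nat.pow_left_injective (n := 3) (by norm_num)
  show (n₀ * n₁ ^ 3) ^ 3 = (b₀ * b₁ * b₂ * b₃) ^ 3
  exact_mod_cast (by linear_combination -hW : ((n₀ : ℚ) * (n₁ : ℚ) ^ 3) ^ 3 = ((b₀ : ℚ) * b₁ * b₂ * b₃) ^ 3)

end Cfsg.Agent.Lib.SixThree54
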