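import Cfsg.Agent.Lib.SixThree54.Spec

/-!
# The quotient of the involution centraliser by its two-core (written by helper54, row S3317)

`QData x π`: what is known about `Q = C(t)/E`, the image `x` of the element of order three and the map `π`
from the cover `L`.  The three `...Stmt` are bricks: files `QThree`, `QSeven`, `QBig` of this folder.
-/

set_option autoImplicit false

universe u

namespace Cfsg.Agent.Lib.SixThree54

open Cfsg

variable {L : Type u} [Group L] {Q : Type u} [Group Q]

/-- The data in the quotient. -/
structure QData (x : Q) (π : L →* Q) : Prop where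
  facts : CoverFacts L
  perfect : ⁅(⊤ : Subgroup L), (⊤ : Subgroup L)⁆ = ⊤
  hx : orderOf x = 3
  range_eq : π.range = Subgroup.centralizer ({x} : Set Q)
  ker : ∀ l : L, π l = 1 → l ∈ Subgroup.center L ∧ l ^ 2 = 1
  center_map : ∀ z ∈ Subgroup.center L, π z ∈ Subgroup.zpowers x
  exists_inverts : ∃ w : Q, w * x * w⁻¹ = x⁻¹
  card_normalizer : Nat.card ↥(Subgroup.normalizer (Subgroup.zpowers x : Set Q)) = 2661120
  /-- images of non-central elements of order three are not conjugate into `⟨x⟩` -/
  not_conj : ∀ a : L, orderOf a = 3 → a ∉ Subgroup.center L → ∀ g : Q,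
    g * π a * g⁻¹ ∉ Subgroup.zpowers x
  /-- centralisers of images of non-central elements of order three -/
  cent_le : ∀ a : L, orderOf a = 3 → a ∉ Subgroup.center L →
    Subgroup.centralizer ({π a} : Set Q) ≤ Subgroup.normalizer (Subgroup.zpowers x : Set Q)

/-- Brick QThree: the index of the normaliser is congruent to one modulo twenty seven. -/
def QThreeStmt : Prop :=
  ∀ (L Q : Type u) [Group L] [Finite L] [Group Q] [Finite Q] (x : Q) (π : L →* Q), QData x π →
    (Subgroup.normalizer (Subgroup.zpowers x : Set Q)).index % 27 = 1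

/-- Brick QSeven: the index is congruent to one modulo seven, given `SelfThreeStmt`. -/
def QSevenStmt : Prop :=
  ∀ (L Q : Type u) [Group L] [Finite L] [Group Q] [Finite Q] (x : Q) (π : L →* Q), QData x π →
    SelfThreeStmt.{u} → (Subgroup.normalizer (Subgroup.zpowers x : Set Q)).index % 7 = 1

/-- Brick QBig: the index is not `2 ^ 18`. -/
def QBigStmt : Prop :=
  ∀ (L Q : Type u) [Group L] [Finite L] [Group Q] [Finite Q] (x : Q) (π : L →* Q), QData x π →
    (Subgroup.normalizer (Subgroup.zpowers x : Set Q)).index ≠ 2 ^ 18

end Cfsg.Agent.Lib.SixThree54
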