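import Cfsg.Agent.Lib.SixThree54.Basic
import Cfsg.Agent.Lib.SixThree54.QuotSpec
import Cfsg.Agent.Lib.PSolvable.Core
import Cfsg.Agent.Lib.PGroup.Frattini

/-!
# The two-core of the centraliser of the involution (written by helper54, row S3317)
-/

set_option autoImplicit false

universe u

namespace Cfsg.Agent.Lib.SixThree54

open Cfsg Subgroup

variable {L : Type u} [Group L] {H : Type u} [Group H]

/-- What is known about `H = C(t)`, the embedded cover `ι : L → H` with centre `⟨x, t⟩`, and an element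
`w` inverting `x`. -/
structure Local (ι : L →* H) (x t : L) (w : H) : Prop where
  facts : CoverFacts L
  perfect : ⁅(⊤ : Subgroup L), (⊤ : Subgroup L)⁆ = ⊤
  inj : Function.Injective ι
  hx : orderOf x = 3
  ht : orderOf t = 2
  xc : x ∈ Subgroup.center L
  tc : t ∈ Subgroup.center L
  center_eq : ∀ z ∈ Subgroup.center L, ∃ i j : ℕ, z = x ^ i * t ^ j
  cent_x : Subgroup.centralizer ({ι x} : Set H) = ι.range
  inverts : w * ι x * w⁻¹ = (ι x)⁻¹
  t_central : ι t ∈ Subgroup.center H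
  charTwo : Subgroup.centralizer (pCore 2 H : Set H) ≤ pCore 2 H
  fix_lt : ∀ a : L, orderOf a = 3 → a ∉ Subgroup.center L →
    Nat.card ↥(pCore 2 H ⊓ Subgroup.centralizer ({ι a} : Set H)) < 128
  not_elementary : ∀ a : L, orderOf a = 3 → a ∉ Subgroup.center L →
    Nat.card ↥(pCore 2 H ⊓ Subgroup.centralizer ({ι a} : Set H)) = 32 →
      ¬ IsElementaryAbelian 2 (pCore 2 H)
  cent_le : ∀ a : L, orderOf a = 3 → a ∉ Subgroup.center L →
    Nat.card ↥(pCore 2 H ⊓ Subgroup.centralizer ({ι a} : Set H)) = 32 →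
      Nat.card ↥(Subgroup.centralizer ({ι a} : Set H)) ≤ 2304

/-- The order of the image of a subgroup times that of the kernel inside it. -/
theorem card_map_mul_ker {A B : Type*} [Group A] [Group B] (f : A →* B) (K : Subgroup A) :
    Nat.card ↥(K.map f) * Nat.card ↥(f.ker ⊓ K) = Nat.card ↥K := by
  have hr : (f.comp K.subtype).range = K.map f := by
    rw [MonoidHom.range_comp, Subgroup.range_subtype]
  have hk : (f.comp K.subtype).ker = (f.ker ⊓ K).subgroupOf K := by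
    ext y
    simp [Subgroup.mem_subgroupOf, MonoidHom.mem_ker]
  rw [← hr, ← Nat.card_congr (Subgroup.subgroupOfEquivOfLe (inf_le_right : f.ker ⊓ K ≤ K)).toEquiv, ← hk,
    ← Nat.card_congr (QuotientGroup.quotientKerEquivRange (f.comp K.subtype)).toEquiv]
  exact (Subgroup.card_eq_card_quotient_mul_card_subgroup _).symm

/-- An element conjugating a generator into `⟨x⟩` normalises it. -/
theorem mem_normalizer_zpowers {A : Type*} [Group A] [Finite A] {x q : A}
    (h : q * x * q⁻¹ ∈ Subgroup.zpowers x) : q ∈ Subgroup.normalizer (Subgroup.zpowers x : Set A) := by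
  have e : (Subgroup.zpowers x).map (MulAut.conj q).toMonoidHom = Subgroup.zpowers x := by
    refine Subgroup.eq_of_le_of_card_ge ?_ (le_of_eq ?_)
    · rw [MonoidHom.map_zpowers, Subgroup.zpowers_le]
      simpa using h
    · exact (Subgroup.card_map_of_injective (MulAut.conj q).injective).symm
  rw [Subgroup.mem_normalizer_iff]
  intro y
  constructor
  · intro hy
    rw [← e]
    exact ⟨y, hy, rfl⟩
  · intro hy
    rw [← e] at hy
    obtain ⟨v, hv, hve⟩ := hy
    have : v = y := (MulAut.conj q).injective hve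
    exact this ▸ hv

theorem natCard_eq_two_pow {A : Type*} [Group A] [Finite A] {K : Subgroup A} (hK : IsPGroup 2 ↥K) :
    ¬ 3 ∣ Nat.card ↥K := by
  haveI : Fact (Nat.Prime 2) := ⟨Nat.prime_two⟩
  obtain ⟨k, hk⟩ := IsPGroup.iff_card.1 hK
  rw [hk]
  intro h
  exact absurd (Nat.Prime.dvd_of_dvd_pow Nat.prime_three h) (by norm_num)

theorem not_three_dvd_two_pow (k : ℕ) : ¬ 3 ∣ 2 ^ k := fun h =>
  absurd (Nat.Prime.dvd_of_dvd_pow Nat.prime_three h) (by norm_num)

namespace Local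

variable [Finite L] [Finite H] {ι : L →* H} {x t : L} {w : H} (D : Local ι x t w)
include D

theorem isPGroup_core : IsPGroup 2 ↥(pCore 2 H) :=
  haveI : Fact (Nat.Prime 2) := ⟨Nat.prime_two⟩
  PSolvable.pCore_isPGroup

theorem x_pow : x ^ 3 = 1 := by rw [← D.hx]; exact pow_orderOf_eq_one x

theorem t_pow : t ^ 2 = 1 := by rw [← D.ht]; exact pow_orderOf_eq_one t

theorem ix_pow : ι x ^ 3 = 1 := by rw [← map_pow, D.x_pow, map_one]

theorem order_it : orderOf (ι t) = 2 := by rw [orderOf_injective ι D.inj, D.ht]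

theorem order_ix : orderOf (ι x) = 3 := by rw [orderOf_injective ι D.inj, D.hx]

theorem t_mem : ι t ∈ pCore 2 H := by
  haveI : Fact (Nat.Prime 2) := ⟨Nat.prime_two⟩
  haveI : (Subgroup.zpowers (ι t)).Normal := ⟨fun n hn g => by
    obtain ⟨i, rfl⟩ := Subgroup.mem_zpowers_iff.1 hn
    rw [← conj_zpow, Subgroup.mem_center_iff.1 D.t_central g, mul_inv_cancel_right]
    exact zpow_mem (Subgroup.mem_zpowers _) i⟩
  refine PSolvable.le_pCore ?_ (Subgroup.mem_zpowers (ι t))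
  exact IsPGroup.of_card (n := 1) (by rw [Nat.card_zpowers, D.order_it, pow_one])

theorem ix_not_mem : ι x ∉ pCore 2 H := by
  intro h
  haveI : Fact (Nat.Prime 2) := ⟨Nat.prime_two⟩
  obtain ⟨k, hk⟩ := IsPGroup.iff_card.1 D.isPGroup_core
  have h3 : orderOf (ι x) ∣ Nat.card ↥(pCore 2 H) := Subgroup.orderOf_dvd_natCard _ h
  rw [D.order_ix, hk] at h3
  exact not_three_dvd_two_pow k h3

theorem comap_le {l : L} (hl : ι l ∈ pCore 2 H) : l ∈ Subgroup.zpowers t := by
  haveI : Fact (Nat.Prime 2) := ⟨Nat.prime_two⟩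
  rcases D.facts.normal ((pCore 2 H).comap ι) inferInstance with h | h
  · obtain ⟨i, j, rfl⟩ := D.center_eq _ (h hl)
    obtain ⟨k, hk⟩ := D.isPGroup_core ⟨_, hl⟩
    have hk' : (x ^ i * t ^ j) ^ 2 ^ k = 1 := D.inj (by
      rw [map_pow, map_one]; exact congrArg Subtype.val hk)
    have h2 : (x ^ i) ^ 2 ^ (k + 1) = 1 := by
      have he : (x ^ i * t ^ j) ^ 2 ^ (k + 1) = 1 := by rw [pow_succ, pow_mul, hk', one_pow]
      rwa [Commute.mul_pow (show Commute (x ^ i) (t ^ j) from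
        Commute.pow_pow (show Commute x t from Subgroup.mem_center_iff.1 D.tc x) i j),
        ← pow_mul t, show j * 2 ^ (k + 1) = 2 * (j * 2 ^ k) by ring, pow_mul t, D.t_pow, one_pow,
        mul_one] at he
    rw [← pow_mul] at h2
    have h3 : 3 ∣ i := by
      have := D.hx ▸ orderOf_dvd_of_pow_eq_one h2
      exact (Nat.Prime.dvd_mul Nat.prime_three).1 this |>.resolve_right (not_three_dvd_two_pow _)
    obtain ⟨c, rfl⟩ := h3
    rw [pow_mul, D.x_pow, one_pow, one_mul]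
    exact Subgroup.npow_mem_zpowers t j
  · exact absurd ((h ▸ Subgroup.mem_top x : x ∈ (pCore 2 H).comap ι)) D.ix_not_mem

theorem fix_x : pCore 2 H ⊓ Subgroup.centralizer ({ι x} : Set H) = Subgroup.zpowers (ι t) := by
  refine le_antisymm (fun e he => ?_) (Subgroup.zpowers_le.2 ⟨D.t_mem, ?_⟩)
  · obtain ⟨l, rfl⟩ := (D.cent_x ▸ he.2 : e ∈ ι.range)
    obtain ⟨i, rfl⟩ := Subgroup.mem_zpowers_iff.1 (D.comap_le he.1)
    rw [map_zpow]
    exact zpow_mem (Subgroup.mem_zpowers _) i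
  · exact Subgroup.mem_centralizer_singleton_iff.2 (Subgroup.mem_center_iff.1 D.t_central (ι x)).symm

theorem card_fix_x : Nat.card ↥(pCore 2 H ⊓ Subgroup.centralizer ({ι x} : Set H)) = 2 := by
  rw [D.fix_x, Nat.card_zpowers, D.order_it]

theorem mul_order_three {a : L} (ha : orderOf a = 3) (hac : a ∉ Subgroup.center L) (j : ℕ) :
    orderOf (x ^ j * a) = 3 ∧ x ^ j * a ∉ Subgroup.center L := by
  have hn : x ^ j * a ∉ Subgroup.center L := fun h =>
    hac (by simpa using mul_mem (inv_mem (pow_mem D.xc j)) h)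
  refine ⟨orderOf_eq_prime ?_ (fun h => hn (h ▸ one_mem _)), hn⟩
  rw [Commute.mul_pow (show Commute (x ^ j) a from (Subgroup.mem_center_iff.1 (pow_mem D.xc j) a).symm),
    ← pow_mul, mul_comm j 3, pow_mul, D.x_pow, one_pow, one_mul, ← ha, pow_orderOf_eq_one]

theorem fix_le {a : L} (ha : orderOf a = 3) (hac : a ∉ Subgroup.center L) :
    Nat.card ↥(pCore 2 H ⊓ Subgroup.centralizer ({ι a} : Set H)) ≤ 32 := by
  classical
  haveI : Fact (Nat.Prime 2) := ⟨Nat.prime_two⟩
  set B := pCore 2 H ⊓ Subgroup.centralizer ({ι a} : Set H) with hB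
  have hB2 : IsPGroup 2 ↥B := D.isPGroup_core.to_le inf_le_left
  obtain ⟨k, hk⟩ := IsPGroup.iff_card.1 hB2
  have hcm : Commute (ι x) (ι a) := (show Commute x a from (Subgroup.mem_center_iff.1 D.xc a).symm).map ι
  have hmem : ∀ b : ↥B, ι x * (b : H) * (ι x)⁻¹ ∈ B := by
    intro b
    refine ⟨(inferInstance : (pCore 2 H).Normal).conj_mem _ b.2.1 _, ?_⟩
    have hb : Commute (b : H) (ι a) := Subgroup.mem_centralizer_singleton_iff.1 b.2.2
    exact Subgroup.mem_centralizer_singleton_iff.2 (((hcm.mul_left hb).mul_left hcm.inv_left)).eq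
  have hmod := card_fixed_mod (fun b => (⟨_, hmem b⟩ : ↥B)) (fun b => Subtype.ext (by
    show ι x * (ι x * (ι x * (b : H) * (ι x)⁻¹) * (ι x)⁻¹) * (ι x)⁻¹ = b
    rw [show ι x * (ι x * (ι x * (b : H) * (ι x)⁻¹) * (ι x)⁻¹) * (ι x)⁻¹ =
      (ι x * ι x * ι x) * b * (ι x * ι x * ι x)⁻¹ by group,
      show ι x * ι x * ι x = ι x ^ 3 by rw [pow_succ, pow_two], D.ix_pow]
    group))
  have hfix : Nat.card {b : ↥B // (⟨_, hmem b⟩ : ↥B) = b} = 2 := by
    rw [← D.card_fix_x]
    refine Nat.card_congr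
      { toFun := fun b => ⟨(b.1 : H), b.1.2.1, Subgroup.mem_centralizer_singleton_iff.2
          (mul_inv_eq_iff_eq_mul.1 (congrArg Subtype.val b.2)).symm⟩
        invFun := fun e => ⟨⟨(e : H), e.2.1, ?_⟩, Subtype.ext ?_⟩
        left_inv := fun _ => rfl
        right_inv := fun _ => rfl }
    · obtain ⟨i, hi⟩ := Subgroup.mem_zpowers_iff.1 (D.fix_x.le e.2)
      rw [← hi]
      exact zpow_mem (Subgroup.mem_centralizer_singleton_iff.2
        (Subgroup.mem_center_iff.1 D.t_central (ι a)).symm) i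
    · show ι x * (e : H) * (ι x)⁻¹ = e
      rw [← Subgroup.mem_centralizer_singleton_iff.1 e.2.2, mul_inv_cancel_right]
  rw [hfix, hk] at hmod
  have hlt := D.fix_lt a ha hac
  rw [← hB, hk] at hlt
  rw [hk]
  have h7 : k < 7 := by
    by_contra h
    exact absurd (Nat.pow_le_pow_right (show 1 ≤ 2 by norm_num) (not_lt.1 h)) (by omega)
  interval_cases k <;> simp_all

theorem exists_fixed_coset (N : Subgroup ↥(pCore 2 H)) (ψ : MulAut ↥(pCore 2 H))
    (h3 : ∀ e, ψ (ψ (ψ e)) = e) (hN : ∀ n ∈ N, ψ n ∈ N) (e : ↥(pCore 2 H)) (he : e⁻¹ * ψ e ∈ N) :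
    ∃ n ∈ N, ψ (e * n) = e * n := by
  have hmem : ∀ n : ↥N, e⁻¹ * ψ (e * n) ∈ N := fun n => by
    rw [map_mul, ← mul_assoc]
    exact N.mul_mem he (hN n n.2)
  obtain ⟨n, hn⟩ := exists_fixed_of_cube (fun n => (⟨_, hmem n⟩ : ↥N)) (fun n => Subtype.ext (by
    show e⁻¹ * ψ (e * (e⁻¹ * ψ (e * (e⁻¹ * ψ (e * n))))) = n
    rw [mul_inv_cancel_left, mul_inv_cancel_left, h3, inv_mul_cancel_left]))
    (natCard_eq_two_pow (D.isPGroup_core.to_subgroup N))
  exact ⟨n, n.2, inv_mul_eq_iff_eq_mul.1 (congrArg Subtype.val hn)⟩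

/-- The structure of the two-core. -/
theorem core :
    IsExtraspecial 2 ↥(pCore 2 H) ∧ Nat.card ↥(pCore 2 H) = 2 ^ 13 ∧
      (∀ a : L, orderOf a = 3 → a ∉ Subgroup.center L →
        Nat.card ↥(pCore 2 H ⊓ Subgroup.centralizer ({ι a} : Set H)) = 32) := by
  classical
  haveI : Fact (Nat.Prime 2) := ⟨Nat.prime_two⟩
  have hE := D.isPGroup_core
  haveI := hE.isNilpotent
  let ψ : L →* MulAut ↥(pCore 2 H) := (MulAut.conjNormal).comp ι
  have hψ : ∀ (l : L) (e : ↥(pCore 2 H)), ((ψ l e : ↥(pCore 2 H)) : H) = ι l * e * (ι l)⁻¹ :=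
    fun l e => MulAut.conjNormal_apply _ _
  have hψt : ∀ (l : L), ψ l ⟨ι t, D.t_mem⟩ = ⟨ι t, D.t_mem⟩ := fun l => Subtype.ext (by
    rw [hψ, Subgroup.mem_center_iff.1 D.t_central (ι l), mul_inv_cancel_right])
  have hψ3 : ∀ e, ψ x (ψ x (ψ x e)) = e := fun e => by
    rw [← MulAut.mul_apply, ← MulAut.mul_apply, ← map_mul, ← map_mul,
      show x * x * x = x ^ 3 by rw [pow_succ, pow_two], D.x_pow, map_one]
    rfl
  have hfixe : ∀ e : ↥(pCore 2 H), ψ x e = e → e ∈ Subgroup.zpowers (⟨ι t, D.t_mem⟩ : ↥(pCore 2 H)) := by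
    intro e he
    have hmem : (e : H) ∈ pCore 2 H ⊓ Subgroup.centralizer ({ι x} : Set H) :=
      ⟨e.2, Subgroup.mem_centralizer_singleton_iff.2
        (mul_inv_eq_iff_eq_mul.1 ((hψ x e).symm.trans (congrArg Subtype.val he))).symm⟩
    rw [D.fix_x] at hmem
    obtain ⟨i, hi⟩ := Subgroup.mem_zpowers_iff.1 hmem
    exact Subgroup.mem_zpowers_iff.2 ⟨i, Subtype.ext (by rw [SubgroupClass.coe_zpow]; exact hi)⟩
  set T : Subgroup ↥(pCore 2 H) := Subgroup.zpowers ⟨ι t, D.t_mem⟩ with hT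
  have hTc : T ≤ Subgroup.center ↥(pCore 2 H) := Subgroup.zpowers_le.2 (Subgroup.mem_center_iff.2 fun e =>
    Subtype.ext (Subgroup.mem_center_iff.1 D.t_central (e : H)))
  have hT2 : Nat.card ↥T = 2 := by
    rw [hT, Nat.card_zpowers, ← Subgroup.orderOf_coe]
    exact D.order_it
  set N : Subgroup ↥(pCore 2 H) := frattini ↥(pCore 2 H) ⊔ T with hN
  have hTn : T.Normal := ⟨fun n hn g => by
    rw [Subgroup.mem_center_iff.1 (hTc hn) g, mul_inv_cancel_right]; exact hn⟩
  haveI : N.Normal := Subgroup.sup_normal _ _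
  have hTinv : ∀ l, ∀ n ∈ T, ψ l n ∈ T := by
    intro l n hn
    obtain ⟨i, rfl⟩ := Subgroup.mem_zpowers_iff.1 hn
    rw [map_zpow, hψt]
    exact zpow_mem (Subgroup.mem_zpowers _) i
  have hinv : ∀ l, ∀ n ∈ N, ψ l n ∈ N := by
    intro l
    have hle : N ≤ N.comap (ψ l).toMonoidHom := by
      refine sup_le (fun n hn => Subgroup.mem_sup_left ?_) (fun n hn => Subgroup.mem_sup_right (hTinv l n hn))
      exact (Subgroup.characteristic_iff_le_comap.1 (inferInstance : (frattini ↥(pCore 2 H)).Characteristic)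
        (ψ l)) hn
    exact fun n hn => hle hn
  let Ψ := Wielandt.quotientAct ψ N hinv
  have h2 : ∀ v : ↥(pCore 2 H) ⧸ N, v * v = 1 := by
    intro v
    induction v using QuotientGroup.induction_on with
    | _ e =>
      rw [← QuotientGroup.mk_mul, QuotientGroup.eq_one_iff, ← pow_two]
      exact Subgroup.mem_sup_left (PFrattini.pow_mem_frattini hE e)
  have hfq : ∀ v : ↥(pCore 2 H) ⧸ N, Ψ x v = v → v = 1 := by
    intro v
    induction v using QuotientGroup.induction_on with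
    | _ e =>
      intro he
      have he' : e⁻¹ * ψ x e ∈ N := QuotientGroup.eq.1 he.symm
      obtain ⟨n, hn, hf⟩ := D.exists_fixed_coset N (ψ x) hψ3 (hinv x) e he'
      have := Subgroup.mem_sup_right (S := frattini ↥(pCore 2 H)) (hfixe _ hf)
      rw [← hN] at this
      rw [QuotientGroup.eq_one_iff]
      simpa using N.mul_mem this (N.inv_mem hn)
  have hxE : ι x ∉ pCore 2 H := D.ix_not_mem
  have hTtop : T ≠ ⊤ := by
    intro h
    refine hxE (D.charTwo (Subgroup.mem_centralizer_iff.2 fun e he => ?_))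
    obtain ⟨i, hi⟩ := Subgroup.mem_zpowers_iff.1
      ((h ▸ Subgroup.mem_top (⟨e, he⟩ : ↥(pCore 2 H))) : (⟨e, he⟩ : ↥(pCore 2 H)) ∈ T)
    have : e = ι t ^ i := (congrArg Subtype.val hi).symm.trans (SubgroupClass.coe_zpow _ _)
    rw [this]
    exact ((Subgroup.mem_center_iff.1 (zpow_mem D.t_central i)) (ι x)).symm
  have hNtop : N ≠ ⊤ := fun h => hTtop (frattini_nongenerating (by rw [sup_comm]; exact h))
  haveI : Nontrivial (↥(pCore 2 H) ⧸ N) := by
    obtain ⟨e, -, he⟩ := SetLike.exists_of_lt (lt_top_iff_ne_top.2 hNtop)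
    exact ⟨⟨QuotientGroup.mk e, 1, fun h => he ((QuotientGroup.eq_one_iff e).1 h)⟩⟩
  have hbig : 2 ^ 12 ≤ Nat.card (↥(pCore 2 H) ⧸ N) :=
    two_pow_twelve_le D.facts D.perfect x D.x_pow D.xc Ψ h2 hfq
  -- Wielandt
  have hW : ∀ a : L, orderOf a = 3 → a ∉ Subgroup.center L →
      Nat.card ↥(pCore 2 H) * 8 =
        2 * Nat.card ↥(pCore 2 H ⊓ Subgroup.centralizer ({ι a} : Set H)) *
          Nat.card ↥(pCore 2 H ⊓ Subgroup.centralizer ({ι (x ^ 1 * a)} : Set H)) *
          Nat.card ↥(pCore 2 H ⊓ Subgroup.centralizer ({ι (x ^ 2 * a)} : Set H)) := by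
    intro a ha hac
    have h := card_mul_fixed (pCore 2 H) hE (ι x) (ι a) D.ix_pow
      (by rw [← map_pow, ← ha, pow_orderOf_eq_one, map_one])
      ((show Commute x a from (Subgroup.mem_center_iff.1 D.xc a).symm).map ι)
    have hboth : pCore 2 H ⊓ Subgroup.centralizer ({ι x} : Set H) ⊓ Subgroup.centralizer ({ι a} : Set H) =
        Subgroup.zpowers (ι t) := by
      rw [D.fix_x]
      exact inf_eq_left.2 (Subgroup.zpowers_le.2 (Subgroup.mem_centralizer_singleton_iff.2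
        (Subgroup.mem_center_iff.1 D.t_central (ι a)).symm))
    rw [hboth, Nat.card_zpowers, D.order_it, D.card_fix_x] at h
    simpa [map_mul, map_pow] using h
  obtain ⟨a₀, ha₀, hac₀⟩ := D.facts.exists_three
  have hcardE : Nat.card ↥(pCore 2 H) = 2 ^ 13 ∧ Nat.card ↥N = 2 := by
    have hT' : 2 ≤ Nat.card ↥N := hT2.symm.trans_le (Subgroup.card_le_of_le le_sup_right)
    have hsplit := Subgroup.card_eq_card_quotient_mul_card_subgroup N
    have h1 := hW a₀ ha₀ hac₀
    have b1 := D.fix_le ha₀ hac₀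
    have b2 := D.fix_le (D.mul_order_three ha₀ hac₀ 1).1 (D.mul_order_three ha₀ hac₀ 1).2
    have b3 := D.fix_le (D.mul_order_three ha₀ hac₀ 2).1 (D.mul_order_three ha₀ hac₀ 2).2
    have hup : Nat.card ↥(pCore 2 H) * 8 ≤ 2 * 32 * 32 * 32 := by
      rw [h1]; gcongr
    have hlo : 2 ^ 12 * 2 ≤ Nat.card ↥(pCore 2 H) := hsplit ▸ Nat.mul_le_mul hbig hT'
    have he : Nat.card ↥(pCore 2 H) = 2 ^ 13 := by norm_num at *; omega
    refine ⟨he, le_antisymm ?_ hT'⟩
    have h3 : 2 ^ 12 * Nat.card ↥N ≤ 2 ^ 13 := he ▸ hsplit ▸ Nat.mul_le_mul_right _ hbig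
    omega
  obtain ⟨hcard, hN2⟩ := hcardE
  have hb32 : ∀ a : L, orderOf a = 3 → a ∉ Subgroup.center L →
      Nat.card ↥(pCore 2 H ⊓ Subgroup.centralizer ({ι a} : Set H)) = 32 := by
    intro a ha hac
    have h1 := hW a ha hac
    rw [hcard] at h1
    have b1 := D.fix_le ha hac
    have b2 := D.fix_le (D.mul_order_three ha hac 1).1 (D.mul_order_three ha hac 1).2
    have b3 := D.fix_le (D.mul_order_three ha hac 2).1 (D.mul_order_three ha hac 2).2
    refine le_antisymm b1 ?_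
    have h4 : 2 ^ 13 * 8 ≤ 2 * Nat.card ↥(pCore 2 H ⊓ Subgroup.centralizer ({ι a} : Set H)) * 32 * 32 := by
      rw [h1]; gcongr
    omega
  refine ⟨?_, hcard, hb32⟩
  have hNT : N = T := (Subgroup.eq_of_le_of_card_ge le_sup_right (by rw [hN2, hT2])).symm
  have hfT : frattini ↥(pCore 2 H) ≤ T := hNT ▸ le_sup_left
  have hnel : ¬ IsElementaryAbelian 2 (pCore 2 H) := D.not_elementary a₀ ha₀ hac₀ (hb32 a₀ ha₀ hac₀)
  have hsq : ∀ e : ↥(pCore 2 H), e ^ 2 ∈ T := fun e => hfT (PFrattini.pow_mem_frattini hE e)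
  have hnab : ¬ ∀ e f : ↥(pCore 2 H), e * f = f * e := by
    intro hab
    refine hnel ⟨⟨⟨hab⟩⟩, fun e he => ?_⟩
    let e' : ↥(pCore 2 H) := ⟨e, he⟩
    have hfix : ψ x (e' * ψ x e' * ψ x (ψ x e')) = e' * ψ x e' * ψ x (ψ x e') := by
      rw [map_mul, map_mul, hψ3, hab (ψ x e' * ψ x (ψ x e')) e', ← mul_assoc]
    have hvT := hfixe _ hfix
    have hv2 : (e' * ψ x e' * ψ x (ψ x e')) ^ 2 = 1 := by
      have := pow_card_eq_one' (G := ↥T) (x := ⟨_, hvT⟩)
      rw [hT2] at this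
      exact congrArg Subtype.val this
    obtain ⟨i, hi⟩ := Subgroup.mem_zpowers_iff.1 (hsq e')
    have hψsq : ψ x (e' ^ 2) = e' ^ 2 := by rw [← hi, map_zpow, hψt]
    rw [Commute.mul_pow (hab _ _), Commute.mul_pow (hab _ _), ← map_pow, hψsq, ← map_pow, ← map_pow,
      hψsq, hψsq] at hv2
    have he4 : (e' ^ 2) ^ 2 = 1 := by
      have := pow_card_eq_one' (G := ↥T) (x := ⟨_, hsq e'⟩)
      rw [hT2] at this
      exact congrArg Subtype.val this
    rw [← pow_two, he4, one_mul] at hv2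
    exact congrArg Subtype.val hv2
  have hcen : Subgroup.center ↥(pCore 2 H) = T := by
    refine le_antisymm ?_ hTc
    by_contra hle
    have hZinv : ∀ l, ∀ v ∈ (Subgroup.center ↥(pCore 2 H)).map (QuotientGroup.mk' N),
        Ψ l v ∈ (Subgroup.center ↥(pCore 2 H)).map (QuotientGroup.mk' N) := by
      rintro l _ ⟨e, he, rfl⟩
      refine ⟨ψ l e, Subgroup.mem_center_iff.2 fun f => ?_, rfl⟩
      obtain ⟨f', rfl⟩ := (ψ l).surjective f
      rw [← map_mul, ← map_mul, Subgroup.mem_center_iff.1 he f']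
    let Φ := Wielandt.restrictAct Ψ _ hZinv
    haveI : Nontrivial ↥((Subgroup.center ↥(pCore 2 H)).map (QuotientGroup.mk' N)) := by
      obtain ⟨e, he, heT⟩ := SetLike.not_le_iff_exists.1 hle
      refine ⟨⟨⟨_, e, he, rfl⟩, 1, fun h => heT ?_⟩⟩
      have h' : QuotientGroup.mk' N e = 1 := congrArg Subtype.val h
      rw [QuotientGroup.mk'_apply, QuotientGroup.eq_one_iff] at h'
      exact hNT ▸ h'
    have hbig' : 2 ^ 12 ≤ Nat.card ↥((Subgroup.center ↥(pCore 2 H)).map (QuotientGroup.mk' N)) :=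
      two_pow_twelve_le D.facts D.perfect x D.x_pow D.xc Φ (fun v => Subtype.ext (h2 v.1))
        (fun v hv => Subtype.ext (hfq v.1 (congrArg Subtype.val hv)))
    have hq : Nat.card (↥(pCore 2 H) ⧸ N) = 2 ^ 12 := by
      have := Subgroup.card_eq_card_quotient_mul_card_subgroup N
      rw [hN2, hcard] at this
      omega
    have htop := Subgroup.eq_top_of_le_card _ (hq.le.trans hbig')
    refine hnab fun e f => ?_
    obtain ⟨z, hz, hze⟩ := (htop ▸ Subgroup.mem_top (QuotientGroup.mk' N e) :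
      QuotientGroup.mk' N e ∈ (Subgroup.center ↥(pCore 2 H)).map (QuotientGroup.mk' N))
    have hmem : z⁻¹ * e ∈ Subgroup.center ↥(pCore 2 H) := hTc (hNT ▸ QuotientGroup.eq.1 hze)
    have he : e ∈ Subgroup.center ↥(pCore 2 H) := by simpa using mul_mem hz hmem
    exact (Subgroup.mem_center_iff.1 he f).symm
  have hcle : commutator ↥(pCore 2 H) ≤ T := (PFrattini.commutator_le_frattini hE).trans hfT
  have hbot_or : ∀ K : Subgroup ↥(pCore 2 H), K ≤ T → K = ⊥ ∨ K = T := by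
    intro K hK
    rcases (Nat.dvd_prime Nat.prime_two).1 (hT2 ▸ Subgroup.card_dvd_of_le hK) with h | h
    · exact Or.inl (Subgroup.eq_bot_of_card_eq _ h)
    · exact Or.inr (Subgroup.eq_of_le_of_card_ge hK (by rw [hT2, h]))
  have hcomm : commutator ↥(pCore 2 H) = T := (hbot_or _ hcle).resolve_left fun h =>
    hnab fun e f => commutatorElement_eq_one_iff_mul_comm.1 (Subgroup.mem_bot.1 (h ▸
      Subgroup.commutator_mem_commutator (Subgroup.mem_top e) (Subgroup.mem_top f)))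
  refine ⟨⟨hE, hcen.symm ▸ ?_, hcen.symm ▸ hcomm⟩, hcen.symm ▸ hT2⟩
  exact le_antisymm hfT (hcomm ▸ PFrattini.commutator_le_frattini hE)

end Local

end Cfsg.Agent.Lib.SixThree54
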