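import Cfsg.Agent.Lib.SixThree54.Spec
import Cfsg.Agent.Lib.J4Type19.Central
import Cfsg.Agent.Lib.J4Fusion14.M22Three
import Cfsg.Agent.Lib.J4Seven4.M22Seven

/-!
# The perfect sixfold cover of M22

Written by helper18 for row S3317: the facts of `CoverFacts` in every perfect central extension of
`M22` with cyclic centre of order six.
-/

set_option autoImplicit false

universe u

namespace Cfsg.Agent.Lib.SixThree54.Cover

open Cfsg Subgroup
open Cfsg.Agent.Lib.J4Type19 (M22t m22_card m22_finite exists_mFacts)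

section General

variable {G : Type*} [Group G]

/-- A permutation of three points by conjugation by a two-element fixes one of them. -/
theorem fixed_of_three {u x y z : G} {k : ℕ} (hk : u ^ (2 ^ k) = 1) (hxz : x ≠ z) (hyz : y ≠ z)
    (hxy : x ≠ y) (hy : u * y * u⁻¹ = x ∨ u * y * u⁻¹ = y ∨ u * y * u⁻¹ = z)
    (hz : u * z * u⁻¹ = x ∨ u * z * u⁻¹ = y ∨ u * z * u⁻¹ = z) (hx : u * x * u⁻¹ = y) :
    Commute u x ∨ Commute u y ∨ Commute u z := by
  have hinj : ∀ {p q : G}, u * p * u⁻¹ = u * q * u⁻¹ → p = q := fun h =>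
    mul_left_cancel (mul_right_cancel h)
  have hfix : ∀ {p : G}, u * p * u⁻¹ = p → Commute u p := fun h => mul_inv_eq_iff_eq_mul.1 h
  rcases hy with hy | hy | hy
  · rcases hz with hz | hz | hz
    · exact absurd (hinj (hy.trans hz.symm)) hyz
    · exact absurd (hinj (hx.trans hz.symm)) hxz
    · exact Or.inr (Or.inr (hfix hz))
  · exact absurd (hinj (hx.trans hy.symm)) hxy
  · rcases hz with hz | hz | hz
    · have h3 : Commute (u ^ 3) x := mul_inv_eq_iff_eq_mul.1 (by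
        calc u ^ 3 * x * (u ^ 3)⁻¹ = u * (u * (u * x * u⁻¹) * u⁻¹) * u⁻¹ := by
              rw [show u ^ 3 = u * u * u by simp [pow_succ]]; group
          _ = x := by rw [hx, hy, hz])
      have hcop : Nat.Coprime 3 (orderOf u) :=
        Nat.Coprime.coprime_dvd_right (orderOf_dvd_of_pow_eq_one hk)
          (Nat.Coprime.pow_right k (by norm_num))
      obtain ⟨m, hm⟩ := exists_pow_eq_self_of_coprime hcop
      exact Or.inl (hm ▸ h3.pow_left m)
    · exact absurd (hinj (hx.trans hz.symm)) hxz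
    · exact absurd (hinj (hy.trans hz.symm)) hyz

/-- The cube of a product of two elements with central commutator of exponent three. -/
theorem mul_cube {y w c : G} (hc : c ∈ center G) (hc3 : c ^ 3 = 1) (h : w * y = c * (y * w)) :
    (y * w) ^ 3 = y ^ 3 * w ^ 3 := by
  have hcc : ∀ g, g * c = c * g := fun g => mem_center_iff.1 hc g
  have hmove : ∀ g, w * (y * g) = c * (y * (w * g)) := fun g => by
    rw [← mul_assoc, h]; simp only [mul_assoc]
  have hout : ∀ g g', g * (c * g') = c * (g * g') := fun g g' => by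
    rw [← mul_assoc, hcc, mul_assoc]
  calc (y * w) ^ 3 = y * (w * (y * (w * (y * w)))) := by simp [pow_succ, mul_assoc]
    _ = c * (c * (c * (y * (y * (y * (w * (w * w))))))) := by
        rw [hmove w, hout y, hout w, hout y, hmove, hout y, hmove, hout y, hout y]
    _ = y ^ 3 * w ^ 3 := by
        rw [← mul_assoc c c, ← mul_assoc (c * c) c, show c * c * c = 1 by rw [← hc3]; simp [pow_succ],
          one_mul]
        simp [pow_succ, mul_assoc]

theorem card_eq_inf_mul {G' : Type*} [Group G'] (f : G →* G') (H : Subgroup G) :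
    Nat.card ↥H = Nat.card ↥(f.ker ⊓ H) * Nat.card ↥(H.map f) := by
  have h := (f.comp H.subtype).ker.card_mul_index
  have hk : (f.comp H.subtype).ker = (f.ker ⊓ H).subgroupOf H := by
    ext x
    simp [mem_subgroupOf]
  rw [Subgroup.index_ker, MonoidHom.range_comp, Subgroup.range_subtype, hk,
    Nat.card_congr (subgroupOfEquivOfLe (inf_le_right : f.ker ⊓ H ≤ H)).toEquiv] at h
  exact h.symm

end General

/-! ## Facts on M22 -/

theorem card_cent_invol {t : M22t} (ht : orderOf t = 2) :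
    Nat.card ↥(centralizer ({t} : Set M22t)) = 384 := by
  have := m22_finite
  obtain ⟨F⟩ := exists_mFacts
  have h := J4Fusion14.M22Three.card_conj_mul t
  have e : Nat.card {y : M22t // IsConj t y} = 1155 := by
    rw [← J4Seven4.m22_facts.c2]
    refine Nat.card_congr (Equiv.subtypeEquivRight fun y =>
      ⟨fun hy => ?_, fun hy => F.inv_conj t y ht hy⟩)
    obtain ⟨c, rfl⟩ := isConj_iff.1 hy
    exact ((MulAut.conj c).orderOf_eq t).trans ht
  rw [e, m22_card] at h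
  omega

theorem exists_two_inverter : ∃ t u a : M22t, orderOf t = 2 ∧ orderOf a = 3 ∧ Commute t a ∧ Commute u t ∧
    (∃ k : ℕ, u ^ (2 ^ k) = 1) ∧ u * a * u⁻¹ = a⁻¹ := by
  have := m22_finite
  obtain ⟨T⟩ := J4Fusion14.exists_three
  have ha : orderOf T.a = 3 := orderOf_eq_prime (hp := ⟨Nat.prime_three⟩) T.a3 T.a1
  obtain ⟨g, hg⟩ := isConj_iff.1 (T.isConj T.a⁻¹ (by rw [orderOf_inv, ha]))
  obtain ⟨k, m, hm, hord⟩ := Nat.exists_eq_two_pow_mul_odd (orderOf_pos g).ne'
  obtain ⟨j, rfl⟩ := hm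
  have hg2 : Commute (g ^ 2) T.a := by
    refine mul_inv_eq_iff_eq_mul.1 ?_
    calc g ^ 2 * T.a * (g ^ 2)⁻¹ = g * (g * T.a * g⁻¹) * g⁻¹ := by rw [pow_two]; group
      _ = T.a := by rw [hg, ← conj_inv, hg, inv_inv]
  obtain ⟨u, hu⟩ : ∃ u, u = g ^ (2 * j + 1) := ⟨_, rfl⟩
  have hua : u * T.a * u⁻¹ = T.a⁻¹ := by
    rw [hu, pow_succ', pow_mul, show g * (g ^ 2) ^ j * T.a * (g * (g ^ 2) ^ j)⁻¹ =
      g * ((g ^ 2) ^ j * T.a * ((g ^ 2) ^ j)⁻¹) * g⁻¹ by group, (hg2.pow_left j).eq,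
      mul_inv_cancel_right, hg]
  have huk : u ^ (2 ^ k) = 1 := by rw [hu, ← pow_mul, mul_comm, ← hord, pow_orderOf_eq_one]
  obtain ⟨z, hz⟩ : ∃ z, z = T.t * T.t₁ := ⟨_, rfl⟩
  have hzz : z * z = 1 := by
    rw [hz, ← mul_assoc, mul_assoc T.t, ← T.comm.eq, ← mul_assoc, T.tt, one_mul, T.t₁₁]
  have hz1 : z ≠ 1 := fun h => T.t₁t (by
    rw [hz] at h
    calc T.t₁ = T.t * T.t * T.t₁ := by rw [T.tt, one_mul]
      _ = T.t := by rw [mul_assoc, h, mul_one])
  have hza : Commute z T.a := hz ▸ T.ta.mul_left T.t₁a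
  have hmem : ∀ s, Commute s T.a → s * s = 1 → s ≠ 1 →
      u * s * u⁻¹ = T.t ∨ u * s * u⁻¹ = T.t₁ ∨ u * s * u⁻¹ = z := by
    intro s hs hss hs1
    have hc : Commute (u * s * u⁻¹) T.a := by
      have h : Commute (u * s * u⁻¹) (u * T.a * u⁻¹) := hs.map (MulAut.conj u)
      rw [hua] at h
      simpa using h.inv_right
    rcases T.four _ hc (by rw [show u * s * u⁻¹ * (u * s * u⁻¹) = u * (s * s) * u⁻¹ by group, hss,
      mul_one, mul_inv_cancel]) with h | h | h | h
    · exact absurd (conj_eq_one_iff.1 h) hs1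
    · exact Or.inl h
    · exact Or.inr (Or.inl h)
    · exact Or.inr (Or.inr (h.trans hz.symm))
  have hx := hmem _ T.ta T.tt T.t1
  have hy := hmem _ T.t₁a T.t₁₁ T.t₁_ne
  have hw := hmem _ hza hzz hz1
  have hxz : T.t ≠ z := fun h => T.t₁_ne (by rw [hz] at h; exact left_eq_mul.1 h)
  have hyz : T.t₁ ≠ z := fun h => T.t1 (by rw [hz] at h; exact right_eq_mul.1 h)
  have ho : ∀ s : M22t, s * s = 1 → s ≠ 1 → orderOf s = 2 := fun s h1 h2 =>
    orderOf_eq_prime (hp := ⟨Nat.prime_two⟩) (by rw [pow_two, h1]) h2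
  have hfin : Commute u T.t ∨ Commute u T.t₁ ∨ Commute u z := by
    rcases hx with hx | hx | hx
    · exact Or.inl (mul_inv_eq_iff_eq_mul.1 hx)
    · exact fixed_of_three huk hxz hyz T.t₁t.symm hy hw hx
    · have hswap : ∀ {p : M22t}, (p = T.t ∨ p = T.t₁ ∨ p = z) → (p = T.t ∨ p = z ∨ p = T.t₁) :=
        fun h => h.elim Or.inl (fun h => h.elim (fun h => Or.inr (Or.inr h)) (fun h => Or.inr (Or.inl h)))
      rcases fixed_of_three huk T.t₁t.symm hyz.symm hxz (hswap hw) (hswap hy) hx with h | h | h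
      exacts [Or.inl h, Or.inr (Or.inr h), Or.inr (Or.inl h)]
  rcases hfin with h | h | h
  · exact ⟨T.t, u, T.a, ho _ T.tt T.t1, ha, T.ta, h, ⟨k, huk⟩, hua⟩
  · exact ⟨T.t₁, u, T.a, ho _ T.t₁₁ T.t₁_ne, ha, T.t₁a, h, ⟨k, huk⟩, hua⟩
  · exact ⟨z, u, T.a, ho _ hzz hz1, ha, hza, h, ⟨k, huk⟩, hua⟩

/-- The centraliser of an involution has no normal Sylow two-subgroup. -/
theorem no_normal_two {t : M22t} (ht : orderOf t = 2) (W : Subgroup M22t) (hW : Nat.card ↥W = 128)
    (hWc : W ≤ centralizer ({t} : Set M22t))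
    (hn : ∀ c ∈ centralizer ({t} : Set M22t), ∀ w ∈ W, c * w * c⁻¹ ∈ W) : False := by
  have := m22_finite
  have : Fact (Nat.Prime 2) := ⟨Nat.prime_two⟩
  obtain ⟨t₀, u₀, a₀, ht₀, ha₀, hta, hut, ⟨k, hk⟩, hinv⟩ := exists_two_inverter
  obtain ⟨F⟩ := exists_mFacts
  obtain ⟨g, rfl⟩ := isConj_iff.1 (F.inv_conj t₀ t ht₀ ht)
  obtain ⟨f, hf⟩ : ∃ f : MulAut M22t, f = MulAut.conj g := ⟨_, rfl⟩
  have hft : f t₀ = g * t₀ * g⁻¹ := by rw [hf]; rfl
  have huC : f u₀ ∈ centralizer ({g * t₀ * g⁻¹} : Set M22t) :=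
    mem_centralizer_singleton_iff.2 (hft ▸ (hut.map f).eq)
  have haC : f a₀ ∈ centralizer ({g * t₀ * g⁻¹} : Set M22t) :=
    mem_centralizer_singleton_iff.2 (hft ▸ (hta.symm.map f).eq)
  have hnorm : zpowers (f u₀) ≤ normalizer (W : Set M22t) := by
    refine zpowers_le.2 (mem_normalizer_iff.2 fun w => ⟨hn _ huC w, fun hw => ?_⟩)
    have := hn _ (inv_mem huC) _ hw
    simpa [mul_assoc] using this
  have hu2 : IsPGroup 2 ↥(zpowers (f u₀)) := by
    have hd : orderOf (f u₀) ∣ 2 ^ k := orderOf_dvd_of_pow_eq_one (by rw [← map_pow, hk, map_one])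
    obtain ⟨i, -, hi⟩ := (Nat.dvd_prime_pow Nat.prime_two).1 hd
    exact IsPGroup.of_card (n := i) (by rw [Nat.card_zpowers, hi])
  have hWp : IsPGroup 2 ↥W := IsPGroup.of_card (n := 7) (by rw [hW]; norm_num)
  have hsup := IsPGroup.to_sup_of_normal_right' hu2 hWp hnorm
  obtain ⟨m, hm⟩ := IsPGroup.iff_card.1 hsup
  have hd : 2 ^ m ∣ 443520 := hm ▸ m22_card ▸ card_subgroup_dvd_card _
  have hm7 : m ≤ 7 := by
    by_contra hlt
    have : 2 ^ 8 ∣ 443520 := (Nat.pow_dvd_pow 2 (by omega)).trans hd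
    norm_num at this
  have hle : Nat.card ↥(zpowers (f u₀) ⊔ W) ≤ Nat.card ↥W := by
    rw [hm, hW]
    exact (Nat.pow_le_pow_right (by norm_num) hm7).trans (by norm_num)
  have huW : f u₀ ∈ W := by
    rw [eq_of_le_of_card_ge (le_sup_right : W ≤ zpowers (f u₀) ⊔ W) hle]
    exact mem_sup_left (mem_zpowers _)
  have hinv' : f u₀ * f a₀ * (f u₀)⁻¹ = (f a₀)⁻¹ := by rw [← map_inv, ← map_mul, ← map_mul, hinv, map_inv]
  have h2 : f a₀ * f a₀ ∈ W := by
    have h := mul_mem (hn _ haC _ huW) (inv_mem huW)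
    rwa [show f a₀ * f u₀ * (f a₀)⁻¹ * (f u₀)⁻¹ = f a₀ * (f u₀ * f a₀ * (f u₀)⁻¹)⁻¹ by group, hinv',
      inv_inv] at h
  have ha3 : orderOf (f a₀) = 3 := by rw [f.orderOf_eq, ha₀]
  have haW : f a₀ ∈ W := by
    have h := mul_mem h2 h2
    rwa [show f a₀ * f a₀ * (f a₀ * f a₀) = f a₀ ^ 3 * f a₀ by simp [pow_succ, mul_assoc],
      ← ha3, pow_orderOf_eq_one, one_mul] at h
  have := Subgroup.orderOf_dvd_natCard W haW
  rw [ha3, hW] at this
  norm_num at this

/-! ## The extension -/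

variable {L : Type u} [Group L] [Finite L]

/-- The data of a perfect sixfold cover. -/
structure Ext (L : Type u) [Group L] where
  π : L →* M22t
  surj : Function.Surjective π
  ker_eq : π.ker = center L
  cyc : IsCyclic ↥(center L)
  six : Nat.card ↥(center L) = 6
  perf : ⁅(⊤ : Subgroup L), (⊤ : Subgroup L)⁆ = ⊤

namespace Ext

variable (E : Ext L)
include E

omit [Finite L] in
theorem central_iff (x : L) : E.π x = 1 ↔ x ∈ center L := by rw [← E.ker_eq, MonoidHom.mem_ker]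

theorem pow_six {x : L} (hx : x ∈ center L) : x ^ 6 = 1 := by
  have h : (⟨x, hx⟩ : ↥(center L)) ^ 6 = 1 := by rw [← E.six]; exact pow_card_eq_one'
  exact congrArg Subtype.val h

theorem card_L : Nat.card L = 2661120 := by
  have h := E.π.ker.card_mul_index
  rw [Subgroup.index_ker, MonoidHom.range_eq_top.2 E.surj, card_top, m22_card, E.ker_eq, E.six] at h
  exact h.symm

theorem card_comap (K : Subgroup M22t) : Nat.card ↥(K.comap E.π) = 6 * Nat.card ↥K := by
  have h := card_eq_inf_mul E.π (K.comap E.π)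
  rw [map_comap_eq_self_of_surjective E.surj K, inf_eq_left.2 (fun x hx => by
    rw [mem_comap, MonoidHom.mem_ker.1 hx]; exact one_mem K), E.ker_eq, E.six] at h
  exact h

theorem card_root {n : ℕ} {K : Subgroup L} (hK : K ≤ center L) (h : ∀ x ∈ K, x ^ n = 1) :
    Nat.card ↥K ∣ n := by
  have := E.cyc
  have : IsCyclic ↥K := isCyclic_of_le hK
  rw [← IsCyclic.exponent_eq_card]
  exact Monoid.exponent_dvd_of_forall_pow_eq_one fun x => Subtype.ext (by simpa using h x x.2)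

theorem orderOf_pi {p : ℕ} (hp : p.Prime) {x : L} (hx : orderOf x = p) (hc : x ∉ center L) :
    orderOf (E.π x) = p :=
  orderOf_eq_prime (hp := ⟨hp⟩) (by rw [← map_pow, ← hx, pow_orderOf_eq_one, map_one])
    fun h => hc ((E.central_iff x).1 h)

/-- The subgroup of order three of the centre. -/
theorem exists_T3 : ∃ T : Subgroup L, T ≤ center L ∧ Nat.card ↥T = 3 ∧
    ∀ x ∈ center L, x ^ 3 = 1 → x ∈ T := by
  let T : Subgroup L :=
    { carrier := {x | x ∈ center L ∧ x ^ 3 = 1}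
      one_mem' := ⟨one_mem _, one_pow 3⟩
      mul_mem' := fun {x y} hx hy => ⟨mul_mem hx.1 hy.1, by
        rw [(show Commute x y from mem_center_iff.1 hy.1 x).mul_pow, hx.2, hy.2, one_mul]⟩
      inv_mem' := fun {x} hx => ⟨inv_mem hx.1, by rw [inv_pow, hx.2, inv_one]⟩ }
  refine ⟨T, fun x hx => hx.1, ?_, fun x h1 h2 => ⟨h1, h2⟩⟩
  have : Fact (Nat.Prime 3) := ⟨Nat.prime_three⟩
  rcases (Nat.dvd_prime Nat.prime_three).1 (E.card_root (n := 3) (K := T) (fun x hx => hx.1) fun x hx => hx.2)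
    with h | h
  · exfalso
    obtain ⟨z, hz⟩ := exists_prime_orderOf_dvd_card' (G := ↥(center L)) 3 (by rw [E.six]; norm_num)
    rw [← Subgroup.orderOf_coe] at hz
    have hzT : (z : L) ∈ T := ⟨z.2, hz ▸ pow_orderOf_eq_one _⟩
    rw [eq_bot_of_card_eq T h, mem_bot] at hzT
    rw [hzT, orderOf_one] at hz
    norm_num at hz
  · exact h

theorem sylow_card (S : Sylow 3 L) : Nat.card ↥(S : Subgroup L) = 27 := by
  have : Fact (Nat.Prime 3) := ⟨Nat.prime_three⟩
  rw [S.card_eq_multiplicity, E.card_L, show (2661120 : ℕ) = 3 ^ 3 * 98560 by norm_num,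
    Nat.factorization_mul (by norm_num) (by norm_num), Nat.Prime.factorization_pow Nat.prime_three]
  simp [Nat.factorization_eq_zero_of_not_dvd (by norm_num : ¬ 3 ∣ 98560)]

theorem T3_le_sylow {T : Subgroup L} (hT : T ≤ center L) (hT3 : Nat.card ↥T = 3) (S : Sylow 3 L) :
    T ≤ (S : Subgroup L) := by
  have : Fact (Nat.Prime 3) := ⟨Nat.prime_three⟩
  have hp : IsPGroup 3 ↥T := IsPGroup.of_card (n := 1) (by rw [hT3]; norm_num)
  obtain ⟨R, hR⟩ := hp.exists_le_sylow
  obtain ⟨g, hg⟩ := MulAction.exists_smul_eq L R S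
  intro x hx
  rw [← hg, Sylow.coe_subgroup_smul]
  exact ⟨x, hR hx, by show g * x * g⁻¹ = x; rw [mem_center_iff.1 (hT hx) g, mul_inv_cancel_right]⟩

/-- A Sylow three-subgroup is not abelian. -/
theorem sylow_nonab (S : Sylow 3 L) : ∃ x ∈ (S : Subgroup L), ∃ y ∈ (S : Subgroup L), x * y ≠ y * x := by
  classical
  by_contra hno
  push Not at hno
  have hcomm : IsMulCommutative ↥(S : Subgroup L) :=
    ⟨⟨fun a b => Subtype.ext (hno a a.2 b b.2)⟩⟩
  obtain ⟨T, hT, hT3, -⟩ := E.exists_T3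
  have : Fact (Nat.Prime 3) := ⟨Nat.prime_three⟩
  obtain ⟨⟨z, hzT⟩, hz⟩ := exists_prime_orderOf_dvd_card' (G := ↥T) 3 (by rw [hT3])
  rw [← Subgroup.orderOf_coe] at hz
  have hzc : ∀ g : L, Commute z g := fun g => (mem_center_iff.1 (hT hzT) g).symm
  open scoped IsMulCommutative in
  let τ : L →* ↥(S : Subgroup L) := MonoidHom.transfer (MonoidHom.id ↥(S : Subgroup L))
  have h1 : τ z = 1 := by
    open scoped IsMulCommutative in
    refine MonoidHom.mem_ker.1 (Abelianization.commutator_subset_ker τ ?_)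
    show z ∈ commutator L
    rw [commutator_def, E.perf]; exact mem_top z
  have hzS : z ∈ (S : Subgroup L) := E.T3_le_sylow hT hT3 S hzT
  have h2 : z ^ (S : Subgroup L).index = 1 := by
    open scoped IsMulCommutative in
    have h2 := MonoidHom.transfer_eq_pow (MonoidHom.id ↥(S : Subgroup L)) z fun n g _ => by
      rw [mul_assoc, ((hzc g).pow_left n).eq, inv_mul_cancel_left]
    exact congrArg Subtype.val (h2.symm.trans h1)
  have h3 := orderOf_dvd_of_pow_eq_one h2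
  rw [hz] at h3
  exact S.not_dvd_index h3

/-- The image of a three-group is abelian of exponent three. -/
theorem image_three {S : Subgroup L} (hS : IsPGroup 3 ↥S) :
    (∀ x ∈ S, E.π x ^ 3 = 1) ∧ ∀ x ∈ S, ∀ y ∈ S, E.π x * E.π y = E.π y * E.π x := by
  have : Fact (Nat.Prime 3) := ⟨Nat.prime_three⟩
  have := m22_finite
  refine ⟨fun x hx => ?_, fun x hx y hy => ?_⟩
  · obtain ⟨k, hk⟩ := hS ⟨x, hx⟩
    have hk' : E.π x ^ (3 ^ k) = 1 := by
      rw [← map_pow, show x ^ 3 ^ k = 1 from congrArg Subtype.val hk, map_one]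
    obtain ⟨i, -, hi⟩ := (Nat.dvd_prime_pow Nat.prime_three).1 (orderOf_dvd_of_pow_eq_one hk')
    have hmem := J4Seven4.m22_facts.ord_mem (E.π x)
    rw [hi] at hmem
    rcases i with _ | _ | i
    · rw [pow_zero, orderOf_eq_one_iff] at hi; rw [hi, one_pow]
    · rw [zero_add, pow_one] at hi; exact hi ▸ pow_orderOf_eq_one _
    · exfalso
      simp only [Finset.mem_insert, Finset.mem_singleton] at hmem
      have h9 : 9 ∣ 3 ^ (i + 1 + 1) := (pow_dvd_pow 3 (by omega : 2 ≤ i + 1 + 1))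
      rcases hmem with h | h | h | h | h | h | h | h | h <;> rw [h] at h9 <;> norm_num at h9
  · obtain ⟨P, hP⟩ := (hS.map E.π).exists_le_sylow
    have hP9 : Nat.card ↥(P : Subgroup M22t) = 3 ^ 2 := by
      rw [P.card_eq_multiplicity, m22_card, show (443520 : ℕ) = 3 ^ 2 * 49280 by norm_num,
        Nat.factorization_mul (by norm_num) (by norm_num), Nat.Prime.factorization_pow Nat.prime_three]
      simp [Nat.factorization_eq_zero_of_not_dvd (by norm_num : ¬ 3 ∣ 49280)]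
    have hc := IsPGroup.isMulCommutative_of_card_eq_prime_sq (p := 3) hP9
    exact congrArg Subtype.val (hc.is_comm.comm (⟨E.π x, hP (mem_map_of_mem _ hx)⟩ : ↥(P : Subgroup M22t))
      ⟨E.π y, hP (mem_map_of_mem _ hy)⟩)

theorem center_sylow (S : Sylow 3 L) :
    (center ↥(S : Subgroup L)).map (S : Subgroup L).subtype ≤ center L := by
  have : Fact (Nat.Prime 3) := ⟨Nat.prime_three⟩
  obtain ⟨T, hT, hT3, -⟩ := E.exists_T3
  have hTS := E.T3_le_sylow hT hT3 S
  have hle : T.subgroupOf (S : Subgroup L) ≤ center ↥(S : Subgroup L) := fun x hx =>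
    mem_center_iff.2 fun g => Subtype.ext (mem_center_iff.1 (hT (mem_subgroupOf.1 hx)) g)
  obtain ⟨x, hx, y, hy, hxy⟩ := E.sylow_nonab S
  obtain ⟨m, hm⟩ := IsPGroup.iff_card.1 (S.2.to_subgroup (center ↥(S : Subgroup L)))
  have h := (center ↥(S : Subgroup L)).card_mul_index
  rw [hm, E.sylow_card S] at h
  have hm3 : m ≤ 3 := (Nat.pow_dvd_pow_iff_le_right (by norm_num : 1 < 3)).1 (Dvd.intro _ h)
  have hq : ¬ IsCyclic (↥(S : Subgroup L) ⧸ center ↥(S : Subgroup L)) := fun hc => hxy <|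
    congrArg Subtype.val
      (commutative_of_cyclic_center_quotient (QuotientGroup.mk' (center ↥(S : Subgroup L)))
        (by rw [QuotientGroup.ker_mk']) (⟨x, hx⟩ : ↥(S : Subgroup L)) ⟨y, hy⟩)
  have hm1 : m ≤ 1 := by
    by_contra hlt
    apply hq
    interval_cases m
    · exact isCyclic_of_prime_card (p := 3) (by
        rw [← index_eq_card]; norm_num at h ⊢; omega)
    · have : Subsingleton (↥(S : Subgroup L) ⧸ center ↥(S : Subgroup L)) := by
        refine (Nat.card_eq_one_iff_unique.1 ?_).1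
        rw [← index_eq_card]; norm_num at h ⊢; omega
      infer_instance
  have heq : T.subgroupOf (S : Subgroup L) = center ↥(S : Subgroup L) := eq_of_le_of_card_ge hle (by
    rw [hm, Nat.card_congr (subgroupOfEquivOfLe hTS).toEquiv, hT3]
    exact (Nat.pow_le_pow_right (by norm_num) hm1).trans (by norm_num))
  rw [← heq, subgroupOf_map_subtype]
  exact inf_le_left.trans hT

/-- An element of order three outside the centre is moved by all central elements of order three. -/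
theorem exists_shift {b : L} (hb : orderOf b = 3) (hbc : b ∉ center L) :
    ∃ y : L, y * b * y⁻¹ * b⁻¹ ∈ center L ∧ (y * b * y⁻¹ * b⁻¹) ^ 3 = 1 ∧ y * b * y⁻¹ * b⁻¹ ≠ 1 ∧
      ∀ ζ ∈ center L, ζ ^ 3 = 1 → ∃ i : ℕ, ζ = (y * b * y⁻¹ * b⁻¹) ^ i := by
  classical
  have : Fact (Nat.Prime 3) := ⟨Nat.prime_three⟩
  obtain ⟨S, hS⟩ := (IsPGroup.of_card (p := 3) (n := 1) (G := ↥(zpowers b))
    (by rw [Nat.card_zpowers, hb]; norm_num)).exists_le_sylow
  have hbS : b ∈ (S : Subgroup L) := hS (mem_zpowers b)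
  obtain ⟨⟨y, hy⟩, hyb⟩ : ∃ y : ↥(S : Subgroup L), y * ⟨b, hbS⟩ ≠ ⟨b, hbS⟩ * y := by
    by_contra hno
    push Not at hno
    exact hbc (E.center_sylow S ⟨⟨b, hbS⟩, mem_center_iff.2 hno, rfl⟩)
  obtain ⟨c, hc⟩ : ∃ c, c = y * b * y⁻¹ * b⁻¹ := ⟨_, rfl⟩
  have hcc : c ∈ center L := (E.central_iff _).1 (by
    rw [hc, map_mul, map_mul, map_mul, map_inv, map_inv, (E.image_three S.2).2 y hy b hbS,
      mul_inv_cancel_right, mul_inv_cancel])
  have hc1 : c ≠ 1 := fun h => hyb (Subtype.ext (by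
    rw [hc, mul_inv_eq_one, mul_inv_eq_iff_eq_mul] at h; exact h))
  have hc3 : c ^ 3 = 1 := by
    have hcb : Commute c b := (mem_center_iff.1 hcc b).symm
    have h : (c * b) ^ 3 = 1 := by
      rw [show c * b = y * b * y⁻¹ by rw [hc]; group, conj_pow, ← hb, pow_orderOf_eq_one, mul_one,
        mul_inv_cancel]
    rwa [hcb.mul_pow, ← hb, pow_orderOf_eq_one, mul_one, hb] at h
  obtain ⟨T, hT, hT3, hTm⟩ := E.exists_T3
  refine ⟨y, hc ▸ hcc, hc ▸ hc3, hc ▸ hc1, fun ζ hζ hζ3 => ?_⟩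
  have hgen : zpowers c = T := eq_of_le_of_card_ge (zpowers_le.2 (hTm c hcc hc3))
    (by rw [hT3, Nat.card_zpowers, orderOf_eq_prime hc3 hc1])
  have hζT := hTm ζ hζ hζ3
  rw [← hgen, mem_zpowers_iff_mem_range_orderOf, Finset.mem_image] at hζT
  obtain ⟨i, -, hi⟩ := hζT
  exact ⟨i, hc ▸ hi.symm⟩

theorem three {a b : L} (ha : orderOf a = 3) (hb : orderOf b = 3) (hac : a ∉ center L)
    (hbc : b ∉ center L) : IsConj a b := by
  obtain ⟨T⟩ := J4Fusion14.exists_three
  obtain ⟨g, hg⟩ := isConj_iff.1 ((T.isConj _ (E.orderOf_pi Nat.prime_three ha hac)).symm.trans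
    (T.isConj _ (E.orderOf_pi Nat.prime_three hb hbc)))
  obtain ⟨g, rfl⟩ := E.surj g
  obtain ⟨ζ, hζ⟩ : ∃ ζ, ζ = g * a * g⁻¹ * b⁻¹ := ⟨_, rfl⟩
  have hζc : ζ ∈ center L := (E.central_iff _).1 (by
    rw [hζ, map_mul, map_mul, map_mul, map_inv, map_inv, hg, mul_inv_cancel])
  have hζ3 : ζ ^ 3 = 1 := by
    have hcb : Commute ζ b := (mem_center_iff.1 hζc b).symm
    have h : (ζ * b) ^ 3 = 1 := by
      rw [show ζ * b = g * a * g⁻¹ by rw [hζ]; group, conj_pow, ← ha, pow_orderOf_eq_one, mul_one,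
        mul_inv_cancel]
    rwa [hcb.mul_pow, ← hb, pow_orderOf_eq_one, mul_one, hb] at h
  obtain ⟨y, hyc, -, -, hy⟩ := E.exists_shift hb hbc
  obtain ⟨i, hi⟩ := hy ζ hζc hζ3
  have hpow : ∀ n : ℕ, y ^ n * b * (y ^ n)⁻¹ = (y * b * y⁻¹ * b⁻¹) ^ n * b := by
    intro n
    induction n with
    | zero => simp
    | succ n ih =>
      rw [pow_succ' y, show y * y ^ n * b * (y * y ^ n)⁻¹ = y * (y ^ n * b * (y ^ n)⁻¹) * y⁻¹ by group,
        ih, ← mul_assoc y, mem_center_iff.1 (pow_mem hyc n) y, pow_succ _ n]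
      group
  refine isConj_iff.2 ⟨(y ^ i)⁻¹ * g, ?_⟩
  calc (y ^ i)⁻¹ * g * a * ((y ^ i)⁻¹ * g)⁻¹ = (y ^ i)⁻¹ * (g * a * g⁻¹ * b⁻¹ * b) * y ^ i := by group
    _ = (y ^ i)⁻¹ * (y ^ i * b * (y ^ i)⁻¹) * y ^ i := by rw [← hζ, hi, ← hpow i]
    _ = b := by group

theorem exists_three : ∃ a : L, orderOf a = 3 ∧ a ∉ center L := by
  classical
  have : Fact (Nat.Prime 3) := ⟨Nat.prime_three⟩
  obtain ⟨S⟩ := (inferInstance : Nonempty (Sylow 3 L))
  obtain ⟨x, hx, y, hy, hxy⟩ := E.sylow_nonab S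
  obtain ⟨T, hT, hT3, hTm⟩ := E.exists_T3
  have hcube : ∀ w ∈ (S : Subgroup L), w ^ 3 ∈ T := by
    intro w hw
    have hc : w ^ 3 ∈ center L := (E.central_iff _).1 (by rw [map_pow, (E.image_three S.2).1 w hw])
    refine hTm _ hc ?_
    have h27 : w ^ 27 = 1 := by
      have h : (⟨w, hw⟩ : ↥(S : Subgroup L)) ^ 27 = 1 := by rw [← E.sylow_card S]; exact pow_card_eq_one'
      exact congrArg Subtype.val h
    have h1 : orderOf ((w ^ 3) ^ 3) ∣ Nat.gcd 6 3 := Nat.dvd_gcd
      (orderOf_dvd_of_pow_eq_one (by rw [← pow_mul, show 3 * 6 = 6 * 3 from rfl, pow_mul, E.pow_six hc, one_pow]))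
      (orderOf_dvd_of_pow_eq_one (by rw [← pow_mul, ← pow_mul, h27]))
    have h2 : orderOf ((w ^ 3) ^ 3) ∣ 2 := orderOf_dvd_of_pow_eq_one (by
      rw [← pow_mul, show 3 * 2 = 6 from rfl, E.pow_six hc])
    have h3 := Nat.dvd_gcd h1 h2
    rwa [show Nat.gcd (Nat.gcd 6 3) 2 = 1 from rfl, Nat.dvd_one, orderOf_eq_one_iff] at h3
  have hxc : x ∉ center L := fun h => hxy ((mem_center_iff.1 h y).symm)
  by_cases hx3 : x ^ 3 = 1
  · exact ⟨x, orderOf_eq_prime hx3 (fun h => hxc (h ▸ one_mem _)), hxc⟩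
  have hgen : zpowers (x ^ 3) = T := eq_of_le_of_card_ge (zpowers_le.2 (hcube x hx)) (by
    rcases (Nat.dvd_prime Nat.prime_three).1
      (hT3 ▸ card_dvd_of_le (zpowers_le.2 (hcube x hx))) with h | h
    · exact absurd (zpowers_eq_bot.1 (eq_bot_of_card_eq _ h)) hx3
    · rw [hT3, h])
  have hy3 := hcube y hy
  rw [← hgen, mem_zpowers_iff_mem_range_orderOf, Finset.mem_image] at hy3
  obtain ⟨i, -, hi⟩ := hy3
  obtain ⟨v, hv⟩ : ∃ v, v = (x ^ i)⁻¹ := ⟨_, rfl⟩
  have hvS : v ∈ (S : Subgroup L) := hv ▸ inv_mem (pow_mem hx i)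
  obtain ⟨c, hc⟩ : ∃ c, c = v * y * v⁻¹ * y⁻¹ := ⟨_, rfl⟩
  have hcc : c ∈ center L := (E.central_iff _).1 (by
    rw [hc, map_mul, map_mul, map_mul, map_inv, map_inv, (E.image_three S.2).2 v hvS y hy,
      mul_inv_cancel_right, mul_inv_cancel])
  have hc27 : c ^ 27 = 1 := by
    have h : (⟨c, hc ▸ mul_mem (mul_mem (mul_mem hvS hy) (inv_mem hvS)) (inv_mem hy)⟩ : ↥(S : Subgroup L)) ^ 27 = 1 := by
      rw [← E.sylow_card S]; exact pow_card_eq_one'
    exact congrArg Subtype.val h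
  have hc3 : c ^ 3 = 1 := orderOf_dvd_iff_pow_eq_one.1
    ((show Nat.gcd 27 6 = 3 from rfl) ▸ Nat.dvd_gcd (orderOf_dvd_of_pow_eq_one hc27)
      (orderOf_dvd_of_pow_eq_one (E.pow_six hcc)))
  have h3 : (y * v) ^ 3 = 1 := by
    rw [mul_cube hcc hc3 (by rw [hc]; group), ← hi, hv, inv_pow, ← pow_mul, ← pow_mul, mul_comm i 3,
      mul_inv_cancel]
  have hnc : y * v ∉ center L := fun h => hxy (by
    have h1 : x * (y * v) = y * v * x := mem_center_iff.1 h x
    have h2 : v * x = x * v := hv ▸ ((Commute.refl x).pow_left i).inv_left.eq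
    rw [mul_assoc y v x, h2, ← mul_assoc, ← mul_assoc] at h1
    exact mul_right_cancel h1)
  exact ⟨y * v, orderOf_eq_prime h3 (fun h => hnc (h ▸ one_mem _)), hnc⟩

theorem cent_three {a : L} (ha : orderOf a = 3) (hac : a ∉ center L) :
    Nat.card ↥(centralizer ({a} : Set L)) = 72 := by
  have := m22_finite
  have : Fact (Nat.Prime 3) := ⟨Nat.prime_three⟩
  obtain ⟨T⟩ := J4Fusion14.exists_three
  obtain ⟨C', hC'⟩ : ∃ C', C' = (centralizer ({E.π a} : Set M22t)).comap E.π := ⟨_, rfl⟩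
  have hC36 : Nat.card ↥(centralizer ({E.π a} : Set M22t)) = 36 := by
    have h1 := J4Fusion14.M22Three.card_conj_mul T.a
    have h2 := J4Fusion14.M22Three.card_conj_mul (E.π a)
    have hconj := T.isConj _ (E.orderOf_pi Nat.prime_three ha hac)
    have e : Nat.card {y : M22t // IsConj (E.π a) y} = Nat.card {y : M22t // IsConj T.a y} :=
      Nat.card_congr (Equiv.subtypeEquivRight fun y =>
        ⟨fun h => hconj.trans h, fun h => hconj.symm.trans h⟩)
    rw [e, ← h1, T.card_cent] at h2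
    exact Nat.eq_of_mul_eq_mul_left (Nat.pos_of_ne_zero fun h0 => by
      rw [h0, zero_mul, m22_card] at h1; norm_num at h1) h2
  have hc' : Nat.card ↥C' = 216 := by rw [hC', E.card_comap, hC36]
  have hmem : ∀ g ∈ C', g * a * g⁻¹ * a⁻¹ ∈ center L := by
    intro g hg
    rw [hC', mem_comap, mem_centralizer_singleton_iff] at hg
    refine (E.central_iff _).1 ?_
    rw [map_mul, map_mul, map_mul, map_inv, map_inv, hg, mul_inv_cancel_right, mul_inv_cancel]
  let f : ↥C' →* ↥(center L) := MonoidHom.mk' (fun g => ⟨(g : L) * a * (g : L)⁻¹ * a⁻¹, hmem g g.2⟩)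
    fun g h => Subtype.ext (by
      show (g : L) * (h : L) * a * ((g : L) * (h : L))⁻¹ * a⁻¹ =
        (g : L) * a * (g : L)⁻¹ * a⁻¹ * ((h : L) * a * (h : L)⁻¹ * a⁻¹)
      have hz := hmem h h.2
      calc (g : L) * (h : L) * a * ((g : L) * (h : L))⁻¹ * a⁻¹
          = (g : L) * ((h : L) * a * (h : L)⁻¹ * a⁻¹) * a * (g : L)⁻¹ * a⁻¹ := by group
        _ = ((h : L) * a * (h : L)⁻¹ * a⁻¹) * ((g : L) * a * (g : L)⁻¹ * a⁻¹) := by
            rw [mem_center_iff.1 hz (g : L)]; group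
        _ = _ := (mem_center_iff.1 hz _).symm)
  obtain ⟨y, hyc, -, hy1, hy⟩ := E.exists_shift ha hac
  have hyC : y ∈ C' := by
    rw [hC', mem_comap, mem_centralizer_singleton_iff]
    have := (E.central_iff _).2 hyc
    rwa [map_mul, map_mul, map_mul, map_inv, map_inv, mul_inv_eq_one, mul_inv_eq_iff_eq_mul] at this
  have hker : f.ker = (centralizer ({a} : Set L)).subgroupOf C' := by
    ext g
    rw [MonoidHom.mem_ker, mem_subgroupOf, mem_centralizer_singleton_iff]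
    show (⟨(g : L) * a * (g : L)⁻¹ * a⁻¹, _⟩ : ↥(center L)) = 1 ↔ _
    rw [Subtype.ext_iff]
    exact mul_inv_eq_one.trans mul_inv_eq_iff_eq_mul
  have hle : centralizer ({a} : Set L) ≤ C' := fun g hg => by
    rw [hC', mem_comap, mem_centralizer_singleton_iff, ← map_mul, ← map_mul,
      mem_centralizer_singleton_iff.1 hg]
  have hrange : Nat.card ↥f.range = 3 := by
    rcases (Nat.dvd_prime Nat.prime_three).1 (show Nat.card ↥(f.range.map (center L).subtype) ∣ 3 from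
      E.card_root (map_subtype_le _) (by
        rintro _ ⟨_, ⟨g, rfl⟩, rfl⟩
        show ((g : L) * a * (g : L)⁻¹ * a⁻¹) ^ 3 = 1
        have hz := hmem g g.2
        have hcb : Commute ((g : L) * a * (g : L)⁻¹ * a⁻¹) a := (mem_center_iff.1 hz a).symm
        have h : ((g : L) * a * (g : L)⁻¹ * a⁻¹ * a) ^ 3 = 1 := by
          rw [inv_mul_cancel_right, conj_pow, ← ha, pow_orderOf_eq_one, mul_one, mul_inv_cancel]
        rwa [hcb.mul_pow, ← ha, pow_orderOf_eq_one, mul_one, ha] at h)) with h | h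
    · exfalso
      have hm : y * a * y⁻¹ * a⁻¹ ∈ f.range.map (center L).subtype := ⟨f ⟨y, hyC⟩, ⟨⟨y, hyC⟩, rfl⟩, rfl⟩
      rw [eq_bot_of_card_eq _ h, mem_bot] at hm
      exact hy1 hm
    · rwa [card_map_of_injective (subtype_injective _)] at h
  have h := f.ker.card_mul_index
  rw [Subgroup.index_ker, hrange, hker, Nat.card_congr (subgroupOfEquivOfLe hle).toEquiv, hc'] at h
  omega

theorem image_cent {s : L} : (centralizer ({s} : Set L)).map E.π ≤ centralizer ({E.π s} : Set M22t) := by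
  rintro _ ⟨g, hg, rfl⟩
  rw [mem_centralizer_singleton_iff, ← map_mul, ← map_mul, mem_centralizer_singleton_iff.1 hg]

theorem cent_two {s : L} (hs : orderOf s = 2) (hsc : s ∉ center L) :
    Nat.card ↥(centralizer ({s} : Set L)) ≤ 2304 := by
  have := m22_finite
  rw [card_eq_inf_mul E.π]
  calc _ ≤ Nat.card ↥E.π.ker * Nat.card ↥(centralizer ({E.π s} : Set M22t)) :=
        Nat.mul_le_mul (card_le_of_le inf_le_left) (card_le_of_le E.image_cent)
    _ = 2304 := by rw [E.ker_eq, E.six, card_cent_invol (E.orderOf_pi Nat.prime_two hs hsc)]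

theorem card_le_two {W : Subgroup L} (hW : W ≤ center L) (h2 : IsPGroup 2 ↥W) : Nat.card ↥W ≤ 2 := by
  have : Fact (Nat.Prime 2) := ⟨Nat.prime_two⟩
  obtain ⟨m, hm⟩ := IsPGroup.iff_card.1 h2
  have h6 : 2 ^ m ∣ 6 := hm ▸ E.six ▸ card_dvd_of_le hW
  rw [hm]
  by_contra hlt
  have hm2 : 2 ≤ m := by
    by_contra h
    have := Nat.pow_le_pow_right (show 0 < 2 by norm_num) (show m ≤ 1 by omega)
    omega
  have := (Nat.pow_dvd_pow 2 hm2).trans h6
  norm_num at this

theorem no_big {s a : L} {W : Subgroup L} (hs : orderOf s = 2) (hsc : s ∉ center L) (ha : orderOf a = 3)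
    (hac : a ∉ center L) (hsa : Commute s a) (hW : IsPGroup 2 ↥W) (hWc : W ≤ centralizer ({s} : Set L))
    (hn : ∀ c ∈ centralizer ({s} : Set L), ∀ w ∈ W, c * w * c⁻¹ ∈ W) : Nat.card ↥W < 256 := by
  have := m22_finite
  have : Fact (Nat.Prime 2) := ⟨Nat.prime_two⟩
  by_contra hlt
  have hW' := card_eq_inf_mul E.π W
  have hk : Nat.card ↥(E.π.ker ⊓ W) ≤ 2 :=
    E.card_le_two (E.ker_eq ▸ inf_le_left) (hW.to_le inf_le_right)
  obtain ⟨m, hm⟩ := IsPGroup.iff_card.1 (hW.map E.π)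
  have hd : 2 ^ m ∣ 443520 := hm ▸ m22_card ▸ card_subgroup_dvd_card _
  have hm7 : m ≤ 7 := by
    by_contra h
    have : 2 ^ 8 ∣ 443520 := (Nat.pow_dvd_pow 2 (by omega)).trans hd
    norm_num at this
  have h128 : Nat.card ↥(W.map E.π) = 128 := by
    have h1 : Nat.card ↥(W.map E.π) ≤ 128 := hm ▸ (Nat.pow_le_pow_right (by norm_num) hm7).trans (by norm_num)
    have h2 : Nat.card ↥W ≤ 2 * Nat.card ↥(W.map E.π) := hW' ▸ Nat.mul_le_mul_right _ hk
    omega
  obtain ⟨C, hC⟩ : ∃ C, C = (centralizer ({s} : Set L)).map E.π := ⟨_, rfl⟩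
  have ht := E.orderOf_pi Nat.prime_two hs hsc
  have hCeq : C = centralizer ({E.π s} : Set M22t) := by
    refine eq_of_le_of_card_ge (hC ▸ E.image_cent) ?_
    rw [card_cent_invol ht]
    refine Nat.le_of_dvd Nat.card_pos ?_
    rw [show 384 = 128 * 3 from rfl]
    refine Nat.Coprime.mul_dvd_of_dvd_of_dvd (by norm_num) (h128 ▸ hC ▸ card_dvd_of_le (map_mono hWc)) ?_
    rw [← E.orderOf_pi Nat.prime_three ha hac, hC]
    exact Subgroup.orderOf_dvd_natCard _
      (mem_map_of_mem _ (mem_centralizer_singleton_iff.2 hsa.symm.eq))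
  refine no_normal_two ht (W.map E.π) h128 ((map_mono hWc).trans E.image_cent) fun c hc w hw => ?_
  rw [← hCeq, hC] at hc
  obtain ⟨c, hc, rfl⟩ := hc
  obtain ⟨w, hw, rfl⟩ := hw
  exact ⟨_, hn c hc w hw, by rw [map_mul, map_mul, map_inv]⟩

theorem elementary {W : Subgroup L} (hW : IsElementaryAbelian 2 W) : Nat.card ↥W ≤ 32 := by
  have := m22_finite
  obtain ⟨F⟩ := exists_mFacts
  have hW2 : IsPGroup 2 ↥W := fun x => ⟨1, Subtype.ext (by simpa using hW.2 x x.2)⟩
  obtain ⟨g, hg⟩ := F.sylow _ (hW2.map E.π)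
  have hA := (F.small ((W.map E.π).map (MulAut.conj g).toMonoidHom)
    (by rintro _ ⟨x, hx, rfl⟩; exact hg x hx) (by
      rintro _ ⟨_, ⟨x, hx, rfl⟩, rfl⟩
      rw [← map_mul, ← map_mul, ← pow_two, hW.2 x hx, map_one, map_one])).1
  rw [card_map_of_injective (MulAut.conj g).injective] at hA
  rw [card_eq_inf_mul E.π W]
  calc _ ≤ 2 * 16 := Nat.mul_le_mul
        (E.card_le_two (E.ker_eq ▸ inf_le_left) (hW2.to_le inf_le_right)) hA
    _ = 32 := rfl

theorem exists_eleven : ∃ k : L, k ^ 11 = 1 ∧ k ∉ center L := by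
  have : Fact (Nat.Prime 11) := ⟨by norm_num⟩
  obtain ⟨k, hk⟩ := exists_prime_orderOf_dvd_card' (G := L) 11 (by rw [E.card_L]; norm_num)
  refine ⟨k, hk ▸ pow_orderOf_eq_one k, fun h => ?_⟩
  have := orderOf_dvd_of_pow_eq_one (E.pow_six h)
  rw [hk] at this
  norm_num at this

theorem exists_seven : ∃ u a : L, orderOf u = 7 ∧ orderOf a = 3 ∧ a ∉ center L ∧
    a * u * a⁻¹ ∈ zpowers u ∧ ¬ Commute a u ∧ (∀ c : L, Commute c u → c ∈ center L ⊔ zpowers u) := by
  classical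
  have := m22_finite
  have : Fact (Nat.Prime 7) := ⟨by norm_num⟩
  have : Fact (Nat.Prime 3) := ⟨Nat.prime_three⟩
  obtain ⟨x, hx⟩ := exists_prime_orderOf_dvd_card' (G := L) 7 (by rw [E.card_L]; norm_num)
  have hxc : x ∉ center L := fun h => by
    have := orderOf_dvd_of_pow_eq_one (E.pow_six h)
    rw [hx] at this
    norm_num at this
  have hπx := E.orderOf_pi (by norm_num) hx hxc
  have hN := J4Seven4.card_norm_seven J4Seven4.m22_facts hπx
  obtain ⟨⟨b, hbN⟩, hb⟩ := exists_prime_orderOf_dvd_card'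
    (G := ↥(normalizer (zpowers (E.π x) : Set M22t))) 3 (by rw [hN]; norm_num)
  rw [Subgroup.orderOf_mk] at hb
  obtain ⟨a₀, ha₀, ha₀c⟩ := E.exists_three
  obtain ⟨T⟩ := J4Fusion14.exists_three
  obtain ⟨g, hg⟩ := isConj_iff.1 ((T.isConj _ (E.orderOf_pi Nat.prime_three ha₀ ha₀c)).symm.trans
    (T.isConj b hb))
  obtain ⟨g, rfl⟩ := E.surj g
  obtain ⟨a, ha⟩ : ∃ a, a = g * a₀ * g⁻¹ := ⟨_, rfl⟩
  have hπa : E.π a = b := by rw [ha, map_mul, map_mul, map_inv, hg]
  have hC := J4Seven4.card_cent_seven J4Seven4.m22_facts hπx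
  have hCz : zpowers (E.π x) = centralizer ({E.π x} : Set M22t) :=
    eq_of_le_of_card_ge (zpowers_le.2 (mem_centralizer_singleton_iff.2 rfl))
      (by rw [hC, Nat.card_zpowers, hπx])
  refine ⟨x, a, hx, ?_, ?_, ?_, ?_, fun c hc => ?_⟩
  · rw [ha]; exact ((MulAut.conj g).orderOf_eq a₀).trans ha₀
  · intro h
    rw [(E.central_iff a).2 h] at hπa
    rw [← hπa, orderOf_one] at hb
    norm_num at hb
  · have hm : E.π (a * x * a⁻¹) ∈ zpowers (E.π x) := by
      rw [map_mul, map_mul, map_inv, hπa]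
      exact (mem_normalizer_iff.1 hbN _).1 (mem_zpowers _)
    rw [mem_zpowers_iff_mem_range_orderOf, Finset.mem_image] at hm
    obtain ⟨i, -, hi⟩ := hm
    obtain ⟨ζ, hζ⟩ : ∃ ζ, ζ = (x ^ i)⁻¹ * (a * x * a⁻¹) := ⟨_, rfl⟩
    have hζc : ζ ∈ center L := (E.central_iff _).1 (by
      rw [hζ, map_mul, map_inv, map_pow, hi, inv_mul_cancel])
    have he : a * x * a⁻¹ = x ^ i * ζ := by rw [hζ, mul_inv_cancel_left]
    have h7 : ζ ^ 7 = 1 := by
      have h : (a * x * a⁻¹) ^ 7 = (x ^ i * ζ) ^ 7 := by rw [he]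
      rw [conj_pow, ← hx, pow_orderOf_eq_one, mul_one, mul_inv_cancel, hx,
        (show Commute (x ^ i) ζ from mem_center_iff.1 hζc _).mul_pow, ← pow_mul, mul_comm i, pow_mul,
        ← hx, pow_orderOf_eq_one, one_pow, one_mul, hx] at h
      exact h.symm
    rw [pow_succ, E.pow_six hζc, one_mul] at h7
    rw [he, h7, mul_one]
    exact pow_mem (mem_zpowers x) i
  · intro h
    have hb' : b ∈ centralizer ({E.π x} : Set M22t) :=
      mem_centralizer_singleton_iff.2 (hπa ▸ (h.map E.π).eq)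
    have := Subgroup.orderOf_dvd_natCard _ hb'
    rw [hb, hC] at this
    norm_num at this
  · have hm : E.π c ∈ zpowers (E.π x) := hCz ▸ mem_centralizer_singleton_iff.2 (hc.map E.π).eq
    rw [mem_zpowers_iff_mem_range_orderOf, Finset.mem_image] at hm
    obtain ⟨i, -, hi⟩ := hm
    have hz : c * (x ^ i)⁻¹ ∈ center L := (E.central_iff _).1 (by
      rw [map_mul, map_inv, map_pow, hi, mul_inv_cancel])
    have := mul_mem (mem_sup_left (T := zpowers x) hz) (mem_sup_right (pow_mem (mem_zpowers x) i))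
    rwa [inv_mul_cancel_right] at this

theorem normal (N : Subgroup L) (hN : N.Normal) : N ≤ center L ∨ N = ⊤ := by
  obtain ⟨F⟩ := exists_mFacts
  have := F.simple
  rcases (hN.map E.π E.surj).eq_bot_or_eq_top with h | h
  · exact Or.inl fun x hx => (E.central_iff x).1 (mem_bot.1 (h ▸ mem_map_of_mem _ hx))
  · refine Or.inr (eq_top_iff.2 (E.perf ▸ commutator_le.2 fun g _ g' _ => ?_))
    obtain ⟨n, hn, hng⟩ := h.ge (mem_top (E.π g))
    have hz : n⁻¹ * g ∈ center L := (E.central_iff _).1 (by rw [map_mul, map_inv, hng, inv_mul_cancel])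
    have hmk : ∀ w : L, w ∈ N ↔ QuotientGroup.mk' N w = 1 := fun w => by
      rw [← MonoidHom.mem_ker, QuotientGroup.ker_mk']
    rw [hmk, map_commutatorElement, commutatorElement_eq_one_iff_mul_comm]
    have he : QuotientGroup.mk' N g = QuotientGroup.mk' N (n⁻¹ * g) := by
      rw [map_mul, map_inv, (hmk n).1 hn, inv_one, one_mul]
    rw [he, ← map_mul, ← map_mul, mem_center_iff.1 hz g']

theorem facts : CoverFacts L where
  card := E.card_L
  normal := E.normal
  three := fun _ _ => E.three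
  exists_three := E.exists_three
  cent_three := fun _ => E.cent_three
  sylow_three := fun S => ⟨E.sylow_card S, E.center_sylow S⟩
  cent_two := fun _ => E.cent_two
  no_big := fun _ _ _ => E.no_big
  elementary := fun _ => E.elementary
  exists_eleven := E.exists_eleven
  exists_seven := E.exists_seven

end Ext

end Cfsg.Agent.Lib.SixThree54.Cover

namespace Cfsg.Agent.Lib.SixThree54

/-- The facts of the cover. -/
theorem cover : CoverStmt.{u} := by
  intro L _ _ hperf hcyc hsix ⟨iso⟩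
  exact Cover.Ext.facts
    { π := iso.toMonoidHom.comp (QuotientGroup.mk' (Subgroup.center L))
      surj := iso.surjective.comp (QuotientGroup.mk'_surjective _)
      ker_eq := by
        ext x
        rw [MonoidHom.mem_ker]
        exact (map_eq_one_iff iso iso.injective).trans (QuotientGroup.eq_one_iff x)
      cyc := hcyc
      six := hsix
      perf := hperf }

end Cfsg.Agent.Lib.SixThree54
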