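import Cfsg.Agent.Lib.SixThree54.QuotSpec
import Cfsg.Agent.Lib.MinimalNormal
import Cfsg.Agent.S4037

/-!
# Recognition of `J4` from `6.M22`: the index of the normaliser is not `2 ^ 18`
-/

set_option autoImplicit false
set_option linter.unusedSectionVars false
set_option linter.style.haveILetI false

universe u

namespace Cfsg.Agent.Lib.SixThree54

open Cfsg Subgroup
open scoped commutatorElement

namespace QBigProof

theorem norms_cancel {A : Type*} [CommGroup A] (v p q r s t w : A) :
    v ^ 3 = (v * p * q) * (v * r * s) * (v * t * w) * ((p * r * t) * (q * w * s))⁻¹ := by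
  rw [eq_mul_inv_iff_mul_eq, pow_succ, pow_succ, pow_one]
  ac_rfl

variable {L Q : Type u} [Group L] [Finite L] [Group Q] [Finite Q] {x : Q} {π : L →* Q}

/-- An element mapping onto `x`, central, of order dividing three. -/
theorem exists_z (D : QData x π) : ∃ z : L, z ∈ center L ∧ π z = x ∧ z ^ 3 = 1 := by
  obtain ⟨z, hz⟩ : x ∈ π.range := by
    rw [D.range_eq]; exact mem_centralizer_singleton_iff.2 rfl
  have hcomm : ∀ l : L, ⁅z, l⁆ ∈ center L := fun l => by
    refine (D.ker _ ?_).1
    have hl : Commute x (π l) := by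
      have h : π l ∈ π.range := ⟨l, rfl⟩
      rw [D.range_eq] at h
      exact (mem_centralizer_singleton_iff.1 h).symm
    rw [map_commutatorElement, hz, commutatorElement_eq_one_iff_commute]
    exact hl
  -- `l ↦ ⁅z, l⁆` is a homomorphism into the centre, hence trivial
  let φ : L →* center L := MonoidHom.mk' (fun l => ⟨⁅z, l⁆, hcomm l⟩) fun a b => Subtype.ext (by
    show ⁅z, a * b⁆ = ⁅z, a⁆ * ⁅z, b⁆
    have hb : ⁅z, b⁆ * a⁻¹ = a⁻¹ * ⁅z, b⁆ := (mem_center_iff.1 (hcomm b) a⁻¹).symm
    simp only [commutatorElement_def] at hb ⊢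
    calc z * (a * b) * z⁻¹ * (a * b)⁻¹
        = z * a * z⁻¹ * ((z * b * z⁻¹ * b⁻¹) * a⁻¹) := by group
      _ = z * a * z⁻¹ * (a⁻¹ * (z * b * z⁻¹ * b⁻¹)) := by rw [hb]
      _ = _ := by group)
  have hle : ⁅(⊤ : Subgroup L), (⊤ : Subgroup L)⁆ ≤ φ.ker := commutator_le.2 fun a _ b _ => by
    rw [MonoidHom.mem_ker, map_commutatorElement, commutatorElement_eq_one_iff_commute]
    exact Subtype.ext ((mem_center_iff.1 (φ b).2 (φ a)))
  rw [D.perfect] at hle
  have hzc : z ∈ center L := mem_center_iff.2 fun l => by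
    have h : ⁅z, l⁆ = 1 := congrArg Subtype.val (MonoidHom.mem_ker.1 (hle (mem_top l)))
    exact (commutatorElement_eq_one_iff_commute.1 h).symm.eq
  have hx3 : x ^ 3 = 1 := D.hx ▸ pow_orderOf_eq_one x
  have h6 : (z ^ 3) ^ 2 = 1 := (D.ker _ (by rw [map_pow, hz, hx3])).2
  refine ⟨z ^ 4, pow_mem hzc 4, ?_, ?_⟩
  · rw [map_pow, hz, pow_succ, hx3, one_mul]
  · rw [← pow_mul, show 4 * 3 = 3 * 2 * 2 from rfl, pow_mul, pow_mul, h6, one_pow]

theorem conj_x (D : QData x π) {g : Q} (hg : g ∈ normalizer (zpowers x : Set Q)) :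
    g * x * g⁻¹ = x ∨ g * x * g⁻¹ = x⁻¹ := by
  obtain ⟨i, hi⟩ := (mem_normalizer_iff.1 hg x).1 (mem_zpowers x)
  simp only at hi
  have hx3 : x ^ (3 : ℤ) = 1 := by
    rw [show (3 : ℤ) = ((3 : ℕ) : ℤ) from rfl, zpow_natCast, ← D.hx, pow_orderOf_eq_one]
  have hm : x ^ i = x ^ (i % 3) := by
    conv_lhs => rw [show i = i % 3 + 3 * (i / 3) by omega, zpow_add, zpow_mul, hx3, one_zpow, mul_one]
  rw [← hi, hm]
  rcases (show i % 3 = 0 ∨ i % 3 = 1 ∨ i % 3 = 2 by omega) with h | h | h
  · exfalso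
    rw [hm, h, zpow_zero] at hi
    have h1 : x = 1 := conj_eq_one_iff.1 hi.symm
    have := D.hx
    rw [h1, orderOf_one] at this
    omega
  · exact Or.inl (by rw [h, zpow_one])
  · refine Or.inr ?_
    rw [h, eq_comm, inv_eq_iff_mul_eq_one, ← zpow_one_add, show (1 : ℤ) + 2 = 3 from rfl, hx3]

theorem card_centralizer (D : QData x π) :
    Nat.card (centralizer ({x} : Set Q)) * 2 = 2661120 := by
  obtain ⟨w, hw⟩ := D.exists_inverts
  have hwN : w ∈ normalizer (zpowers x : Set Q) := by
    have hle : ∀ m ∈ zpowers x, w * m * w⁻¹ ∈ zpowers x := by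
      rintro m ⟨i, rfl⟩
      show w * x ^ i * w⁻¹ ∈ zpowers x
      rw [← conj_zpow, hw]
      exact zpow_mem (inv_mem (mem_zpowers x)) i
    have he : (zpowers x).map (MulAut.conj w).toMonoidHom = zpowers x := by
      refine Subgroup.eq_of_le_of_card_ge (by rintro _ ⟨m, hm, rfl⟩; exact hle m hm) ?_
      exact le_of_eq (Subgroup.card_map_of_injective (MulAut.conj w).injective).symm
    refine mem_normalizer_iff.2 fun m => ⟨hle m, fun hm => ?_⟩
    obtain ⟨m', hm', e⟩ := he.ge hm
    exact (MulAut.conj w).injective e ▸ hm'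
  have hwC : w ∉ centralizer ({x} : Set Q) := fun h => by
    have hwx : Commute w x := mem_centralizer_singleton_iff.1 h
    rw [hwx.eq, mul_inv_cancel_right] at hw
    have : x ^ 2 = 1 := by rw [pow_two]; nth_rw 2 [hw]; exact mul_inv_cancel x
    have h3 := orderOf_dvd_of_pow_eq_one this
    rw [D.hx] at h3
    omega
  have hCN : centralizer ({x} : Set Q) ≤ normalizer (zpowers x : Set Q) := by
    rw [← centralizer_closure, ← zpowers_eq_closure]
    exact centralizer_le_normalizer _
  classical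
  rw [← D.card_normalizer, ← Nat.card_fin 2, ← Nat.card_prod, eq_comm]
  refine (Nat.card_congr (Equiv.ofBijective
    (fun q : centralizer ({x} : Set Q) × Fin 2 =>
      (⟨(q.1 : Q) * w ^ (q.2 : ℕ), mul_mem (hCN q.1.2) (pow_mem hwN _)⟩ :
        normalizer (zpowers x : Set Q))) ⟨?_, ?_⟩)).symm
  · rintro ⟨c, i⟩ ⟨d, j⟩ h
    have h' : (c : Q) * w ^ (i : ℕ) = d * w ^ (j : ℕ) := congrArg Subtype.val h
    fin_cases i <;> fin_cases j <;>
      simp only [pow_zero, pow_one, mul_one, Fin.zero_eta, Fin.mk_one] at h' ⊢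
    · exact Prod.ext (Subtype.ext h') rfl
    · exact absurd ((mul_mem_cancel_left d.2).1 (h' ▸ c.2)) hwC
    · exact absurd ((mul_mem_cancel_left c.2).1 (h' ▸ d.2)) hwC
    · exact Prod.ext (Subtype.ext (mul_right_cancel h')) rfl
  · rintro ⟨g, hg⟩
    rcases conj_x D hg with h | h
    · exact ⟨(⟨g, mem_centralizer_singleton_iff.2 (mul_inv_eq_iff_eq_mul.1 h)⟩, 0),
        Subtype.ext (by simp)⟩
    · refine ⟨(⟨g * w⁻¹, mem_centralizer_singleton_iff.2 (mul_inv_eq_iff_eq_mul.1 ?_)⟩, 1),
        Subtype.ext (by simp)⟩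
      have hw' : w⁻¹ * x * w = x⁻¹ := by
        calc w⁻¹ * x * w = w⁻¹ * (x⁻¹)⁻¹ * w := by rw [inv_inv]
          _ = w⁻¹ * (w * x * w⁻¹)⁻¹ * w := by rw [hw]
          _ = x⁻¹ := by group
      calc g * w⁻¹ * x * (g * w⁻¹)⁻¹ = g * (w⁻¹ * x * w) * g⁻¹ := by group
        _ = (g * x * g⁻¹)⁻¹ := by rw [hw']; group
        _ = x := by rw [h, inv_inv]

theorem factorization_three (D : QData x π)
    (hidx : (normalizer (zpowers x : Set Q)).index = 2 ^ 18) :
    (Nat.card Q).factorization 3 = 3 := by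
  haveI : Fact (Nat.Prime 3) := ⟨Nat.prime_three⟩
  rw [← (normalizer (zpowers x : Set Q)).card_mul_index, D.card_normalizer, hidx,
    Nat.factorization_def _ Nat.prime_three]
  rw [show (2661120 : ℕ) * 2 ^ 18 = 3 ^ 3 * (98560 * 2 ^ 18) by norm_num,
    padicValNat.mul (by norm_num) (by norm_num), padicValNat.prime_pow,
    padicValNat.eq_zero_of_not_dvd (by norm_num), add_zero]

end QBigProof

open QBigProof in
/-- Brick QBig. -/
theorem qBig : QBigStmt.{u} := by
  intro L Q _ _ _ _ x π D hidx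
  classical
  haveI : Fact (Nat.Prime 3) := ⟨Nat.prime_three⟩
  obtain ⟨z, hzc, hzx, hz3⟩ := exists_z D
  set M := normalizer (zpowers x : Set Q) with hM
  have hx1 : x ≠ 1 := fun e => by
    have := D.hx
    rw [e, orderOf_one] at this
    omega
  -- the class of `x` has prime power size
  have hcls : (ConjClasses.mk x).carrier.ncard = 2 ^ 19 := by
    have h1 := (centralizer ({x} : Set Q)).card_mul_index
    rw [← (normalizer (zpowers x : Set Q)).card_mul_index, D.card_normalizer, hidx,
      ← card_centralizer D, mul_assoc] at h1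
    rw [← Nat.card_coe_set_eq]
    have h2 : (centralizer ({x} : Set Q)).index = 2 ^ 19 := by
      have := Nat.eq_of_mul_eq_mul_left Nat.card_pos h1
      rw [this]
      norm_num
    rw [← h2, ← Chars.card_conjClass_eq_index]
    exact Nat.card_congr (Equiv.subtypeEquivRight fun y => by
      rw [ConjClasses.mem_carrier_iff_mk_eq, ConjClasses.mk_eq_mk_iff_isConj]; exact isConj_comm)
  have hsol := Cfsg.Agent.S4037.result x Nat.prime_two 19 hcls
  have hne : normalClosure ({x} : Set Q) ≠ ⊥ := fun e => by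
    have := subset_normalClosure (s := ({x} : Set Q)) (Set.mem_singleton x)
    rw [SetLike.mem_coe, e, mem_bot] at this
    exact hx1 this
  haveI hcln : (normalClosure ({x} : Set Q)).Normal := normalClosure_normal
  obtain ⟨N, hNn, hN1, hNle, hmin⟩ := MinimalNormal.exists_minimal_normal_le hcln hne
  haveI := hNn
  haveI := hsol
  haveI : Group.IsSolvable N :=
    Group.isSolvable_of_isSolvable_injective (f := inclusion hNle) (inclusion_injective hNle)
  obtain ⟨hNc, q, hq, hexp⟩ := MinimalNormal.elementaryAbelian N hN1 hmin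
  have hNcomm : ∀ a ∈ N, ∀ b ∈ N, Commute a b := fun a ha b hb =>
    congrArg Subtype.val (hNc.is_comm.comm (⟨a, ha⟩ : N) ⟨b, hb⟩)
  -- a normal subgroup inside the centraliser of `x` is inside `⟨x⟩`
  have hfin : N ≤ π.range → N ≤ zpowers x := by
    intro hr
    rcases D.facts.normal (N.comap π) (hNn.comap π) with h | h
    · intro n hn
      obtain ⟨l, rfl⟩ := hr hn
      exact D.center_map l (h hn)
    · exfalso
      have hall : ∀ l : L, π l ∈ N := fun l => mem_comap.1 (h ▸ mem_top l)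
      have hle : ⁅(⊤ : Subgroup L), (⊤ : Subgroup L)⁆ ≤ π.ker := commutator_le.2 fun a _ b _ => by
        rw [MonoidHom.mem_ker, map_commutatorElement, commutatorElement_eq_one_iff_commute]
        exact hNcomm _ (hall a) _ (hall b)
      rw [D.perfect] at hle
      exact hx1 (hzx ▸ MonoidHom.mem_ker.1 (hle (mem_top z)))
  have hconst : N ≤ π.range → False := by
    intro hr
    have hle := hfin hr
    have hcard : Nat.card (zpowers x) = 3 := by rw [Nat.card_zpowers, D.hx]
    rcases (Nat.dvd_prime Nat.prime_three).1 (hcard ▸ card_dvd_of_le hle) with h | h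
    · exact hN1 (Subgroup.card_eq_one.1 h)
    · have he : N = zpowers x := Subgroup.eq_of_le_of_card_ge hle (by rw [h, hcard])
      have htop : M = ⊤ := by rw [hM, ← he]; exact normalizer_eq_top_iff.2 hNn
      rw [htop, index_top] at hidx
      norm_num at hidx
  by_cases hq3 : q = 3
  · subst hq3
    obtain ⟨S⟩ := (inferInstance : Nonempty (Sylow 3 L))
    have hinj : ∀ s ∈ (S : Subgroup L), π s = 1 → s = 1 := by
      intro s hs h
      obtain ⟨-, h2⟩ := D.ker s h
      obtain ⟨k, hk⟩ := S.2 ⟨s, hs⟩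
      have hk' : s ^ 3 ^ k = 1 := congrArg Subtype.val hk
      have hcop : (3 ^ k).Coprime 2 := Nat.Coprime.pow_left _ (by norm_num)
      have := pow_gcd_eq_one.2 ⟨hk', h2⟩
      rwa [hcop.gcd_eq_one, pow_one] at this
    set T := (S : Subgroup L).map π with hT
    have hcardT : Nat.card T = 3 ^ 3 := by
      rw [hT, show (3 : ℕ) ^ 3 = Nat.card (S : Subgroup L) by rw [(D.facts.sylow_three S).1]; norm_num]
      refine (Nat.card_congr (Equiv.ofBijective (fun s : (S : Subgroup L) =>
        (⟨π s, mem_map_of_mem π s.2⟩ : T)) ⟨fun a b h => Subtype.ext ?_, ?_⟩)).symm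
      · have h' : π a = π b := congrArg Subtype.val h
        exact mul_inv_eq_one.1 (hinj _ (mul_mem a.2 (inv_mem b.2))
          (by rw [map_mul, map_inv, h', mul_inv_cancel]))
      · rintro ⟨_, s, hs, rfl⟩
        exact ⟨⟨s, hs⟩, rfl⟩
    have hTS : IsPGroup 3 T := IsPGroup.of_card hcardT
    let P : Sylow 3 Q := Sylow.ofCard T (by rw [hcardT, factorization_three D hidx])
    obtain ⟨R, hR⟩ := (show IsPGroup 3 N from fun n => ⟨1, by
      rw [pow_one]; exact Subtype.ext (hexp n n.2)⟩).exists_le_sylow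
    obtain ⟨g, hg⟩ := MulAction.exists_smul_eq Q R P
    refine hconst fun n hn => ?_
    have h : g * (g⁻¹ * n * g) * g⁻¹ ∈ ((g • R : Sylow 3 Q) : Subgroup Q) := by
      rw [Sylow.coe_subgroup_smul]
      exact ⟨g⁻¹ * n * g, hR (by simpa using hNn.conj_mem n hn g⁻¹), rfl⟩
    rw [hg, show g * (g⁻¹ * n * g) * g⁻¹ = n by group] at h
    obtain ⟨s, -, hs⟩ := h
    exact ⟨s, hs⟩
  · obtain ⟨a, ha, hac⟩ := D.facts.exists_three
    set b := π a with hb
    have hxb : Commute x b := by
      have h : b ∈ π.range := ⟨a, rfl⟩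
      rw [D.range_eq] at h
      exact (mem_centralizer_singleton_iff.1 h).symm
    have hx3 : x ^ 3 = 1 := D.hx ▸ pow_orderOf_eq_one x
    have hb3 : b ^ 3 = 1 := by rw [hb, ← map_pow, ← ha, pow_orderOf_eq_one, map_one]
    letI : CommGroup N := { (inferInstance : Group N) with mul_comm := hNc.is_comm.comm }
    let c : Q → N → N := fun g v => ⟨g * v * g⁻¹, hNn.conj_mem v v.2 g⟩
    let nm : Q → N → N := fun g v => v * c g v * c (g ^ 2) v
    have hcc : ∀ (g h : Q) (v : N), c g (c h v) = c (g * h) v := fun g h v => Subtype.ext (by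
      show g * (h * v * h⁻¹) * g⁻¹ = g * h * v * (g * h)⁻¹
      group)
    have hfix : ∀ (g : Q), g ^ 3 = 1 → ∀ v : N, (nm g v : Q) ∈ centralizer ({g} : Set Q) := by
      intro g hg v
      refine mem_centralizer_singleton_iff.2 ?_
      have h : c g (nm g v) = nm g v := by
        have hmul : ∀ u w : N, c g (u * w) = c g u * c g w := fun u w => Subtype.ext (by
          show g * ((u : Q) * w) * g⁻¹ = g * u * g⁻¹ * (g * w * g⁻¹)
          group)
        show c g (v * c g v * c (g ^ 2) v) = _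
        have h1 : c (1 : Q) v = v := Subtype.ext (by show (1 : Q) * v * 1⁻¹ = v; simp)
        rw [hmul, hmul, hcc, hcc, ← pow_two, ← pow_succ' g 2, hg, h1]
        show c g v * c (g ^ 2) v * v = v * c g v * c (g ^ 2) v
        rw [mul_comm (c g v * c (g ^ 2) v) v, ← mul_assoc]
      exact (mul_inv_eq_iff_eq_mul.1 (congrArg Subtype.val h)).symm
    have hord : ∀ j : ℕ, orderOf (z ^ j * a) = 3 ∧ z ^ j * a ∉ center L := by
      intro j
      have hnc : z ^ j * a ∉ center L := fun h => hac (by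
        simpa using mul_mem (inv_mem (pow_mem hzc j)) h)
      refine ⟨orderOf_eq_prime ?_ (fun h => hnc (by rw [h]; exact one_mem _)), hnc⟩
      have hc : Commute (z ^ j) a := ((mem_center_iff.1 (pow_mem hzc j) a).symm :)
      rw [hc.mul_pow, ← pow_mul, mul_comm, pow_mul, hz3, one_pow, one_mul, ← ha, pow_orderOf_eq_one]
    have hmemx : ∀ v : N, (nm x v : Q) ∈ M := fun v => by
      have h := hfix x hx3 v
      rw [← centralizer_closure, ← zpowers_eq_closure] at h
      exact centralizer_le_normalizer _ h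
    have hmemb : ∀ (j : ℕ) (v : N), (nm (x ^ j * b) v : Q) ∈ M := fun j v => by
      refine D.cent_le (z ^ j * a) (hord j).1 (hord j).2 ?_
      rw [map_mul, map_pow, hzx]
      refine hfix _ ?_ v
      rw [(hxb.pow_left j).mul_pow, ← pow_mul, mul_comm, pow_mul, hx3, one_pow, one_mul, hb3]
    have hNM : N ≤ M := by
      intro v hv
      set v' : N := ⟨v, hv⟩
      have e2 : (x * b) ^ 2 = x ^ 2 * b ^ 2 := hxb.mul_pow 2
      have e3 : (x ^ 2 * b) ^ 2 = x * b ^ 2 := by
        rw [(hxb.pow_left 2).mul_pow, ← pow_mul, show 2 * 2 = 3 + 1 from rfl, pow_succ, hx3, one_mul]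
      have key : v' ^ 3 = nm (x ^ 0 * b) v' * nm (x ^ 1 * b) v' * nm (x ^ 2 * b) v' *
          (nm x (c b v') * nm x (c (b ^ 2) v'))⁻¹ := by
        simp only [nm, hcc, pow_zero, one_mul, pow_one]
        rw [e2, e3]
        exact norms_cancel _ _ _ _ _ _ _
      have hmem : (v : Q) ^ 3 ∈ M := by
        have h : ((v' ^ 3 : N) : Q) ∈ M := by
          rw [key]
          push_cast
          exact mul_mem (mul_mem (mul_mem (hmemb 0 v') (hmemb 1 v')) (hmemb 2 v'))
            (inv_mem (mul_mem (hmemx _) (hmemx _)))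
        simpa using h
      obtain ⟨m, hm⟩ := exists_pow_eq_self_of_coprime (x := v) (n := 3) (by
        exact (((Nat.coprime_primes Nat.prime_three hq).2 (Ne.symm hq3))).coprime_dvd_right
          (orderOf_dvd_of_pow_eq_one (hexp v hv)))
      rw [← hm]
      exact pow_mem hmem m
    refine hconst fun n hn => ?_
    rw [D.range_eq]
    refine mem_centralizer_singleton_iff.2 (mul_inv_eq_iff_eq_mul.1 ?_)
    refine (conj_x D (hNM hn)).resolve_right fun h => ?_
    have hxN : x ∈ N := by
      have h1 : n * x * n⁻¹ * x⁻¹ ∈ N := by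
        have := mul_mem hn (hNn.conj_mem n⁻¹ (inv_mem hn) x)
        simpa [mul_assoc] using this
      rw [h] at h1
      have h2 : x⁻¹ * x⁻¹ = x := by
        rw [← mul_inv_rev, inv_eq_iff_mul_eq_one, ← pow_two, ← pow_succ, hx3]
      rwa [h2] at h1
    have h3 := orderOf_dvd_of_pow_eq_one (hexp x hxN)
    rw [D.hx] at h3
    exact hq3 ((Nat.prime_dvd_prime_iff_eq Nat.prime_three hq).1 h3).symm

end Cfsg.Agent.Lib.SixThree54
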