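import Cfsg.Agent.Lib.SixThree54.QuotSpec

/-!
# The index of the normaliser is one modulo seven

Brick for the recognition of `J4` (row S3317), written by helper67.
-/

set_option autoImplicit false

universe u

namespace Cfsg.Agent.Lib.SixThree54.QSevenAux

variable {Q : Type*} [Group Q]

theorem mem_normalizer_zpowers [Finite Q] {x c : Q} (h : c * x * c⁻¹ ∈ Subgroup.zpowers x) :
    c ∈ Subgroup.normalizer (Subgroup.zpowers x : Set Q) := by
  have hle : (Subgroup.zpowers x).map (MulAut.conj c).toMonoidHom ≤ Subgroup.zpowers x := by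
    rw [MonoidHom.map_zpowers, Subgroup.zpowers_le]
    simpa using h
  have heq := Subgroup.eq_of_le_of_card_ge hle
    (Nat.card_congr ((Subgroup.zpowers x).equivMapOfInjective _
      (MulAut.conj c).injective).toEquiv).le
  refine Subgroup.mem_normalizer_iff.2 fun v => ⟨fun hv => ?_, fun hv => ?_⟩
  · exact hle ⟨v, hv, rfl⟩
  · change c * v * c⁻¹ ∈ Subgroup.zpowers x at hv
    rw [← heq] at hv
    obtain ⟨w, hw, hwe⟩ := hv
    have : w = v := (MulAut.conj c).injective (by simpa using hwe)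
    exact this ▸ hw

theorem zpowers_three {x y : Q} (hx : orderOf x = 3) (hy : y ∈ Subgroup.zpowers x) :
    y = 1 ∨ y = x ∨ y = x⁻¹ := by
  obtain ⟨i, rfl⟩ := Subgroup.mem_zpowers_iff.1 hy
  rw [← zpow_mod_orderOf x i, hx]
  have h0 := Int.emod_nonneg i (by norm_num : ((3 : ℕ) : ℤ) ≠ 0)
  have h1 := Int.emod_lt_of_pos i (by norm_num : (0 : ℤ) < ((3 : ℕ) : ℤ))
  have h3 : x * x ^ (2 : ℕ) = 1 := by
    rw [← pow_succ', show 2 + 1 = orderOf x from hx.symm, pow_orderOf_eq_one]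
  rcases (by omega : i % ((3 : ℕ) : ℤ) = 0 ∨ i % ((3 : ℕ) : ℤ) = 1 ∨ i % ((3 : ℕ) : ℤ) = 2) with
    h | h | h <;> rw [h]
  · exact Or.inl (zpow_zero x)
  · exact Or.inr (Or.inl (zpow_one x))
  · exact Or.inr (Or.inr (eq_inv_of_mul_eq_one_right (by exact_mod_cast h3)))

/-- An element of odd order normalising a group of order three centralises it. -/
theorem commute_of_odd {x V : Q} (hx : orderOf x = 3) (m : ℕ) (hV : V ^ (2 * m + 1) = 1)
    (h : V * x * V⁻¹ ∈ Subgroup.zpowers x) : Commute V x := by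
  have h2 : Commute (V ^ 2) x := by
    rcases zpowers_three hx h with e | e | e
    · exfalso
      have : x = 1 := by
        calc x = V⁻¹ * (V * x * V⁻¹) * V := by group
          _ = 1 := by rw [e]; group
      rw [this, orderOf_one] at hx
      norm_num at hx
    · exact Commute.pow_left (mul_inv_eq_iff_eq_mul.1 e) 2
    · have e' : V * x⁻¹ * V⁻¹ = x := by
        calc V * x⁻¹ * V⁻¹ = (V * x * V⁻¹)⁻¹ := by group
          _ = x := by rw [e, inv_inv]
      show V ^ 2 * x = x * V ^ 2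
      calc V ^ 2 * x = V * (V * x * V⁻¹) * V⁻¹ * V ^ 2 := by simp only [pow_two]; group
        _ = x * V ^ 2 := by rw [e, e']
  have hd : V = (V ^ 2) ^ (m + 1) := by
    rw [← pow_mul, show 2 * (m + 1) = (2 * m + 1) + 1 by ring, pow_succ, hV, one_mul]
  rw [hd]
  exact h2.pow_left _

theorem conj_mem_of_mem {U P : Q} [Finite Q] (hP : P * U * P⁻¹ ∈ Subgroup.zpowers U) {c : Q}
    (hc : c ∈ Subgroup.centralizer ({U} : Set Q)) :
    P * c * P⁻¹ ∈ Subgroup.centralizer ({U} : Set Q) := by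
  rw [Subgroup.mem_centralizer_singleton_iff] at hc ⊢
  have hv : P⁻¹ * U * P ∈ Subgroup.zpowers U := by
    have := (Subgroup.mem_normalizer_iff.1
      (inv_mem (mem_normalizer_zpowers hP)) U).1 (Subgroup.mem_zpowers U)
    simpa using this
  obtain ⟨i, hi⟩ := Subgroup.mem_zpowers_iff.1 hv
  have hcomm : Commute c (U ^ i) := (show Commute c U from hc).zpow_right i
  calc P * c * P⁻¹ * U = P * (c * (P⁻¹ * U * P)) * P⁻¹ := by group
    _ = P * ((P⁻¹ * U * P) * c) * P⁻¹ := by rw [← hi, hcomm.eq]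
    _ = U * (P * c * P⁻¹) := by group

/-- The heart of the count: `x` and `U` as in the quotient of the involution centraliser. -/
theorem core {Q : Type u} [Group Q] [Finite Q] (hS : SelfThreeStmt.{u}) {x U P : Q}
    (hx : orderOf x = 3) (hU : orderOf U = 7) (hxU : Commute x U) (hP3 : P ^ 3 = 1)
    (hPx : Commute P x) (hPU : P * U * P⁻¹ ∈ Subgroup.zpowers U) (hnPU : ¬ Commute P U)
    (hcent : ∀ c : Q, Commute c x → Commute c U →
      ∃ i j : ℤ, c = x ^ i * U ^ j)
    (hfix : ∀ (j : ℕ) (c : Q), Commute c (P * x ^ j) →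
      c ∈ Subgroup.normalizer (Subgroup.zpowers x : Set Q))
    {z : Q} (hz : z ^ 3 = 1) (hzU : Commute z U) : z ∈ Subgroup.zpowers x := by
  let A : Subgroup Q := Subgroup.centralizer ({U} : Set Q)
  let N : Subgroup A := (Subgroup.zpowers U).subgroupOf A
  have hmemA : ∀ {c : Q}, c ∈ A ↔ Commute c U := fun {c} =>
    Subgroup.mem_centralizer_singleton_iff
  have hUA : ∀ {v : Q}, v ∈ Subgroup.zpowers U → v ∈ A := fun {v} hv => by
    obtain ⟨i, rfl⟩ := Subgroup.mem_zpowers_iff.1 hv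
    exact hmemA.2 ((Commute.refl U).zpow_left i)
  have hcentral : ∀ {c v : Q}, c ∈ A → v ∈ Subgroup.zpowers U → Commute c v := fun {c v} hc hv => by
    obtain ⟨i, rfl⟩ := Subgroup.mem_zpowers_iff.1 hv
    exact (hmemA.1 hc).zpow_right i
  haveI hN : N.Normal := ⟨fun v hv c => by
    have hcv : Commute (c : Q) (v : Q) := hcentral c.2 hv
    show (c : Q) * v * (c : Q)⁻¹ ∈ Subgroup.zpowers U
    rw [hcv.eq, mul_inv_cancel_right]
    exact hv⟩
  have hcube : ∀ {v : Q}, v ∈ Subgroup.zpowers U → v ^ 3 = 1 → v = 1 := fun {v} hv h3 => by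
    have h7 : v ^ 7 = 1 := by
      obtain ⟨i, rfl⟩ := Subgroup.mem_zpowers_iff.1 hv
      rw [← zpow_natCast, ← zpow_mul, mul_comm, zpow_mul, zpow_natCast, ← hU, pow_orderOf_eq_one,
        one_zpow]
    calc v = (v ^ 3) ^ 5 * ((v ^ 7) ^ 2)⁻¹ := by group
      _ = 1 := by rw [h3, h7]; group
  have hxA : x ∈ A := hmemA.2 hxU
  have hx3 : x ^ 3 = 1 := by rw [← hx, pow_orderOf_eq_one]
  let xb : A ⧸ N := QuotientGroup.mk' N ⟨x, hxA⟩
  have hxb : orderOf xb = 3 := by
    refine orderOf_eq_prime ?_ ?_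
    · show QuotientGroup.mk' N ⟨x, hxA⟩ ^ 3 = 1
      rw [← map_pow, show (⟨x, hxA⟩ : A) ^ 3 = 1 from Subtype.ext hx3, map_one]
    · intro h
      have hmem : x ∈ Subgroup.zpowers U :=
        (QuotientGroup.eq_one_iff (⟨x, hxA⟩ : A)).1 h
      rw [hcube hmem hx3, orderOf_one] at hx
      norm_num at hx
  -- elements of `A` centralising `x` modulo `N`
  have hconjx : ∀ (c : A) (i : ℤ),
      QuotientGroup.mk' N c * xb * (QuotientGroup.mk' N c)⁻¹ = xb ^ i →
      (c : Q) * x * (c : Q)⁻¹ = x ^ i := by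
    intro c i h
    have hmem : ((⟨x, hxA⟩ : A) ^ i)⁻¹ * (c * ⟨x, hxA⟩ * c⁻¹) ∈ N := by
      refine (QuotientGroup.eq_one_iff _).1 ?_
      show QuotientGroup.mk' N _ = 1
      simp only [map_mul, map_inv, map_zpow]
      exact inv_mul_eq_one.2 h.symm
    have hv : (x ^ i)⁻¹ * ((c : Q) * x * (c : Q)⁻¹) ∈ Subgroup.zpowers U := hmem
    generalize hw : (c : Q) * x * (c : Q)⁻¹ = w at hv ⊢
    have hcom : Commute (x ^ i) ((x ^ i)⁻¹ * w) := hcentral (A.zpow_mem hxA i) hv
    have hw3 : w ^ 3 = 1 := by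
      rw [← hw, show ((c : Q) * x * (c : Q)⁻¹) ^ 3 = (c : Q) * x ^ 3 * (c : Q)⁻¹ from conj_pow,
        hx3, mul_one, mul_inv_cancel]
    have h1 : ((x ^ i)⁻¹ * w) ^ 3 = 1 := by
      have e := hcom.mul_pow 3
      rw [mul_inv_cancel_left, hw3] at e
      rw [← zpow_natCast (x ^ i), ← zpow_mul, mul_comm, zpow_mul, zpow_natCast, hx3, one_zpow,
        one_mul] at e
      exact e.symm
    exact (inv_mul_eq_one.1 (hcube hv h1)).symm
  have hC : Subgroup.centralizer ({xb} : Set (A ⧸ N)) = Subgroup.zpowers xb := by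
    apply le_antisymm
    · intro k hk
      obtain ⟨c, rfl⟩ := QuotientGroup.mk'_surjective N k
      rw [Subgroup.mem_centralizer_singleton_iff] at hk
      have hk' := hconjx c 1 (by rw [hk, zpow_one, mul_inv_cancel_right])
      rw [zpow_one] at hk'
      obtain ⟨i, j, hij⟩ := hcent c (mul_inv_eq_iff_eq_mul.1 hk') (hmemA.1 c.2)
      refine Subgroup.mem_zpowers_iff.2 ⟨i, ?_⟩
      show QuotientGroup.mk' N ⟨x, hxA⟩ ^ i = QuotientGroup.mk' N c
      rw [← map_zpow]
      refine QuotientGroup.eq.2 ?_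
      show (x ^ i)⁻¹ * (c : Q) ∈ Subgroup.zpowers U
      rw [hij, inv_mul_cancel_left]
      exact Subgroup.mem_zpowers_iff.2 ⟨j, rfl⟩
    · rw [Subgroup.zpowers_le, Subgroup.mem_centralizer_singleton_iff]
  -- the automorphism
  let β : A →* A :=
    { toFun := fun c => ⟨P * (c : Q) * P⁻¹, conj_mem_of_mem hPU c.2⟩
      map_one' := Subtype.ext (by simp)
      map_mul' := fun c d => Subtype.ext (by simp [mul_assoc]) }
  have hβN : N ≤ N.comap β := fun v hv =>
    (Subgroup.mem_normalizer_iff.1 (mem_normalizer_zpowers hPU) (v : Q)).1 hv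
  let f : A ⧸ N →* A ⧸ N := QuotientGroup.map N N β hβN
  have hf3 : ∀ k, f (f (f k)) = k := by
    intro k
    obtain ⟨c, rfl⟩ := QuotientGroup.mk'_surjective N k
    show QuotientGroup.mk' N (β (β (β c))) = _
    congr 1
    apply Subtype.ext
    show P * (P * (P * (c : Q) * P⁻¹) * P⁻¹) * P⁻¹ = c
    calc P * (P * (P * (c : Q) * P⁻¹) * P⁻¹) * P⁻¹ = P ^ 3 * c * (P ^ 3)⁻¹ := by simp only [pow_succ, pow_zero, one_mul]; group
      _ = c := by rw [hP3]; simp
  let α : MulAut (A ⧸ N) :=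
    MonoidHom.toMulEquiv f (f.comp f) (MonoidHom.ext fun k => hf3 k) (MonoidHom.ext fun k => hf3 k)
  have hα3 : α ^ 3 = 1 := by
    refine MulEquiv.ext fun k => ?_
    show f (f (f k)) = k
    exact hf3 k
  have hαx : α xb = xb := by
    show QuotientGroup.mk' N (β ⟨x, hxA⟩) = _
    congr 1
    apply Subtype.ext
    show P * x * P⁻¹ = x
    rw [hPx.eq, mul_inv_cancel_right]
  have hnormal := hS (A ⧸ N) xb hxb hC α hα3 hαx (fun j k hk => by
    obtain ⟨c, rfl⟩ := QuotientGroup.mk'_surjective N k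
    have hmem : (c : Q)⁻¹ * (P * x ^ j * c * (P * x ^ j)⁻¹) ∈ Subgroup.zpowers U := by
      have h1 : QuotientGroup.mk' N c =
          QuotientGroup.mk' N (β (⟨x, hxA⟩ ^ j * c * (⟨x, hxA⟩ ^ j)⁻¹)) := by
        conv_lhs => rw [← hk]
        simp only [xb, ← map_pow, ← map_inv, ← map_mul]
        rfl
      have h2' : c⁻¹ * β (⟨x, hxA⟩ ^ j * c * (⟨x, hxA⟩ ^ j)⁻¹) ∈ N := QuotientGroup.eq.1 h1
      have h2 : (c : Q)⁻¹ * (P * (x ^ j * c * (x ^ j)⁻¹) * P⁻¹) ∈ Subgroup.zpowers U := h2'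
      convert h2 using 1
      group
    generalize hT : P * x ^ j = T at hmem
    have hTU : T * U * T⁻¹ ∈ Subgroup.zpowers U := by
      rw [← hT, show P * x ^ j * U * (P * x ^ j)⁻¹ = P * (x ^ j * U * (x ^ j)⁻¹) * P⁻¹ by group,
        (hxU.pow_left j).eq, mul_inv_cancel_right]
      exact hPU
    have hTn := Subgroup.mem_normalizer_iff.1 (mem_normalizer_zpowers hTU)
    let φ : Subgroup.zpowers U → Subgroup.zpowers U := fun m =>
      ⟨(m : Q) * (T * (m : Q)⁻¹ * T⁻¹),
        mul_mem m.2 ((hTn _).1 (inv_mem m.2))⟩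
    have hinj : Function.Injective φ := by
      intro m n hmn
      have e : (m : Q) * (T * (m : Q)⁻¹ * T⁻¹) = (n : Q) * (T * (n : Q)⁻¹ * T⁻¹) :=
        congrArg Subtype.val hmn
      by_contra hne
      have hw1 : (n : Q)⁻¹ * m ≠ 1 := fun h => hne (Subtype.ext (inv_mul_eq_one.1 h).symm)
      have hwT : Commute ((n : Q)⁻¹ * m) T := by
        show (n : Q)⁻¹ * m * T = T * ((n : Q)⁻¹ * m)
        calc (n : Q)⁻¹ * m * T = (n : Q)⁻¹ * ((m : Q) * (T * (m : Q)⁻¹ * T⁻¹)) * T * m := by group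
          _ = (n : Q)⁻¹ * ((n : Q) * (T * (n : Q)⁻¹ * T⁻¹)) * T * m := by rw [e]
          _ = T * ((n : Q)⁻¹ * m) := by group
      have hwU : (n : Q)⁻¹ * m ∈ Subgroup.zpowers U := mul_mem (inv_mem n.2) m.2
      have hgen : Subgroup.zpowers ((n : Q)⁻¹ * m) = Subgroup.zpowers U := by
        refine Subgroup.eq_of_le_of_card_ge (Subgroup.zpowers_le.2 hwU) ?_
        rw [Nat.card_zpowers, Nat.card_zpowers, hU]
        have hdvd : orderOf ((n : Q)⁻¹ * m) ∣ 7 := by
          rw [← hU]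
          exact orderOf_dvd_of_mem_zpowers hwU
        rcases (Nat.dvd_prime (by norm_num)).1 hdvd with h | h
        · exact absurd (orderOf_eq_one_iff.1 h) hw1
        · exact h.ge
      have hUmem : U ∈ Subgroup.zpowers ((n : Q)⁻¹ * m) := by
        rw [hgen]
        exact Subgroup.mem_zpowers U
      obtain ⟨i, hi⟩ := Subgroup.mem_zpowers_iff.1 hUmem
      have hUT : Commute U T := by
        rw [← hi]
        exact hwT.zpow_left i
      apply hnPU
      have hP : P = T * (x ^ j)⁻¹ := by rw [← hT, mul_inv_cancel_right]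
      rw [hP]
      exact hUT.symm.mul_left (hxU.pow_left j).inv_left
    obtain ⟨m, hm⟩ := Finite.injective_iff_surjective.1 hinj ⟨_, hmem⟩
    have e : (m : Q) * (T * (m : Q)⁻¹ * T⁻¹) = (c : Q)⁻¹ * (T * c * T⁻¹) :=
      congrArg Subtype.val hm
    have hcT : Commute ((c : Q) * m) T := by
      show (c : Q) * m * T = T * ((c : Q) * m)
      calc (c : Q) * m * T = (c : Q) * ((m : Q) * (T * (m : Q)⁻¹ * T⁻¹)) * T * m := by group
        _ = (c : Q) * ((c : Q)⁻¹ * (T * c * T⁻¹)) * T * m := by rw [e]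
        _ = T * ((c : Q) * m) := by group
    have hcm := hfix j ((c : Q) * m) (hT.symm ▸ hcT)
    have hmx : Commute x (m : Q) := hcentral hxA m.2
    have hconj : (c : Q) * x * (c : Q)⁻¹ ∈ Subgroup.zpowers x := by
      have := (Subgroup.mem_normalizer_iff.1 hcm x).1 (Subgroup.mem_zpowers x)
      rw [show (c : Q) * m * x * ((c : Q) * m)⁻¹ = (c : Q) * ((m : Q) * x * (m : Q)⁻¹) * (c : Q)⁻¹
        by group, hmx.symm.eq, mul_inv_cancel_right] at this
      exact this
    obtain ⟨i, hi⟩ := Subgroup.mem_zpowers_iff.1 hconj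
    refine mem_normalizer_zpowers (Subgroup.mem_zpowers_iff.2 ⟨i, ?_⟩)
    show QuotientGroup.mk' N ⟨x, hxA⟩ ^ i =
      QuotientGroup.mk' N c * QuotientGroup.mk' N ⟨x, hxA⟩ * (QuotientGroup.mk' N c)⁻¹
    rw [← map_zpow, ← map_inv, ← map_mul, ← map_mul]
    exact congrArg (QuotientGroup.mk' N) (Subtype.ext hi))
  have hzA : z ∈ A := hmemA.2 hzU
  obtain ⟨i, hi⟩ := Subgroup.mem_zpowers_iff.1
    (hnormal.conj_mem xb (Subgroup.mem_zpowers xb) (QuotientGroup.mk' N ⟨z, hzA⟩))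
  have hzx : z * x * z⁻¹ ∈ Subgroup.zpowers x :=
    Subgroup.mem_zpowers_iff.2 ⟨i, (hconjx ⟨z, hzA⟩ i hi.symm).symm⟩
  obtain ⟨p, q, hpq⟩ := hcent z (commute_of_odd hx 1 hz hzx) hzU
  have hUq : U ^ q ∈ Subgroup.zpowers U := Subgroup.mem_zpowers_iff.2 ⟨q, rfl⟩
  have hq1 : U ^ q = 1 := by
    refine hcube hUq ?_
    have e := ((hxU.zpow_zpow p q)).mul_pow 3
    rw [← hpq, hz, ← zpow_natCast (x ^ p), ← zpow_mul, mul_comm, zpow_mul, zpow_natCast, hx3,
      one_zpow, one_mul] at e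
    exact e.symm
  exact Subgroup.mem_zpowers_iff.2 ⟨p, by rw [hpq, hq1, mul_one]⟩

end Cfsg.Agent.Lib.SixThree54.QSevenAux

namespace Cfsg.Agent.Lib.SixThree54

open QSevenAux

/-- Brick QSeven: the index is congruent to one modulo seven, given `SelfThreeStmt`. -/
theorem qSeven : QSevenStmt.{u} := by
  intro L Q _ _ _ _ x π h hS
  obtain ⟨u, a, hu, ha, haZ, hau, hnau, hcu⟩ := h.facts.exists_seven
  have hu7 : u ^ 7 = 1 := by rw [← hu, pow_orderOf_eq_one]
  have hU : orderOf (π u) = 7 := by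
    haveI : Fact (Nat.Prime 7) := ⟨by norm_num⟩
    refine orderOf_eq_prime (by rw [← map_pow, hu7, map_one]) fun h1 => ?_
    have := orderOf_dvd_of_pow_eq_one (h.ker u h1).2
    rw [hu] at this
    norm_num at this
  -- commuting images lift to commuting elements
  have hlift : ∀ l : L, Commute (π l) (π u) → Commute l u := by
    intro l hl
    have hk : π (l * u * l⁻¹ * u⁻¹) = 1 := by
      rw [map_mul, map_mul, map_mul, map_inv, map_inv, hl.eq, mul_inv_cancel_right, mul_inv_cancel]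
    obtain ⟨hkc, hk2⟩ := h.ker _ hk
    generalize hkk : l * u * l⁻¹ * u⁻¹ = k at hkc hk2
    have hku : k * u = l * u * l⁻¹ := by rw [← hkk, inv_mul_cancel_right]
    have e7 : (k * u) ^ 7 = 1 := by rw [hku, conj_pow, hu7, mul_one, mul_inv_cancel]
    rw [(show Commute k u from (Subgroup.mem_center_iff.1 hkc u).symm).mul_pow, hu7, mul_one] at e7
    have hk1 : k = 1 := by
      calc k = k ^ 7 * ((k ^ 2) ^ 3)⁻¹ := by group
        _ = 1 := by rw [e7, hk2]; simp
    rw [hk1, one_mul] at hku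
    exact mul_inv_eq_iff_eq_mul.1 hku.symm
  -- a central element of order three over `x`
  obtain ⟨z₀, hz₀c, hz₀3, hz₀x⟩ : ∃ z₀ : L, z₀ ∈ Subgroup.center L ∧ z₀ ^ 3 = 1 ∧ π z₀ = x := by
    haveI : Fact (Nat.Prime 3) := ⟨Nat.prime_three⟩
    obtain ⟨S⟩ := (inferInstance : Nonempty (Sylow 3 L))
    obtain ⟨hcard, hle⟩ := h.facts.sylow_three S
    haveI : Nontrivial ↥(S : Subgroup L) := Finite.one_lt_card_iff_nontrivial.1 (by omega)
    haveI := S.2.center_nontrivial
    obtain ⟨c, hc⟩ := exists_prime_orderOf_dvd_card' 3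
      (G := ↥(Subgroup.center ↥(S : Subgroup L))) (by
        have hpos : 1 < Nat.card ↥(Subgroup.center ↥(S : Subgroup L)) :=
          Finite.one_lt_card_iff_nontrivial.2 inferInstance
        obtain ⟨k, hk⟩ := IsPGroup.iff_card.1 (S.2.to_subgroup (Subgroup.center ↥(S : Subgroup L)))
        rcases Nat.eq_zero_or_pos k with rfl | hk0
        · omega
        · rw [hk]; exact dvd_pow_self 3 hk0.ne')
    have hw : ((c : ↥(S : Subgroup L)) : L) ∈ Subgroup.center L := hle ⟨_, c.2, rfl⟩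
    have hw3 : orderOf ((c : ↥(S : Subgroup L)) : L) = 3 := by
      rw [Subgroup.orderOf_coe, Subgroup.orderOf_coe, hc]
    generalize ((c : ↥(S : Subgroup L)) : L) = w at hw hw3
    have hw3' : w ^ 3 = 1 := by rw [← hw3, pow_orderOf_eq_one]
    rcases zpowers_three h.hx (h.center_map w hw) with e | e | e
    · have := orderOf_dvd_of_pow_eq_one (h.ker w e).2
      rw [hw3] at this
      norm_num at this
    · exact ⟨w, hw, hw3', e⟩
    · exact ⟨w⁻¹, inv_mem hw, by rw [inv_pow, hw3', inv_one], by rw [map_inv, e, inv_inv]⟩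
  have hrange : ∀ c : Q, c ∈ π.range ↔ Commute c x := fun c => by
    rw [h.range_eq, Subgroup.mem_centralizer_singleton_iff]
    rfl
  have hxU : Commute x (π u) := ((hrange _).1 ⟨u, rfl⟩).symm
  have hPx : Commute (π a) x := (hrange _).1 ⟨a, rfl⟩
  have ha3 : a ^ 3 = 1 := by rw [← ha, pow_orderOf_eq_one]
  have hcent : ∀ c : Q, Commute c x → Commute c (π u) → ∃ i j : ℤ, c = x ^ i * (π u) ^ j := by
    intro c hcx hcU
    obtain ⟨l, rfl⟩ := (hrange c).2 hcx
    obtain ⟨z, hz, v, hv, rfl⟩ := Subgroup.mem_sup_of_normal_left.1 (hcu l (hlift l hcU))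
    obtain ⟨i, hi⟩ := Subgroup.mem_zpowers_iff.1 (h.center_map z hz)
    obtain ⟨j, rfl⟩ := Subgroup.mem_zpowers_iff.1 hv
    exact ⟨i, j, by rw [map_mul, map_zpow, hi]⟩
  have hfix : ∀ (j : ℕ) (c : Q), Commute c (π a * x ^ j) →
      c ∈ Subgroup.normalizer (Subgroup.zpowers x : Set Q) := by
    intro j c hc
    have hnot : a * z₀ ^ j ∉ Subgroup.center L := fun hmem => by
      have := mul_mem hmem (inv_mem (pow_mem hz₀c j))
      rw [mul_inv_cancel_right] at this
      exact haZ this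
    have h3 : orderOf (a * z₀ ^ j) = 3 := by
      haveI : Fact (Nat.Prime 3) := ⟨Nat.prime_three⟩
      refine orderOf_eq_prime ?_ fun h1 => hnot (h1 ▸ one_mem _)
      rw [(show Commute a (z₀ ^ j) from Subgroup.mem_center_iff.1 (pow_mem hz₀c j) a).mul_pow, ha3,
        ← pow_mul, mul_comm, pow_mul, hz₀3, one_pow, one_mul]
    refine h.cent_le _ h3 hnot ?_
    rw [Subgroup.mem_centralizer_singleton_iff, map_mul, map_pow, hz₀x]
    exact hc
  have hPU : π a * π u * (π a)⁻¹ ∈ Subgroup.zpowers (π u) := by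
    obtain ⟨i, hi⟩ := Subgroup.mem_zpowers_iff.1 hau
    exact Subgroup.mem_zpowers_iff.2 ⟨i, by rw [← map_zpow, hi, map_mul, map_mul, map_inv]⟩
  generalize hM : Subgroup.normalizer (Subgroup.zpowers x : Set Q) = M
  have hUM : π u ∈ M := hM ▸ mem_normalizer_zpowers (by
    rw [hxU.symm.eq, mul_inv_cancel_right]; exact Subgroup.mem_zpowers x)
  have hpg : IsPGroup 7 ↥(Subgroup.zpowers (π u)) :=
    IsPGroup.of_card (n := 1) (by rw [Nat.card_zpowers, hU, pow_one])
  haveI : Fact (Nat.Prime 7) := ⟨by norm_num⟩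
  have hmod := hpg.card_modEq_card_fixedPoints (Q ⧸ M)
  have hfixed : MulAction.fixedPoints ↥(Subgroup.zpowers (π u)) (Q ⧸ M) =
      {((1 : Q) : Q ⧸ M)} := by
    ext q
    obtain ⟨g, rfl⟩ := QuotientGroup.mk_surjective q
    rw [Set.mem_singleton_iff, MulAction.mem_fixedPoints]
    constructor
    · intro hg
      have h1 : ((π u * g : Q) : Q ⧸ M) = (g : Q ⧸ M) := hg ⟨π u, Subgroup.mem_zpowers _⟩
      have h2 : g⁻¹ * π u * g ∈ M := by
        have := QuotientGroup.eq.1 h1.symm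
        rwa [← mul_assoc] at this
      have h7 : (g⁻¹ * π u * g) ^ (2 * 3 + 1) = 1 := by
        have : (g⁻¹ * π u * g⁻¹⁻¹) ^ (2 * 3 + 1) = 1 := by
          rw [conj_pow, show (π u) ^ (2 * 3 + 1) = 1 by rw [← map_pow, hu7, map_one]]
          group
        rwa [inv_inv] at this
      have hcx : Commute (g⁻¹ * π u * g) x := commute_of_odd h.hx 3 h7
        ((Subgroup.mem_normalizer_iff.1 (hM ▸ h2) x).1 (Subgroup.mem_zpowers x))
      have hzU : Commute (g * x * g⁻¹) (π u) := by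
        show g * x * g⁻¹ * π u = π u * (g * x * g⁻¹)
        calc g * x * g⁻¹ * π u = g * (x * (g⁻¹ * π u * g)) * g⁻¹ := by group
          _ = g * ((g⁻¹ * π u * g) * x) * g⁻¹ := by rw [hcx.eq]
          _ = π u * (g * x * g⁻¹) := by group
      have hz3 : (g * x * g⁻¹) ^ 3 = 1 := by
        rw [conj_pow, ← h.hx, pow_orderOf_eq_one, mul_one, mul_inv_cancel]
      have hgM : g ∈ M := hM ▸ mem_normalizer_zpowers (core hS h.hx hU hxU
        (by rw [← map_pow, ha3, map_one]) hPx hPU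
        (fun hc => hnau (hlift a hc)) hcent hfix hz3 hzU)
      exact QuotientGroup.eq.2 (by simpa using inv_mem hgM)
    · intro hg m
      rw [hg]
      show (((m : Q) * 1 : Q) : Q ⧸ M) = ((1 : Q) : Q ⧸ M)
      refine QuotientGroup.eq.2 ?_
      simpa using inv_mem ((Subgroup.zpowers_le.2 hUM) m.2)
  rw [hfixed, Nat.card_coe_set_eq, Set.ncard_singleton] at hmod
  exact hmod

end Cfsg.Agent.Lib.SixThree54
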