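import Cfsg.Agent.Lib.SixThree54.Middle
import Cfsg.Agent.Lib.SixThree54.QSeven
import Cfsg.Agent.Lib.SixThree54.QBig
import Cfsg.Agent.Lib.J4Bridge14.Shapes

/-!
# From the centraliser `6.M22` to the centraliser of the involution (written by helper54, row S3317)
-/

set_option autoImplicit false

universe u

namespace Cfsg.Agent.Lib.SixThree54

open Cfsg Subgroup

variable {G : Type u} [Group G]

/-- Conjugation by `g` from the centraliser of `gxg⁻¹` in `C(t)` into `C(x)`. -/
def backHom (x t a g : G) (hga : g * x * g⁻¹ = a)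
    (K : Subgroup ↥(Subgroup.centralizer ({t} : Set G)))
    (hK : ∀ d ∈ K, Commute (d : G) a) : ↥K →* ↥(Subgroup.centralizer ({x} : Set G)) :=
  (((MulAut.conj g⁻¹).toMonoidHom.comp (Subgroup.centralizer ({t} : Set G)).subtype).comp K.subtype).codRestrict _
    (fun d => Subgroup.mem_centralizer_singleton_iff.2 (by
      have h : Commute (g⁻¹ * ((d : ↥(Subgroup.centralizer ({t} : Set G))) : G) * g⁻¹⁻¹) (g⁻¹ * a * g⁻¹⁻¹) :=
        (hK d d.2).map (MulAut.conj g⁻¹).toMonoidHom
      have e : g⁻¹ * a * g⁻¹⁻¹ = x := by rw [← hga]; group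
      rw [e] at h
      exact h.eq))

theorem backHom_coe (x t a g : G) (hga : g * x * g⁻¹ = a)
    (K : Subgroup ↥(Subgroup.centralizer ({t} : Set G))) (hK : ∀ d ∈ K, Commute (d : G) a) (d : ↥K) :
    ((backHom x t a g hga K hK d : ↥(Subgroup.centralizer ({x} : Set G))) : G) =
      g⁻¹ * ((d : ↥(Subgroup.centralizer ({t} : Set G))) : G) * g := by
  show g⁻¹ * _ * g⁻¹⁻¹ = _
  rw [inv_inv]
  rfl

theorem backHom_injective (x t a g : G) (hga : g * x * g⁻¹ = a)
    (K : Subgroup ↥(Subgroup.centralizer ({t} : Set G))) (hK : ∀ d ∈ K, Commute (d : G) a) :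
    Function.Injective (backHom x t a g hga K hK) := fun d e h => by
  have h' := congrArg Subtype.val h
  rw [backHom_coe, backHom_coe, mul_left_inj, mul_right_inj] at h'
  exact Subtype.ext (Subtype.ext h')

variable [Finite G]

theorem jankoFour_of_sixfold (cover : CoverStmt.{u}) (h2 : Cfsg.IsCharacteristicTwoType G) (x : G)
    (hx : orderOf x = 3)
    (hperf : ⁅(⊤ : Subgroup ↥(Subgroup.centralizer ({x} : Set G))),
      (⊤ : Subgroup ↥(Subgroup.centralizer ({x} : Set G)))⁆ = ⊤)
    (hZ : IsCyclic ↥(Subgroup.center ↥(Subgroup.centralizer ({x} : Set G))))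
    (hZc : Nat.card ↥(Subgroup.center ↥(Subgroup.centralizer ({x} : Set G))) = 6)
    (e : ↥(Subgroup.centralizer ({x} : Set G)) ⧸ Subgroup.center ↥(Subgroup.centralizer ({x} : Set G)) ≃*
      ↥Cfsg.Spor.M22)
    (S : Sylow 3 G) (g : G)
    (hng : ((Subgroup.center ↥(S : Subgroup G)).map (S : Subgroup G).subtype).map (MulAut.conj g).toMonoidHom ≤
      (S : Subgroup G))
    (hne : ((Subgroup.center ↥(S : Subgroup G)).map (S : Subgroup G).subtype).map (MulAut.conj g).toMonoidHom ≠
      ((Subgroup.center ↥(S : Subgroup G)).map (S : Subgroup G).subtype)) :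
    Cfsg.IsOfJankoFourType G := by
  classical
  haveI : Fact (Nat.Prime 2) := ⟨Nat.prime_two⟩
  haveI : Fact (Nat.Prime 3) := ⟨Nat.prime_three⟩
  set C := Subgroup.centralizer ({x} : Set G) with hCdef
  have F : CoverFacts ↥C := cover ↥C hperf hZ hZc ⟨e⟩
  let xL : ↥C := ⟨x, Subgroup.mem_centralizer_singleton_iff.2 rfl⟩
  have hxL : orderOf xL = 3 := by rw [← Subgroup.orderOf_coe]; exact hx
  have hxc : xL ∈ Subgroup.center ↥C := Subgroup.mem_center_iff.2 fun c =>
    Subtype.ext (Subgroup.mem_centralizer_singleton_iff.1 c.2)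
  have hx3 : xL ^ 3 = 1 := by rw [← hxL]; exact pow_orderOf_eq_one _
  obtain ⟨⟨tL, htc⟩, htL'⟩ := exists_prime_orderOf_dvd_card' (G := ↥(Subgroup.center ↥C)) 2
    (by rw [hZc]; norm_num)
  have htL : orderOf tL = 2 := (Subgroup.orderOf_coe (⟨tL, htc⟩ : ↥(Subgroup.center ↥C))).trans htL'
  have ht2 : tL ^ 2 = 1 := by rw [← htL]; exact pow_orderOf_eq_one _
  have hcm : Commute xL tL := Subgroup.mem_center_iff.1 htc xL
  have hgen : Subgroup.zpowers (xL * tL) = Subgroup.center ↥C := by
    refine Subgroup.eq_of_le_of_card_ge (Subgroup.zpowers_le.2 (mul_mem hxc htc)) ?_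
    rw [Nat.card_zpowers, hcm.orderOf_mul_eq_mul_orderOf_of_coprime (by rw [hxL, htL]; norm_num), hxL, htL,
      hZc]
  have hceq : ∀ z ∈ Subgroup.center ↥C, ∃ i j : ℕ, z = xL ^ i * tL ^ j := by
    intro z hz
    rw [← hgen, ← mem_powers_iff_mem_zpowers] at hz
    obtain ⟨i, rfl⟩ := hz
    exact ⟨i, i, hcm.mul_pow i⟩
  have hdec : ∀ z ∈ Subgroup.center ↥C,
      (z ^ 2 = 1 → z = 1 ∨ z = tL) ∧ (z ^ 3 = 1 → z ∈ Subgroup.zpowers xL) := by
    intro z hz
    obtain ⟨i, j, rfl⟩ := hceq z hz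
    constructor
    · intro h
      rw [(hcm.pow_pow i j).mul_pow, ← pow_mul tL, mul_comm j, pow_mul, ht2, one_pow, mul_one, ← pow_mul] at h
      have h3 : 3 ∣ i := by
        have := hxL ▸ orderOf_dvd_of_pow_eq_one h
        omega
      obtain ⟨k, rfl⟩ := h3
      rw [pow_mul, hx3, one_pow, one_mul, ← pow_mod_orderOf, htL]
      rcases (by omega : j % 2 = 0 ∨ j % 2 = 1) with h' | h' <;> simp [h']
    · intro h
      rw [(hcm.pow_pow i j).mul_pow, ← pow_mul xL, mul_comm i, pow_mul, hx3, one_pow, one_mul, ← pow_mul] at h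
      have h3 : 2 ∣ j := by
        have := htL ▸ orderOf_dvd_of_pow_eq_one h
        omega
      obtain ⟨k, rfl⟩ := h3
      rw [pow_mul tL, ht2, one_pow, mul_one]
      exact Subgroup.npow_mem_zpowers _ i
  have hpowC : ∀ z ∈ Subgroup.zpowers xL, z ≠ 1 → z = xL ∨ z = xL⁻¹ := by
    intro z hz hz1
    rw [← mem_powers_iff_mem_zpowers] at hz
    obtain ⟨i, rfl⟩ := hz
    simp only at hz1 ⊢
    rw [← pow_mod_orderOf, hxL] at hz1 ⊢
    rcases (by omega : i % 3 = 0 ∨ i % 3 = 1 ∨ i % 3 = 2) with h | h | h <;> rw [h] at hz1 ⊢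
    · simp at hz1
    · exact Or.inl (pow_one _)
    · refine Or.inr (eq_inv_of_mul_eq_one_left ?_)
      rw [← pow_succ, hx3]
  have hcent3 : ∀ z : ↥C, orderOf z = 3 → z ∈ Subgroup.center ↥C → (z : G) = x ∨ (z : G) = x⁻¹ := by
    intro z hz hzc
    have h1 : z ≠ 1 := fun h => by rw [h, orderOf_one] at hz; omega
    rcases hpowC z ((hdec z hzc).2 (by rw [← hz]; exact pow_orderOf_eq_one z)) h1 with h | h
    · exact Or.inl (congrArg Subtype.val h)
    · exact Or.inr (congrArg Subtype.val h)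
  set t : G := (tL : G) with htdef
  have ht : orderOf t = 2 := by rw [htdef, Subgroup.orderOf_coe, htL]
  -- the normaliser of `⟨x⟩` fixes `t`
  have fix_t : ∀ k : G, (k * x * k⁻¹ = x ∨ k * x * k⁻¹ = x⁻¹) → k * t * k⁻¹ = t := by
    intro k hk
    have hkC : ∀ c : G, c ∈ C → k⁻¹ * c * k ∈ C := by
      intro c hc
      rw [Subgroup.mem_centralizer_singleton_iff] at hc ⊢
      have h1 : Commute c (k * x * k⁻¹) := by
        rcases hk with h | h <;> rw [h]
        · exact hc
        · exact (show Commute c x from hc).inv_right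
      have h : Commute (k⁻¹ * c * k⁻¹⁻¹) (k⁻¹ * (k * x * k⁻¹) * k⁻¹⁻¹) :=
        h1.map (MulAut.conj k⁻¹).toMonoidHom
      simpa [mul_assoc] using h.eq
    have htx : Commute t x := Subgroup.mem_centralizer_singleton_iff.1 tL.2
    have hin : k * t * k⁻¹ ∈ C := by
      rw [Subgroup.mem_centralizer_singleton_iff]
      have h : Commute (k * t * k⁻¹) (k * x * k⁻¹) := htx.map (MulAut.conj k).toMonoidHom
      rcases hk with h' | h' <;> rw [h'] at h
      · exact h.eq
      · simpa using h.inv_right.eq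
    have hzc : (⟨_, hin⟩ : ↥C) ∈ Subgroup.center ↥C := by
      refine Subgroup.mem_center_iff.2 fun c => Subtype.ext ?_
      have h := congrArg Subtype.val (Subgroup.mem_center_iff.1 htc ⟨_, hkC c c.2⟩)
      show (c : G) * (k * t * k⁻¹) = k * t * k⁻¹ * c
      calc (c : G) * (k * t * k⁻¹) = k * ((k⁻¹ * c * k) * t) * k⁻¹ := by group
        _ = k * (t * (k⁻¹ * c * k)) * k⁻¹ := by rw [show (k⁻¹ * (c : G) * k) * t = t * (k⁻¹ * c * k) from h]
        _ = k * t * k⁻¹ * c := by group
    have hz2 : (⟨_, hin⟩ : ↥C) ^ 2 = 1 := Subtype.ext (by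
      show (k * t * k⁻¹) ^ 2 = 1
      rw [conj_pow, ← ht, pow_orderOf_eq_one, mul_one, mul_inv_cancel])
    rcases (hdec _ hzc).1 hz2 with h | h
    · exfalso
      have h' : k * t * k⁻¹ = 1 := congrArg Subtype.val h
      rw [mul_inv_eq_one, mul_eq_left] at h'
      rw [h', orderOf_one] at ht
      omega
    · exact congrArg Subtype.val h
  -- Sylow three-subgroups
  obtain ⟨S0⟩ : Nonempty (Sylow 3 ↥C) := inferInstance
  obtain ⟨hS0card, hS0cen⟩ := F.sylow_three S0
  set S1 := (S0 : Subgroup ↥C).map C.subtype with hS1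
  have hS1card : Nat.card ↥S1 = 27 := by
    rw [hS1, Subgroup.card_map_of_injective C.subtype_injective, hS0card]
  have hS1p : IsPGroup 3 ↥S1 := S0.2.map _
  -- the centre of a Sylow subgroup of `C`
  have hcenS0 : (Subgroup.center ↥(S0 : Subgroup ↥C)).map (S0 : Subgroup ↥C).subtype = Subgroup.zpowers xL := by
    refine le_antisymm ?_ ?_
    · rintro _ ⟨z, hz, rfl⟩
      refine (hdec _ (hS0cen ⟨z, hz, rfl⟩)).2 ?_
      obtain ⟨k, hk⟩ := S0.2 z
      have hk' : ((z : ↥C)) ^ 3 ^ k = 1 := congrArg Subtype.val hk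
      obtain ⟨i, j, hij⟩ := hceq _ (hS0cen ⟨z, hz, rfl⟩)
      rw [Subgroup.coe_subtype] at hij ⊢
      rw [hij, (hcm.pow_pow i j).mul_pow] at hk'
      have h2t : (tL ^ j) = 1 := by
        have hA : ((xL ^ i) ^ 3 ^ k) ^ 3 = 1 := by
          rw [← pow_mul, ← pow_mul, show i * (3 ^ k * 3) = 3 * (i * 3 ^ k) by ring, pow_mul, hx3, one_pow]
        have h1 : (tL ^ j) ^ 3 ^ (k + 1) = 1 := by
          rw [pow_succ, pow_mul, eq_inv_of_mul_eq_one_right hk', inv_pow, hA, inv_one]
        rw [← pow_mul] at h1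
        have h2 := htL ▸ orderOf_dvd_of_pow_eq_one h1
        have h3 : 2 ∣ j := ((Nat.Prime.dvd_mul Nat.prime_two).1 h2).resolve_right fun h =>
          absurd (Nat.Prime.dvd_of_dvd_pow Nat.prime_two h) (by norm_num)
        obtain ⟨m, rfl⟩ := h3
        rw [pow_mul, ht2, one_pow]
      rw [hij, h2t, mul_one, ← pow_mul, mul_comm, pow_mul, hx3, one_pow]
    · rw [Subgroup.zpowers_le]
      have hxS : xL ∈ (S0 : Subgroup ↥C) := by
        have hn : (Subgroup.zpowers xL).Normal := ⟨fun n hn c => by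
          obtain ⟨i, rfl⟩ := Subgroup.mem_zpowers_iff.1 hn
          rw [Subgroup.mem_center_iff.1 (zpow_mem hxc i) c, mul_inv_cancel_right]
          exact zpow_mem (Subgroup.mem_zpowers _) i⟩
        have hp : IsPGroup 3 ↥(Subgroup.zpowers xL) :=
          IsPGroup.of_card (n := 1) (by rw [Nat.card_zpowers, hxL, pow_one])
        have hsup : IsPGroup 3 ↥((S0 : Subgroup ↥C) ⊔ Subgroup.zpowers xL) :=
          S0.2.to_sup_of_normal_right hp
        rw [← S0.3 hsup le_sup_left]
        exact Subgroup.mem_sup_right (Subgroup.mem_zpowers _)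
      exact ⟨⟨xL, hxS⟩, Subgroup.mem_center_iff.2 fun c => Subtype.ext (Subgroup.mem_center_iff.1 hxc c), rfl⟩
  have hxS1 : x ∈ S1 := by
    have : xL ∈ (Subgroup.center ↥(S0 : Subgroup ↥C)).map (S0 : Subgroup ↥C).subtype :=
      hcenS0 ▸ Subgroup.mem_zpowers xL
    obtain ⟨z, -, hz⟩ := this
    exact ⟨(z : ↥C), z.2, congrArg Subtype.val hz⟩
  obtain ⟨P, hP⟩ := hS1p.exists_le_sylow
  have hPS : (P : Subgroup G) = S1 := by
    by_contra hneq
    have hlt : S1 < (P : Subgroup G) := lt_of_le_of_ne hP (fun h => hneq h.symm)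
    haveI := P.2.isNilpotent
    have hnc : NormalizerCondition ↥(P : Subgroup G) := normalizerCondition_of_isNilpotent
    have hlt' : S1.subgroupOf (P : Subgroup G) < ⊤ := by
      refine lt_top_iff_ne_top.2 fun h => hlt.ne (le_antisymm hP fun y hy => ?_)
      exact (h ▸ Subgroup.mem_top (⟨y, hy⟩ : ↥(P : Subgroup G)) :
        (⟨y, hy⟩ : ↥(P : Subgroup G)) ∈ S1.subgroupOf (P : Subgroup G))
    obtain ⟨k, hkN, hkS⟩ := SetLike.exists_of_lt (hnc _ hlt')
    have hnorm : ∀ s : G, s ∈ S1 → (k : G) * s * (k : G)⁻¹ ∈ S1 := fun s hs =>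
      (Subgroup.mem_normalizer_iff.1 hkN ⟨s, hP hs⟩).1 hs
    have hinv : ∀ s : G, s ∈ S1 → (k : G)⁻¹ * s * (k : G) ∈ S1 := fun s hs => by
      have h := (Subgroup.mem_normalizer_iff.1 (inv_mem hkN) ⟨s, hP hs⟩).1 hs
      simpa [Subgroup.mem_subgroupOf] using h
    obtain ⟨z, hzS, hz⟩ := hnorm x hxS1
    have hz' : (z : G) = (k : G) * x * (k : G)⁻¹ := hz
    have hzcS : z ∈ Subgroup.zpowers xL := by
      rw [← hcenS0]
      refine ⟨⟨z, hzS⟩, Subgroup.mem_center_iff.2 fun c => Subtype.ext (Subtype.ext ?_), rfl⟩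
      show ((c : ↥C) : G) * (z : G) = (z : G) * ((c : ↥C) : G)
      obtain ⟨c', hc'S, hc'⟩ := hinv ((c : ↥C) : G) ⟨(c : ↥C), c.2, rfl⟩
      have hcx : Commute ((c' : ↥C) : G) x := Subgroup.mem_centralizer_singleton_iff.1 c'.2
      have hc'' : (c' : G) = (k : G)⁻¹ * ((c : ↥C) : G) * (k : G) := hc'
      have h : Commute ((k : G) * (c' : G) * (k : G)⁻¹) ((k : G) * x * (k : G)⁻¹) :=
        hcx.map (MulAut.conj (k : G)).toMonoidHom
      rw [hc'', ← hz'] at h
      simpa [mul_assoc] using h.eq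
    have hz1 : z ≠ 1 := fun h => by
      rw [h] at hz'
      have h' : (k : G) * x * (k : G)⁻¹ = 1 := hz'.symm
      rw [mul_inv_eq_one, mul_eq_left] at h'
      rw [h', orderOf_one] at hx
      omega
    have hkC : (k : G) ∈ C := by
      rw [Subgroup.mem_centralizer_singleton_iff, ← mul_inv_eq_iff_eq_mul]
      rcases hpowC z hzcS hz1 with h | h
      · exact hz'.symm.trans (congrArg Subtype.val h)
      · exfalso
        have hkinv : (k : G) * x * (k : G)⁻¹ = x⁻¹ := hz'.symm.trans (congrArg Subtype.val h)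
        obtain ⟨m, hm⟩ := P.2 k
        have hm' : (k : G) ^ 3 ^ m = 1 := congrArg Subtype.val hm
        have hpow : ∀ n : ℕ, (k : G) ^ n * x * ((k : G) ^ n)⁻¹ = if Even n then x else x⁻¹ := by
          intro n
          induction n with
          | zero => simp
          | succ n ih =>
            rw [pow_succ', show (k : G) * (k : G) ^ n * x * ((k : G) * (k : G) ^ n)⁻¹ =
              (k : G) * ((k : G) ^ n * x * ((k : G) ^ n)⁻¹) * (k : G)⁻¹ by group, ih]
            rcases Nat.even_or_odd n with hn | hn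
            · rw [if_pos hn, hkinv, if_neg (Nat.not_even_iff_odd.2 hn.add_one)]
            · rw [if_neg (Nat.not_even_iff_odd.2 hn), if_pos hn.add_one]
              have := congrArg (·⁻¹) hkinv
              simpa [mul_assoc] using this
        have h1 := hpow (3 ^ m)
        rw [hm', if_neg (Nat.not_even_iff_odd.2 (Odd.pow (by decide))), one_mul, inv_one, mul_one] at h1
        have h2 : x ^ 2 = 1 := by rw [pow_two]; nth_rw 2 [h1]; exact mul_inv_cancel x
        have := orderOf_dvd_of_pow_eq_one h2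
        rw [hx] at this
        norm_num at this
    -- a three-subgroup of `C` beyond the Sylow subgroup
    have hP' : IsPGroup 3 ↥((P : Subgroup G).subgroupOf C) :=
      P.2.of_injective
        ({ toFun := fun y => ⟨((y : ↥C) : G), Subgroup.mem_subgroupOf.1 y.2⟩
           map_one' := rfl
           map_mul' := fun _ _ => rfl } : ↥((P : Subgroup G).subgroupOf C) →* ↥(P : Subgroup G))
        (fun y z h => by
          have := congrArg (fun u : ↥(P : Subgroup G) => (u : G)) h
          exact Subtype.ext (Subtype.ext this))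
    have hle : (S0 : Subgroup ↥C) ≤ (P : Subgroup G).subgroupOf C := fun s hs => hP ⟨s, hs, rfl⟩
    have hk0 : (⟨(k : G), hkC⟩ : ↥C) ∈ (S0 : Subgroup ↥C) := by
      rw [← S0.3 hP' hle]; exact k.2
    exact hkS ⟨⟨(k : G), hkC⟩, hk0, rfl⟩
  -- a conjugate of `x` in `S1` outside `⟨x⟩`
  obtain ⟨y, hyk, hy3, hyc⟩ : ∃ y : ↥C, (∃ k : G, k * x * k⁻¹ = (y : G)) ∧ orderOf y = 3 ∧
      y ∉ Subgroup.center ↥C := by
    obtain ⟨h, hh⟩ := MulAction.exists_smul_eq G P S
    have hSeq : (S : Subgroup G) = (P : Subgroup G).map (MulAut.conj h).toMonoidHom := by rw [← hh]; rfl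
    have hxP : x ∈ (P : Subgroup G) := hPS.symm ▸ hxS1
    have hcenP : (Subgroup.center ↥(S : Subgroup G)).map (S : Subgroup G).subtype =
        Subgroup.zpowers (h * x * h⁻¹) := by
      refine le_antisymm ?_ (Subgroup.zpowers_le.2 ?_)
      · rintro _ ⟨z, hz, rfl⟩
        obtain ⟨v, hv, hvz⟩ := (hSeq ▸ z.2 : (z : G) ∈ (P : Subgroup G).map (MulAut.conj h).toMonoidHom)
        rw [hPS] at hv
        obtain ⟨vL, hvS, rfl⟩ := hv
        have hvc : (⟨vL, hvS⟩ : ↥(S0 : Subgroup ↥C)) ∈ Subgroup.center ↥(S0 : Subgroup ↥C) := by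
          refine Subgroup.mem_center_iff.2 fun c => Subtype.ext (Subtype.ext ?_)
          have hcS : h * ((c : ↥C) : G) * h⁻¹ ∈ (S : Subgroup G) := by
            rw [hSeq, hPS]
            exact ⟨_, ⟨(c : ↥C), c.2, rfl⟩, rfl⟩
          have h0 := congrArg Subtype.val (Subgroup.mem_center_iff.1 hz ⟨_, hcS⟩)
          have h1 : h * ((c : ↥C) : G) * h⁻¹ * (z : G) = (z : G) * (h * ((c : ↥C) : G) * h⁻¹) := h0
          rw [show (z : G) = h * (vL : G) * h⁻¹ from hvz.symm] at h1
          show ((c : ↥C) : G) * (vL : G) = (vL : G) * ((c : ↥C) : G)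
          have h2 := congrArg (fun u => h⁻¹ * u * h) h1
          simpa [mul_assoc] using h2
        obtain ⟨i, hi⟩ := Subgroup.mem_zpowers_iff.1 (hcenS0 ▸ ⟨⟨vL, hvS⟩, hvc, rfl⟩ : vL ∈ Subgroup.zpowers xL)
        refine Subgroup.mem_zpowers_iff.2 ⟨i, ?_⟩
        rw [conj_zpow, ← show ((xL ^ i : ↥C) : G) = x ^ i from SubgroupClass.coe_zpow _ _, hi]
        exact hvz
      · have hmem : h * x * h⁻¹ ∈ (S : Subgroup G) := by rw [hSeq]; exact ⟨x, hxP, rfl⟩
        refine ⟨⟨_, hmem⟩, Subgroup.mem_center_iff.2 fun c => Subtype.ext ?_, rfl⟩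
        obtain ⟨v, hv, hvc⟩ := (hSeq ▸ c.2 : (c : G) ∈ (P : Subgroup G).map (MulAut.conj h).toMonoidHom)
        rw [hPS] at hv
        obtain ⟨vL, -, rfl⟩ := hv
        show (c : G) * (h * x * h⁻¹) = h * x * h⁻¹ * (c : G)
        rw [← hvc]
        exact ((show Commute (vL : G) x from Subgroup.mem_centralizer_singleton_iff.1 vL.2).map
          (MulAut.conj h).toMonoidHom).eq
    rw [hcenP, MonoidHom.map_zpowers] at hng hne
    obtain ⟨v, hv, hvz⟩ := (hSeq ▸ hng (Subgroup.mem_zpowers _) :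
      (MulAut.conj g).toMonoidHom (h * x * h⁻¹) ∈ (P : Subgroup G).map (MulAut.conj h).toMonoidHom)
    rw [hPS] at hv
    obtain ⟨vL, hvS, rfl⟩ := hv
    have hvz' : h * (vL : G) * h⁻¹ = g * (h * x * h⁻¹) * g⁻¹ := hvz
    have hv' : (h⁻¹ * g * h) * x * (h⁻¹ * g * h)⁻¹ = (vL : G) := by
      rw [show (h⁻¹ * g * h) * x * (h⁻¹ * g * h)⁻¹ = h⁻¹ * (g * (h * x * h⁻¹) * g⁻¹) * h by group, ← hvz']
      group
    have hv3 : orderOf vL = 3 := by
      rw [← Subgroup.orderOf_coe, ← hv', ← hx]
      exact orderOf_injective (MulAut.conj (h⁻¹ * g * h)).toMonoidHom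
        (MulAut.conj (h⁻¹ * g * h)).injective x
    refine ⟨vL, ⟨_, hv'⟩, hv3, fun hc => hne ?_⟩
    show Subgroup.zpowers (g * (h * x * h⁻¹) * g⁻¹) = _
    rw [← hvz']
    rcases hcent3 vL hv3 hc with h' | h' <;> rw [h']
    rw [← conj_inv, Subgroup.zpowers_inv]
  -- every element of order three outside the centre is conjugate to `x`
  have hfus : ∀ a : ↥C, orderOf a = 3 → a ∉ Subgroup.center ↥C → ∃ k : G, k * x * k⁻¹ = (a : G) := by
    intro a ha hac
    obtain ⟨c, hc⟩ := isConj_iff.1 (F.three y a hy3 ha hyc hac)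
    obtain ⟨k, hk⟩ := hyk
    refine ⟨(c : G) * k, ?_⟩
    have hc' : (c : G) * (y : G) * (c : G)⁻¹ = (a : G) := congrArg Subtype.val hc
    rw [← hc', ← hk]
    group
  obtain ⟨k1, hk1⟩ := hfus y hy3 hyc
  obtain ⟨k2, hk2⟩ := hfus y⁻¹ (by rw [orderOf_inv, hy3]) (fun h => hyc (by simpa using inv_mem h))
  have hw0 : (k1⁻¹ * k2) * x * (k1⁻¹ * k2)⁻¹ = x⁻¹ := by
    rw [show (k1⁻¹ * k2) * x * (k1⁻¹ * k2)⁻¹ = k1⁻¹ * (k2 * x * k2⁻¹) * k1 by group, hk2, InvMemClass.coe_inv,
      ← hk1]
    group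
  have hwt := fix_t _ (Or.inr hw0)
  -- the centraliser of `t`
  set H := Subgroup.centralizer ({t} : Set G) with hHdef
  have hle : C ≤ H := fun c hc => Subgroup.mem_centralizer_singleton_iff.2
    (congrArg Subtype.val (Subgroup.mem_center_iff.1 htc ⟨c, hc⟩))
  let ι : ↥C →* ↥H := Subgroup.inclusion hle
  have hinj : Function.Injective ι := Subgroup.inclusion_injective hle
  have hι : ∀ c : ↥C, ((ι c : ↥H) : G) = (c : G) := fun c => rfl
  let w : ↥H := ⟨k1⁻¹ * k2, Subgroup.mem_centralizer_singleton_iff.2 (mul_inv_eq_iff_eq_mul.1 hwt)⟩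
  have hchar : Subgroup.centralizer (pCore 2 ↥H : Set ↥H) ≤ pCore 2 ↥H := by
    have hT : IsPGroup 2 ↥(Subgroup.zpowers t) :=
      IsPGroup.of_card (n := 1) (by rw [Nat.card_zpowers, ht, pow_one])
    have hT1 : Subgroup.zpowers t ≠ ⊥ := fun h => by
      rw [Subgroup.zpowers_eq_bot] at h
      rw [h, orderOf_one] at ht
      omega
    have hN : Subgroup.normalizer (Subgroup.zpowers t : Set G) = H := by
      refine le_antisymm (fun n hn => ?_) (fun n hn => mem_normalizer_zpowers (by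
        rw [Subgroup.mem_centralizer_singleton_iff.1 hn, mul_inv_cancel_right]
        exact Subgroup.mem_zpowers t))
      obtain ⟨i, hi⟩ := Subgroup.mem_zpowers_iff.1
        ((Subgroup.mem_normalizer_iff.1 hn t).1 (Subgroup.mem_zpowers t))
      rw [← zpow_mod_orderOf, ht] at hi
      refine Subgroup.mem_centralizer_singleton_iff.2 (mul_inv_eq_iff_eq_mul.1 ?_)
      rcases (by omega : i % (2 : ℤ) = 0 ∨ i % (2 : ℤ) = 1) with h | h
      · exfalso
        rw [show ((2 : ℕ) : ℤ) = 2 from rfl, h, zpow_zero] at hi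
        have h' := hi.symm
        rw [mul_inv_eq_one, mul_eq_left] at h'
        rw [h', orderOf_one] at ht
        omega
      · rw [show ((2 : ℕ) : ℤ) = 2 from rfl, h, zpow_one] at hi
        exact hi.symm
    have h := h2.2 _ hT hT1
    rw [hN] at h
    exact h
  have hx_mem : ∀ d : ↥H, Commute (d : G) x → ∃ c : ↥C, ι c = d := fun d hd =>
    ⟨⟨d, Subgroup.mem_centralizer_singleton_iff.2 hd.eq⟩, Subtype.ext rfl⟩
  have hEL : ∀ c : ↥C, ι c ∈ pCore 2 ↥H → c ∈ Subgroup.center ↥C := by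
    intro c hc
    rcases F.normal ((pCore 2 ↥H).comap ι) inferInstance with h | h
    · exact h hc
    · exfalso
      have hxE : ι xL ∈ pCore 2 ↥H := (h ▸ Subgroup.mem_top xL : xL ∈ (pCore 2 ↥H).comap ι)
      obtain ⟨k, hk⟩ := IsPGroup.iff_card.1 (PSolvable.pCore_isPGroup (p := 2) (G := ↥H))
      have h3 := Subgroup.orderOf_dvd_natCard _ hxE
      rw [orderOf_injective ι hinj, hxL, hk] at h3
      exact not_three_dvd_two_pow k h3
  -- the fixed points of an element of order three outside the centre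
  have hfix : ∀ a : ↥C, orderOf a = 3 → a ∉ Subgroup.center ↥C →
      Nat.card ↥(pCore 2 ↥H ⊓ Subgroup.centralizer ({ι a} : Set ↥H)) < 128 ∧
      (Nat.card ↥(pCore 2 ↥H ⊓ Subgroup.centralizer ({ι a} : Set ↥H)) = 32 →
        ¬ IsElementaryAbelian 2 (pCore 2 ↥H) ∧
          Nat.card ↥(Subgroup.centralizer ({ι a} : Set ↥H)) ≤ 2304) := by
    intro a ha hac
    obtain ⟨k, hk⟩ := hfus a ha hac
    set B := pCore 2 ↥H ⊓ Subgroup.centralizer ({ι a} : Set ↥H) with hB
    set D := Subgroup.centralizer ({ι a} : Set ↥H) with hD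
    have hDa : ∀ d ∈ D, Commute (d : G) (a : G) := fun d hd =>
      congrArg Subtype.val (Subgroup.mem_centralizer_singleton_iff.1 hd)
    by_cases hkt : k * t * k⁻¹ = t
    · -- conjugate inside `H`
      have hkH : k ∈ H := Subgroup.mem_centralizer_singleton_iff.2 (mul_inv_eq_iff_eq_mul.1 hkt)
      have hBle : Nat.card ↥B ≤ 6 := by
        rw [← hZc]
        have hmap : ∀ b : ↥B, k⁻¹ * ((b : ↥H) : G) * k ∈ C := fun b => by
          have h : Commute (k⁻¹ * ((b : ↥H) : G) * k⁻¹⁻¹) (k⁻¹ * (a : G) * k⁻¹⁻¹) :=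
            (hDa _ b.2.2).map (MulAut.conj k⁻¹).toMonoidHom
          rw [← hk] at h
          refine Subgroup.mem_centralizer_singleton_iff.2 ?_
          simpa [mul_assoc] using h.eq
        refine Nat.card_le_card_of_injective (fun b => (⟨⟨_, hmap b⟩, ?_⟩ : ↥(Subgroup.center ↥C)))
          (fun b c h => ?_)
        · refine hEL _ ?_
          have he : ι (⟨_, hmap b⟩ : ↥C) = (⟨k, hkH⟩ : ↥H)⁻¹ * (b : ↥H) * (⟨k, hkH⟩ : ↥H) := Subtype.ext rfl
          rw [he]
          simpa using (inferInstance : (pCore 2 ↥H).Normal).conj_mem _ b.2.1 (⟨k, hkH⟩ : ↥H)⁻¹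
        · have h' := congrArg (fun u : ↥(Subgroup.center ↥C) => ((u : ↥C) : G)) h
          simp only [mul_left_inj, mul_right_inj] at h'
          exact Subtype.ext (Subtype.ext h')
      exact ⟨by omega, fun h => absurd h (by omega)⟩
    · -- the image in `C`
      set θ := backHom x t (a : G) k hk D hDa with hθ
      have hθc : ∀ d, ((θ d : ↥C) : G) = k⁻¹ * ((d : ↥H) : G) * k := backHom_coe x t (a : G) k hk D hDa
      have hθi : Function.Injective θ := backHom_injective x t (a : G) k hk D hDa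
      have htH : t ∈ H := Subgroup.mem_centralizer_singleton_iff.2 rfl
      have htD : (⟨t, htH⟩ : ↥H) ∈ D := Subgroup.mem_centralizer_singleton_iff.2 (Subtype.ext
        (congrArg Subtype.val (Subgroup.mem_center_iff.1 htc a)).symm)
      set s := θ ⟨⟨t, htH⟩, htD⟩ with hs
      have hs2 : orderOf s = 2 := by
        rw [hs, orderOf_injective θ hθi, ← Subgroup.orderOf_coe, ← Subgroup.orderOf_coe]
        exact ht
      have hs' : ((s : ↥C) : G) = k⁻¹ * t * k := hθc _
      have hsc : s ∉ Subgroup.center ↥C := by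
        intro h
        rcases (hdec s h).1 (by rw [← hs2]; exact pow_orderOf_eq_one s) with h1 | h1
        · rw [h1, orderOf_one] at hs2
          omega
        · apply hkt
          have h' : k⁻¹ * t * k = t := hs'.symm.trans (congrArg Subtype.val h1)
          calc k * t * k⁻¹ = k * (k⁻¹ * t * k) * k⁻¹ := by rw [h']
            _ = t := by group
      have hxD : (⟨x, hle xL.2⟩ : ↥H) ∈ D := Subgroup.mem_centralizer_singleton_iff.2 (Subtype.ext
        (show x * (a : G) = (a : G) * x from (Subgroup.mem_centralizer_singleton_iff.1 a.2).symm))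
      set a' := θ ⟨⟨x, hle xL.2⟩, hxD⟩ with ha'
      have ha'3 : orderOf a' = 3 := by
        rw [ha', orderOf_injective θ hθi, ← Subgroup.orderOf_coe, ← Subgroup.orderOf_coe]
        exact hx
      have ha'c : a' ∉ Subgroup.center ↥C := by
        intro h
        have h' : k⁻¹ * x * k⁻¹⁻¹ = x ∨ k⁻¹ * x * k⁻¹⁻¹ = x⁻¹ := by
          rw [inv_inv]
          rcases hcent3 a' ha'3 h with h1 | h1
          · exact Or.inl ((hθc _).symm.trans h1)
          · exact Or.inr ((hθc _).symm.trans h1)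
        have h2 := fix_t _ h'
        apply hkt
        calc k * t * k⁻¹ = k * (k⁻¹ * t * k⁻¹⁻¹) * k⁻¹ := by rw [h2]
          _ = t := by group
      have hsa : Commute s a' := by
        rw [hs, ha']
        exact (show Commute (⟨⟨t, htH⟩, htD⟩ : ↥D) ⟨⟨x, hle xL.2⟩, hxD⟩ from Subtype.ext (Subtype.ext
          (Subgroup.mem_centralizer_singleton_iff.1 tL.2))).map θ
      have hθrange : θ.range ≤ Subgroup.centralizer ({s} : Set ↥C) := by
        rintro _ ⟨d, rfl⟩
        refine Subgroup.mem_centralizer_singleton_iff.2 ?_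
        rw [hs]
        exact ((show Commute d (⟨⟨t, htH⟩, htD⟩ : ↥D) from Subtype.ext (Subtype.ext
          (Subgroup.mem_centralizer_singleton_iff.1 (d : ↥H).2))).map θ).eq
      set W := (B.subgroupOf D).map θ with hW
      have hWcard : Nat.card ↥W = Nat.card ↥B := by
        rw [hW, Subgroup.card_map_of_injective hθi,
          Nat.card_congr (Subgroup.subgroupOfEquivOfLe inf_le_right).toEquiv]
      have hWs : W ≤ Subgroup.centralizer ({s} : Set ↥C) := (Subgroup.map_le_range _ _).trans hθrange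
      have hBp : IsPGroup 2 ↥B := (PSolvable.pCore_isPGroup (p := 2) (G := ↥H)).to_le inf_le_left
      have hWp : IsPGroup 2 ↥W := IsPGroup.map
        (hBp.of_equiv (Subgroup.subgroupOfEquivOfLe (inf_le_right : B ≤ D)).symm) θ
      set T := Subgroup.zpowers tL with hT
      haveI hTn : T.Normal := ⟨fun n hn c => by
        rw [Subgroup.mem_center_iff.1 ((Subgroup.zpowers_le.2 htc) hn) c, mul_inv_cancel_right]; exact hn⟩
      have hTcard : Nat.card ↥T = 2 := by rw [hT, Nat.card_zpowers, htL]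
      have htW : tL ∉ W := by
        rintro ⟨b, hb, hbt⟩
        have hb' : ((b : ↥H) : G) = k * t * k⁻¹ := by
          have h' : k⁻¹ * ((b : ↥H) : G) * k = t := (hθc b).symm.trans (congrArg Subtype.val hbt)
          calc ((b : ↥H) : G) = k * (k⁻¹ * ((b : ↥H) : G) * k) * k⁻¹ := by group
            _ = k * t * k⁻¹ := by rw [h']
        have hbx : Commute ((b : ↥H) : G) x := by
          rw [hb']
          have h := Subgroup.mem_center_iff.1 htc a'
          have h2 : Commute (k⁻¹ * x * k) t := by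
            have := congrArg Subtype.val h
            rwa [Subgroup.coe_mul, Subgroup.coe_mul, hθc] at this
          have h3 : Commute (k * (k⁻¹ * x * k) * k⁻¹) (k * t * k⁻¹) := h2.map (MulAut.conj k).toMonoidHom
          rw [show k * (k⁻¹ * x * k) * k⁻¹ = x by group] at h3
          exact h3.symm
        obtain ⟨c, hc⟩ := hx_mem _ hbx
        have hcc := hEL c (hc ▸ hb.1)
        have hc' : (c : G) = k * t * k⁻¹ := (congrArg Subtype.val hc).trans hb'
        have hc2 : c ^ 2 = 1 := Subtype.ext (by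
          rw [SubgroupClass.coe_pow, hc', conj_pow, ← ht, pow_orderOf_eq_one, mul_one, mul_inv_cancel]
          rfl)
        rcases (hdec c hcc).1 hc2 with h1 | h1
        · rw [h1] at hc'
          have h' : k * t * k⁻¹ = 1 := hc'.symm
          rw [mul_inv_eq_one, mul_eq_left] at h'
          rw [h', orderOf_one] at ht
          omega
        · exact hkt (hc'.symm.trans (congrArg Subtype.val h1))
      have hW'card : Nat.card ↥(W ⊔ T) = 2 * Nat.card ↥B := by
        have h1 := card_map_mul_ker (QuotientGroup.mk' T) (W ⊔ T)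
        have h2 := card_map_mul_ker (QuotientGroup.mk' T) W
        rw [QuotientGroup.ker_mk', inf_eq_left.2 le_sup_right, hTcard,
          Subgroup.map_sup, QuotientGroup.map_mk'_self, sup_bot_eq] at h1
        have hbot : T ⊓ W = ⊥ := by
          rcases (Nat.dvd_prime Nat.prime_two).1 (hTcard ▸ Subgroup.card_dvd_of_le (inf_le_left : T ⊓ W ≤ T)) with
            h | h
          · exact Subgroup.eq_bot_of_card_eq _ h
          · have he := Subgroup.eq_of_le_of_card_ge (inf_le_left : T ⊓ W ≤ T) (by rw [hTcard, h])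
            exact absurd (he.symm ▸ Subgroup.mem_zpowers tL : tL ∈ T ⊓ W).2 htW
        rw [QuotientGroup.ker_mk', hbot, Subgroup.card_bot, mul_one, hWcard] at h2
        rw [← h1, h2, mul_comm]
      have hTs : T ≤ Subgroup.centralizer ({s} : Set ↥C) := Subgroup.zpowers_le.2
        (Subgroup.mem_centralizer_singleton_iff.2 (Subgroup.mem_center_iff.1 htc s).symm)
      have hnorm : ∀ c ∈ Subgroup.centralizer ({s} : Set ↥C), ∀ v ∈ W ⊔ T, c * v * c⁻¹ ∈ W ⊔ T := by
        intro c hc
        have hd : k * (c : G) * k⁻¹ ∈ H := by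
          refine Subgroup.mem_centralizer_singleton_iff.2 ?_
          have h : Commute (k * (c : G) * k⁻¹) (k * ((s : ↥C) : G) * k⁻¹) :=
            (show Commute (c : G) ((s : ↥C) : G) from
              congrArg Subtype.val (Subgroup.mem_centralizer_singleton_iff.1 hc)).map (MulAut.conj k).toMonoidHom
          rw [hs', show k * (k⁻¹ * t * k) * k⁻¹ = t by group] at h
          exact h.eq
        have hdD : (⟨_, hd⟩ : ↥H) ∈ D := by
          refine Subgroup.mem_centralizer_singleton_iff.2 (Subtype.ext ?_)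
          show k * (c : G) * k⁻¹ * (a : G) = (a : G) * (k * (c : G) * k⁻¹)
          rw [← hk]
          exact ((show Commute (c : G) x from Subgroup.mem_centralizer_singleton_iff.1 c.2).map
            (MulAut.conj k).toMonoidHom).eq
        have hθd : θ ⟨⟨_, hd⟩, hdD⟩ = c := Subtype.ext (by rw [hθc]; group)
        have hcomap : W ⊔ T ≤ (W ⊔ T).comap (MulAut.conj c).toMonoidHom := by
          refine sup_le ?_ ?_
          · rintro _ ⟨b, hb, rfl⟩
            refine Subgroup.mem_sup_left ⟨⟨⟨_, hd⟩, hdD⟩ * b * (⟨⟨_, hd⟩, hdD⟩ : ↥D)⁻¹, ⟨?_, ?_⟩, ?_⟩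
            · exact (inferInstance : (pCore 2 ↥H).Normal).conj_mem _ hb.1 _
            · exact (⟨⟨_, hd⟩, hdD⟩ * b * (⟨⟨_, hd⟩, hdD⟩ : ↥D)⁻¹ : ↥D).2
            · rw [map_mul, map_mul, map_inv, hθd]
              rfl
          · intro v hv
            refine Subgroup.mem_sup_right ?_
            exact hTn.conj_mem v hv c
        exact fun v hv => hcomap hv
      have hW'p : IsPGroup 2 ↥(W ⊔ T) :=
        hWp.to_sup_of_normal_right (IsPGroup.of_card (n := 1) (by rw [hTcard, pow_one]))
      have h256 := F.no_big s a' (W ⊔ T) hs2 hsc ha'3 ha'c hsa hW'p (sup_le hWs hTs) hnorm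
      rw [hW'card] at h256
      refine ⟨by omega, fun h32 => ⟨fun hel => ?_, ?_⟩⟩
      · have hWel : IsElementaryAbelian 2 (W ⊔ T) := by
          have hdecomp : ∀ v ∈ W ⊔ T, ∃ b : ↥D, (b : ↥H) ∈ pCore 2 ↥H ∧ ∃ z ∈ T, v = θ b * z := by
            intro v hv
            obtain ⟨w', hw', z, hz, rfl⟩ := Subgroup.mem_sup_of_normal_right.1 hv
            obtain ⟨b, hb, rfl⟩ := hw'
            exact ⟨b, hb.1, z, hz, rfl⟩
          have hTc : ∀ z ∈ T, ∀ c : ↥C, Commute z c := fun z hz c =>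
            (Subgroup.mem_center_iff.1 ((Subgroup.zpowers_le.2 htc) hz) c).symm
          have hbb : ∀ b b' : ↥D, (b : ↥H) ∈ pCore 2 ↥H → (b' : ↥H) ∈ pCore 2 ↥H → Commute b b' :=
            fun b b' hb hb' => Subtype.ext (show (b : ↥H) * b' = b' * b from
              congrArg Subtype.val (hel.1.1.1 (⟨_, hb⟩ : ↥(pCore 2 ↥H)) ⟨_, hb'⟩))
          refine ⟨⟨⟨fun u v => ?_⟩⟩, fun v hv => ?_⟩
          · obtain ⟨b, hb, z, hz, hu⟩ := hdecomp _ u.2
            obtain ⟨b', hb', z', hz', hv⟩ := hdecomp _ v.2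
            apply Subtype.ext
            rw [Subgroup.coe_mul, Subgroup.coe_mul, hu, hv]
            exact ((((hbb b b' hb hb').map θ).mul_right (hTc z' hz' (θ b)).symm).mul_left
              ((hTc z hz (θ b')).mul_right (hTc z hz z'))).eq
          · obtain ⟨b, hb, z, hz, rfl⟩ := hdecomp _ hv
            have hz2 : z ^ 2 = 1 := by
              have := pow_card_eq_one' (G := ↥T) (x := ⟨z, hz⟩)
              rw [hTcard] at this
              exact congrArg Subtype.val this
            have hb2 : b ^ 2 = 1 := Subtype.ext (hel.2 _ hb)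
            rw [(hTc z hz (θ b)).symm.mul_pow, hz2, ← map_pow, hb2, map_one, one_mul]
        have := F.elementary _ hWel
        rw [hW'card, h32] at this
        omega
      · calc Nat.card ↥D ≤ Nat.card ↥θ.range :=
            (Nat.card_congr (MonoidHom.ofInjective hθi).toEquiv).le
          _ ≤ Nat.card ↥(Subgroup.centralizer ({s} : Set ↥C)) := Subgroup.card_le_of_le hθrange
          _ ≤ 2304 := F.cent_two s hs2 hsc
  have hcentx : Subgroup.centralizer ({ι xL} : Set ↥H) = ι.range := by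
    ext d
    constructor
    · intro hd
      exact hx_mem d (congrArg Subtype.val (Subgroup.mem_centralizer_singleton_iff.1 hd))
    · rintro ⟨c, rfl⟩
      exact Subgroup.mem_centralizer_singleton_iff.2
        ((show Commute c xL from Subgroup.mem_center_iff.1 hxc c).map ι).eq
  have hwinv : w * ι xL * w⁻¹ = (ι xL)⁻¹ := Subtype.ext hw0
  have htcen : ι tL ∈ Subgroup.center ↥H := Subgroup.mem_center_iff.2 fun d =>
    Subtype.ext (Subgroup.mem_centralizer_singleton_iff.1 d.2)
  have D : Local ι xL tL w :=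
    { facts := F
      perfect := hperf
      inj := hinj
      hx := hxL
      ht := htL
      xc := hxc
      tc := htc
      center_eq := hceq
      cent_x := hcentx
      inverts := hwinv
      t_central := htcen
      charTwo := hchar
      fix_lt := fun a ha hac => (hfix a ha hac).1
      not_elementary := fun a ha hac h => ((hfix a ha hac).2 h).1
      cent_le := fun a ha hac h => ((hfix a ha hac).2 h).2 }
  obtain ⟨hX, hcard, -⟩ := D.core
  obtain ⟨N, M, hNn, hMn, hEN, hNM, hMidx, hNcard, hMN, hMperf, hout, hsub, ⟨iso⟩⟩ := D.middle qSeven qBig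
  exact ⟨t, Cfsg.Agent.Lib.J4Bridge14.jankoFour_of_middle ht (pCore 2 ↥H) N M hEN hNM hMidx hX hcard hNcard
    hMN hMperf hchar hout ⟨iso.trans e⟩⟩

end Cfsg.Agent.Lib.SixThree54
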