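import Cfsg.Agent.Lib.SixThree54.Spec
import Cfsg.Agent.S5432
import Cfsg.Agent.S0287

/-!
# The bound by the orthogonal group, and the possible indices

Bricks for the recognition of `J4` (row S3317), written by helper67.
-/

set_option autoImplicit false

universe u

namespace Cfsg.Agent.Lib.SixThree54

open Cfsg

/-- `|GO⁺₁₂(2)|` is the number `goPlusTwelve`. -/
theorem card_isometryGroup_plus_six :
    Nat.card (Cfsg.isometryGroup (ZMod 2) (Cfsg.quadFormPlus 6 (ZMod 2))) = goPlusTwelve := by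
  rw [Cfsg.Agent.S0287.result (q := 2) (ZMod.card 2) 6 (by norm_num)]
  simp [goPlusTwelve, Finset.prod_range_succ]

/-- A self-centralising normal extraspecial subgroup of plus type bounds the quotient by the
orthogonal group. -/
theorem outDvd : OutDvdStmt.{u} := by
  intro H _ _ E _ hE hcard hcent hA
  obtain ⟨iso⟩ := (Cfsg.Agent.S5432.result hE 6 (by norm_num) hcard).1 hA
  let f : H →* Cfsg.Out ↥E := (QuotientGroup.mk' (Cfsg.Inn ↥E)).comp MulAut.conjNormal
  have hker : f.ker = E := by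
    ext h
    rw [MonoidHom.mem_ker, MonoidHom.comp_apply, QuotientGroup.mk'_apply,
      QuotientGroup.eq_one_iff, Cfsg.Inn, MonoidHom.mem_range]
    constructor
    · rintro ⟨e, he⟩
      have hmem : (e : H)⁻¹ * h ∈ E := hcent (Subgroup.mem_centralizer_iff.2 fun x hx => by
        have := congrArg Subtype.val (DFunLike.congr_fun he ⟨x, hx⟩)
        simp only [MulAut.conj_apply, MulAut.conjNormal_apply, Subgroup.coe_mul,
          Subgroup.coe_inv] at this
        calc x * ((e : H)⁻¹ * h) = (e : H)⁻¹ * ((e : H) * x * (e : H)⁻¹) * h := by group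
          _ = (e : H)⁻¹ * (h * x * h⁻¹) * h := by rw [this]
          _ = (e : H)⁻¹ * h * x := by group)
      simpa using E.mul_mem e.2 hmem
    · intro hh
      refine ⟨⟨h, hh⟩, ?_⟩
      ext x
      simp [MulAut.conjNormal_apply]
  have hq : Nat.card (H ⧸ E) = Nat.card f.range := by
    rw [← Nat.card_congr (QuotientGroup.quotientKerEquivRange f).toEquiv]
    exact Nat.card_congr (QuotientGroup.quotientMulEquivOfEq hker.symm).toEquiv
  rw [hq, ← card_isometryGroup_plus_six, ← Nat.card_congr iso.toEquiv]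
  exact Subgroup.card_subgroup_dvd_card _

/-- The possible indices of the normaliser. -/
theorem index : IndexStmt := by
  intro n hn h27 h7
  have hq : n ∣ 2 ^ 23 * ((3 ^ 5 * 7) * ((5 * 17) * 31)) :=
    Nat.dvd_of_mul_dvd_mul_right (by norm_num : 0 < 2661120) (by
      simpa [goPlusTwelve] using hn)
  obtain ⟨a, b, ha, hb, rfl⟩ := Nat.dvd_mul.1 hq
  obtain ⟨k, hk, rfl⟩ := (Nat.dvd_prime_pow Nat.prime_two).1 ha
  have h3 : ¬ 3 ∣ b := fun hd => by
    obtain ⟨c, hc⟩ := dvd_mul_of_dvd_right hd (2 ^ k)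
    omega
  have h7' : ¬ 7 ∣ b := fun hd => by
    obtain ⟨c, hc⟩ := dvd_mul_of_dvd_right hd (2 ^ k)
    omega
  have hco : Nat.Coprime b (3 ^ 5 * 7) :=
    Nat.Coprime.mul_right
      (Nat.Coprime.pow_right 5 ((Nat.prime_three.coprime_iff_not_dvd.2 h3).symm))
      (((by norm_num : Nat.Prime 7).coprime_iff_not_dvd.2 h7').symm)
  obtain ⟨bc, d, hbc, hd, rfl⟩ := Nat.dvd_mul.1 (hco.dvd_of_dvd_mul_left hb)
  obtain ⟨b5, b17, hb5, hb17, rfl⟩ := Nat.dvd_mul.1 hbc
  have hb5' := (Nat.dvd_prime Nat.prime_five).1 hb5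
  have hb17' := (Nat.dvd_prime (by norm_num : Nat.Prime 17)).1 hb17
  have hd' := (Nat.dvd_prime (by norm_num : Nat.Prime 31)).1 hd
  have key : ∀ b ∈ [1, 31, 17, 527, 5, 155, 85, 2635], ∀ j < 24,
      (2 ^ j * b) % 27 = 1 → (2 ^ j * b) % 7 = 1 → b = 1 ∧ (j = 0 ∨ j = 18) := by decide
  have hmem : b5 * b17 * d ∈ [1, 31, 17, 527, 5, 155, 85, 2635] := by
    rcases hb5' with rfl | rfl <;> rcases hb17' with rfl | rfl <;> rcases hd' with rfl | rfl <;>
      decide
  obtain ⟨h1, h0 | h18⟩ := key _ hmem k (Nat.lt_succ_of_le hk) h27 h7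
  · exact Or.inl (by rw [h1, h0]; norm_num)
  · exact Or.inr (by rw [h1, h18]; norm_num)

end Cfsg.Agent.Lib.SixThree54
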