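import Cfsg.Agent.Lib.SixThree54.Spec

/-!
An extraspecial group of order `2^13` with an automorphism of order three fixing only central
elements contains an elementary abelian subgroup of order `2^7`: build one invariant under the
automorphism four-group by four-group.
-/

set_option autoImplicit false

universe u

namespace Cfsg.Agent.Lib.SixThree54.PlusProof

open Cfsg

variable {E : Type u} [Group E] [Finite E]

/-- The facts about an extraspecial `2`-group that are used. -/
structure Base (E : Type u) [Group E] : Prop where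
  card : Nat.card ↥(Subgroup.center E) = 2
  comm : ∀ x y : E, x * y * x⁻¹ * y⁻¹ ∈ Subgroup.center E

theorem base_of (h : IsExtraspecial 2 E) : Base E := by
  obtain ⟨⟨-, -, hc⟩, hcard⟩ := h
  refine ⟨hcard, fun x y => ?_⟩
  rw [← hc]
  exact Subgroup.commutator_mem_commutator (Subgroup.mem_top x) (Subgroup.mem_top y)

variable (hB : Base E)
include hB

theorem sq_one {c : E} (hc : c ∈ Subgroup.center E) : c * c = 1 := by
  have h := congrArg Subtype.val (pow_card_eq_one' (x := (⟨c, hc⟩ : ↥(Subgroup.center E))))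
  rw [hB.card] at h
  simpa [pow_two] using h

theorem eq_of_ne_one {c d : E} (hc : c ∈ Subgroup.center E) (hd : d ∈ Subgroup.center E)
    (hc1 : c ≠ 1) (hd1 : d ≠ 1) : c = d := by
  obtain ⟨a, b, hab, huniv⟩ := Nat.card_eq_two_iff.1 hB.card
  have hmem : ∀ x : ↥(Subgroup.center E), x = a ∨ x = b := fun x => by
    have : x ∈ ({a, b} : Set ↥(Subgroup.center E)) := huniv ▸ Set.mem_univ x
    simpa using this
  have key : (⟨c, hc⟩ : ↥(Subgroup.center E)) = ⟨d, hd⟩ := by
    have hc' : (⟨c, hc⟩ : ↥(Subgroup.center E)) ≠ 1 := fun e => hc1 (congrArg Subtype.val e)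
    have hd' : (⟨d, hd⟩ : ↥(Subgroup.center E)) ≠ 1 := fun e => hd1 (congrArg Subtype.val e)
    rcases hmem 1 with h | h <;> rcases hmem ⟨c, hc⟩ with h' | h' <;> rcases hmem ⟨d, hd⟩ with h'' | h'' <;>
      simp_all
  exact congrArg Subtype.val key

omit [Finite E] in
theorem exists_swap (x y : E) : ∃ k ∈ Subgroup.center E, x * y = y * x * k :=
  ⟨x⁻¹ * y⁻¹ * x * y, by simpa using hB.comm x⁻¹ y⁻¹, by group⟩

theorem sq_mem (x : E) : x * x ∈ Subgroup.center E := by
  refine Subgroup.mem_center_iff.2 fun y => ?_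
  obtain ⟨k, hk, hyx⟩ := exists_swap hB y x
  have hkx : k * x = x * k := (Subgroup.mem_center_iff.1 hk x).symm
  calc y * (x * x) = x * y * (k * x) := by rw [← mul_assoc, hyx]; group
    _ = x * (y * x) * k := by rw [hkx]; group
    _ = x * x * y * (k * k) := by rw [hyx]; group
    _ = x * x * y := by rw [sq_one hB hk, mul_one]

/-- The map `x ↦ [x, e]` into the centre. -/
def commHom (e : E) : E →* ↥(Subgroup.center E) where
  toFun x := ⟨x * e * x⁻¹ * e⁻¹, hB.comm x e⟩
  map_one' := Subtype.ext (by simp)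
  map_mul' x y := Subtype.ext (by
    simp only [Subgroup.coe_mul]
    have h := Subgroup.mem_center_iff.1 (hB.comm y e) x
    calc x * y * e * (x * y)⁻¹ * e⁻¹ = x * (y * e * y⁻¹ * e⁻¹) * e * x⁻¹ * e⁻¹ := by group
      _ = (y * e * y⁻¹ * e⁻¹) * (x * e * x⁻¹ * e⁻¹) := by rw [h]; group
      _ = x * e * x⁻¹ * e⁻¹ * (y * e * y⁻¹ * e⁻¹) :=
        (Subgroup.mem_center_iff.1 (hB.comm y e) _).symm)

theorem index_cent_le (e : E) : (Subgroup.centralizer ({e} : Set E)).index ≤ 2 := by
  have hker : (commHom hB e).ker = Subgroup.centralizer ({e} : Set E) := by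
    ext x
    rw [MonoidHom.mem_ker, Subgroup.mem_centralizer_singleton_iff, Subtype.ext_iff]
    show x * e * x⁻¹ * e⁻¹ = 1 ↔ _
    rw [mul_inv_eq_one, mul_inv_eq_iff_eq_mul]
  rw [← hker, Subgroup.index_ker]
  exact le_of_le_of_eq (Subgroup.card_le_card_group (commHom hB e).range) hB.card

/-- An involution of a large centralizer outside the subgroup. -/
theorem exists_invo (B : Subgroup E) (hZ : Subgroup.center E ≤ B)
    (hbig : 4 * Nat.card ↥B < Nat.card ↥(Subgroup.centralizer (B : Set E))) :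
    ∃ e ∈ Subgroup.centralizer (B : Set E), e ∉ B ∧ e * e = 1 := by
  classical
  by_contra hno
  push Not at hno
  set D := Subgroup.centralizer (B : Set E) with hD
  -- two members of `D \ B` with product outside `B` do not commute
  have nc : ∀ u v : E, u ∈ D → v ∈ D → u ∉ B → v ∉ B → u * v ∉ B → u * v ≠ v * u := by
    intro u v huD hvD hu hv huv hc
    refine hno (u * v) (D.mul_mem huD hvD) huv ?_
    calc u * v * (u * v) = u * (v * u) * v := by group
      _ = u * u * (v * v) := by rw [← hc]; group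
      _ = v * v * (v * v) := by
        rw [eq_of_ne_one hB (sq_mem hB u) (sq_mem hB v) (hno u huD hu) (hno v hvD hv)]
      _ = 1 := sq_one hB (sq_mem hB v)
  have outside : ∀ S : Set E, S.ncard ≤ 4 * Nat.card ↥B → ∃ x ∈ D, x ∉ S := by
    intro S hS
    by_contra hcon
    push Not at hcon
    have h1 : (D : Set E).ncard ≤ S.ncard := Set.ncard_le_ncard hcon (Set.toFinite _)
    rw [← Nat.card_coe_set_eq, SetLike.coe_sort_coe] at h1
    omega
  let co : E → Set E := fun x => (x * ·) '' (B : Set E)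
  have hco : ∀ x, (co x).ncard ≤ Nat.card ↥B := fun x =>
    (Set.ncard_image_le (Set.toFinite _)).trans (le_of_eq (Nat.card_coe_set_eq _).symm)
  have nco : ∀ x y : E, y ∉ co x → x⁻¹ * y ∉ B := fun x y h hm => h ⟨x⁻¹ * y, hm, by group⟩
  have mulout : ∀ x y : E, x⁻¹ * y ∉ B → x * y ∉ B := fun x y h hm => h (by
    have : x⁻¹ * y = (x * x)⁻¹ * (x * y) := by group
    rw [this]
    exact B.mul_mem (B.inv_mem (hZ (sq_mem hB x))) hm)
  obtain ⟨a, haD, haS⟩ := outside (B : Set E) (by rw [← Nat.card_coe_set_eq, SetLike.coe_sort_coe]; omega)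
  obtain ⟨b, hbD, hbS⟩ := outside ((B : Set E) ∪ co a) (by
    refine (Set.ncard_union_le _ _).trans ?_
    rw [← Nat.card_coe_set_eq (B : Set E), SetLike.coe_sort_coe]
    have := hco a
    omega)
  simp only [Set.mem_union, not_or, SetLike.mem_coe] at hbS haS
  obtain ⟨c, hcD, hcS⟩ := outside ((B : Set E) ∪ co a ∪ co b ∪ co (a * b)) (by
    refine (Set.ncard_union_le _ _).trans ?_
    have h1 := Set.ncard_union_le ((B : Set E) ∪ co a) (co b)
    have h2 := Set.ncard_union_le (B : Set E) (co a)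
    rw [← Nat.card_coe_set_eq (B : Set E), SetLike.coe_sort_coe] at h2
    have := hco a
    have := hco b
    have := hco (a * b)
    omega)
  simp only [Set.mem_union, not_or, SetLike.mem_coe] at hcS
  obtain ⟨⟨⟨hc, hca⟩, hcb⟩, hcab⟩ := hcS
  have hab : a * b ∉ B := mulout a b (nco a b hbS.2)
  have swapout : ∀ x : E, x⁻¹ * c ∉ B → c * x ∉ B := fun x h hm => by
    obtain ⟨k, hk, hxc⟩ := exists_swap hB x c
    exact mulout x c h (hxc ▸ B.mul_mem hm (hZ hk))
  have n1 := nc c a hcD haD hc haS (swapout a (nco a c hca))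
  have n2 := nc c b hcD hbD hc hbS.1 (swapout b (nco b c hcb))
  have n3 := nc c (a * b) hcD (D.mul_mem haD hbD) hc hab (swapout (a * b) (nco (a * b) c hcab))
  obtain ⟨k, hk, hca'⟩ := exists_swap hB c a
  obtain ⟨l, hl, hcb'⟩ := exists_swap hB c b
  have hkl : k = l := eq_of_ne_one hB hk hl (fun e => n1 (by rw [hca', e, mul_one]))
    (fun e => n2 (by rw [hcb', e, mul_one]))
  subst hkl
  refine n3 ?_
  calc c * (a * b) = a * c * (k * b) := by rw [← mul_assoc, hca']; group
    _ = a * c * (b * k) := by rw [Subgroup.mem_center_iff.1 hk b]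
    _ = a * (c * b) * k := by group
    _ = a * b * c * (k * k) := by rw [hcb']; group
    _ = a * b * c := by rw [sq_one hB hk, mul_one]

omit hB in
/-- Adjoining a commuting involution. -/
theorem exists_ext (B : Subgroup E) (hel : IsElementaryAbelian 2 B) {e : E}
    (hcomm : e ∈ Subgroup.centralizer (B : Set E)) (he : e ∉ B) (he2 : e * e = 1) :
    ∃ B1 : Subgroup E, IsElementaryAbelian 2 B1 ∧ Nat.card ↥B1 = 2 * Nat.card ↥B ∧
      ∀ x, x ∈ B1 ↔ x ∈ B ∨ e * x ∈ B := by
  classical
  obtain ⟨hab, hsq⟩ := hel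
  have hc : ∀ b ∈ B, b * e = e * b := fun b hb => Subgroup.mem_centralizer_iff.1 hcomm b hb
  have hbb : ∀ x ∈ B, ∀ y ∈ B, x * y = y * x := fun x hx y hy =>
    congrArg Subtype.val (mul_comm' (⟨x, hx⟩ : ↥B) ⟨y, hy⟩)
  have hee : ∀ x : E, e * (e * x) = x := fun x => by rw [← mul_assoc, he2, one_mul]
  have hmem : ∀ {x : E}, e * x ∈ B → ∃ b ∈ B, x = e * b := fun {x} h => ⟨e * x, h, (hee x).symm⟩
  let B1 : Subgroup E :=
    { carrier := {x | x ∈ B ∨ e * x ∈ B}
      one_mem' := Or.inl B.one_mem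
      mul_mem' := by
        rintro x y (hx | hx) (hy | hy)
        · exact Or.inl (B.mul_mem hx hy)
        · obtain ⟨b, hb, rfl⟩ := hmem hy
          refine Or.inr ?_
          rw [← mul_assoc x, hc x hx, mul_assoc e x, hee]
          exact B.mul_mem hx hb
        · exact Or.inr (by rw [← mul_assoc]; exact B.mul_mem hx hy)
        · obtain ⟨b, hb, rfl⟩ := hmem hx
          obtain ⟨b', hb', rfl⟩ := hmem hy
          refine Or.inl ?_
          rw [mul_assoc e b, ← mul_assoc b, hc b hb, mul_assoc e b, hee]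
          exact B.mul_mem hb hb'
      inv_mem' := by
        rintro x (hx | hx)
        · exact Or.inl (B.inv_mem hx)
        · obtain ⟨b, hb, rfl⟩ := hmem hx
          refine Or.inr ?_
          rw [mul_inv_rev, inv_eq_of_mul_eq_one_right he2, hc b⁻¹ (B.inv_mem hb), hee]
          exact B.inv_mem hb }
  have hcarrier : ∀ x, x ∈ B1 ↔ x ∈ B ∨ e * x ∈ B := fun x => Iff.rfl
  refine ⟨B1, ⟨⟨⟨?_⟩⟩, ?_⟩, ?_, hcarrier⟩
  · rintro ⟨x, hx⟩ ⟨y, hy⟩
    apply Subtype.ext
    show x * y = y * x
    rcases (hcarrier x).1 hx with hx | hx <;> rcases (hcarrier y).1 hy with hy | hy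
    · exact hbb x hx y hy
    · obtain ⟨b, hb, rfl⟩ := hmem hy
      rw [← mul_assoc, hc x hx, mul_assoc, hbb x hx b hb, mul_assoc]
    · obtain ⟨b, hb, rfl⟩ := hmem hx
      rw [← mul_assoc y, hc y hy, mul_assoc e y, hbb y hy b hb, mul_assoc]
    · obtain ⟨b, hb, rfl⟩ := hmem hx
      obtain ⟨b', hb', rfl⟩ := hmem hy
      rw [mul_assoc e b, ← mul_assoc b, hc b hb, mul_assoc e b, hee,
        mul_assoc e b', ← mul_assoc b', hc b' hb', mul_assoc e b', hee]
      exact hbb b hb b' hb'
  · intro x hx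
    rcases (hcarrier x).1 hx with hx | hx
    · exact hsq x hx
    · obtain ⟨b, hb, rfl⟩ := hmem hx
      rw [pow_two, mul_assoc, ← mul_assoc b, hc b hb, mul_assoc e b b, ← mul_assoc, he2, one_mul,
        ← pow_two]
      exact hsq b hb
  · have hset : (B1 : Set E) = (B : Set E) ∪ (e * ·) '' (B : Set E) := by
      ext x
      constructor
      · rintro (h | h)
        · exact Or.inl h
        · obtain ⟨b, hb, rfl⟩ := hmem h
          exact Or.inr ⟨b, hb, rfl⟩
      · rintro (h | ⟨b, hb, rfl⟩)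
        · exact Or.inl h
        · exact Or.inr (by show e * (e * b) ∈ B; rw [hee]; exact hb)
    have hdisj : Disjoint (B : Set E) ((e * ·) '' (B : Set E)) := by
      rw [Set.disjoint_left]
      rintro x hx ⟨b, hb, rfl⟩
      refine he ?_
      have h := B.mul_mem hx (B.inv_mem hb)
      rwa [mul_inv_cancel_right] at h
    rw [← SetLike.coe_sort_coe, Nat.card_coe_set_eq, hset, Set.ncard_union_eq hdisj,
      Set.ncard_image_of_injective _ (mul_right_injective e), ← Nat.card_coe_set_eq,
      SetLike.coe_sort_coe, two_mul]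

variable (φ : MulAut E)

/-- One step: a four-group is adjoined. -/
theorem step (h3 : φ ^ 3 = 1) (hfix : ∀ e : E, φ e = e → e ∈ Subgroup.center E) (B : Subgroup E)
    (hel : IsElementaryAbelian 2 B) (hZ : Subgroup.center E ≤ B) (hinv : ∀ b ∈ B, φ b ∈ B)
    (hbig : 4 * Nat.card ↥B < Nat.card ↥(Subgroup.centralizer (B : Set E))) :
    ∃ B2 : Subgroup E, IsElementaryAbelian 2 B2 ∧ Subgroup.center E ≤ B2 ∧ (∀ b ∈ B2, φ b ∈ B2) ∧
      Nat.card ↥B2 = 4 * Nat.card ↥B ∧
      (Subgroup.centralizer (B2 : Set E)).index ≤ 4 * (Subgroup.centralizer (B : Set E)).index := by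
  have hcyc : ∀ x : E, φ (φ (φ x)) = x := fun x => by
    have := congrArg (fun f : MulAut E => f x) h3
    simpa [pow_succ] using this
  obtain ⟨e, heD, heB, he2⟩ := exists_invo hB B hZ hbig
  set f := φ e with hf
  set g := φ f with hg
  have hfe : φ g = e := hcyc e
  have hf2 : f * f = 1 := by rw [hf, ← map_mul, he2, map_one]
  have hg2 : g * g = 1 := by rw [hg, ← map_mul, hf2, map_one]
  set p := e * f * g with hp
  -- `p` is fixed
  have hzfix : ∀ c ∈ Subgroup.center E, φ c = c := by
    intro c hc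
    by_cases h1 : c = 1
    · rw [h1, map_one]
    · refine eq_of_ne_one hB (Subgroup.mem_center_iff.2 fun y => ?_) hc (by simpa using h1) h1
      obtain ⟨y', rfl⟩ := φ.surjective y
      rw [← map_mul, ← map_mul, Subgroup.mem_center_iff.1 hc y']
  obtain ⟨c, hc, hpe⟩ := exists_swap hB p e
  have hφp : φ p = p * c := by
    rw [hp, map_mul, map_mul, ← hf, ← hg, hfe]
    calc f * g * e = e⁻¹ * (p * e) := by rw [hp]; group
      _ = e⁻¹ * (e * p * c) := by rw [hpe]
      _ = p * c := by group
  have hc1 : c = 1 := by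
    have h := hcyc p
    simp only [hφp, map_mul, hzfix c hc] at h
    rw [mul_assoc, sq_one hB hc, mul_one] at h
    exact mul_left_cancel (h.trans (mul_one p).symm)
  have hpZ : p ∈ Subgroup.center E := hfix p (by rw [hφp, hc1, mul_one])
  have hgdef : g = (e * f)⁻¹ * p := by rw [hp]; group
  have hef : e * f = f * e := by
    have h1 : (e * f)⁻¹ * (e * f)⁻¹ = 1 := by
      calc (e * f)⁻¹ * (e * f)⁻¹ = (e * f)⁻¹ * (e * f)⁻¹ * (p * p) := by rw [sq_one hB hpZ, mul_one]
        _ = (e * f)⁻¹ * ((e * f)⁻¹ * p) * p := by group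
        _ = (e * f)⁻¹ * (p * (e * f)⁻¹) * p := by rw [Subgroup.mem_center_iff.1 hpZ (e * f)⁻¹]
        _ = g * g := by rw [hgdef]; group
        _ = 1 := hg2
    rw [mul_inv_rev, inv_eq_of_mul_eq_one_right hf2, inv_eq_of_mul_eq_one_right he2] at h1
    rw [eq_inv_of_mul_eq_one_left h1, mul_inv_rev, inv_eq_of_mul_eq_one_right hf2,
      inv_eq_of_mul_eq_one_right he2]
  obtain ⟨B1, hel1, hcard1, hmem1⟩ := exists_ext B hel heD heB he2
  have hfD : f ∈ Subgroup.centralizer (B : Set E) := by
    rw [Subgroup.mem_centralizer_iff]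
    intro b hb
    have hb' : φ (φ b) ∈ B := hinv _ (hinv b hb)
    have := congrArg φ (Subgroup.mem_centralizer_iff.1 heD _ hb')
    simpa [map_mul, hcyc] using this
  have hfD1 : f ∈ Subgroup.centralizer (B1 : Set E) := by
    rw [Subgroup.mem_centralizer_iff]
    intro x hx
    rcases (hmem1 x).1 hx with hx | hx
    · exact Subgroup.mem_centralizer_iff.1 hfD x hx
    · have h := Subgroup.mem_centralizer_iff.1 hfD _ hx
      calc x * f = e * (e * x * f) := by simp only [← mul_assoc]; rw [he2, one_mul]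
        _ = e * (f * (e * x)) := by rw [h]
        _ = f * (e * e) * x := by rw [← mul_assoc, hef]; group
        _ = f * x := by rw [he2, mul_one]
  have heB1 : e ∈ B1 := (hmem1 e).2 (Or.inr (by rw [he2]; exact B.one_mem))
  have hB1le : B ≤ B1 := fun x hx => (hmem1 x).2 (Or.inl hx)
  have hfB1 : f ∉ B1 := by
    intro h
    rcases (hmem1 f).1 h with h | h
    · refine heB ?_
      rw [← hfe]
      exact hinv g (hinv f h)
    · -- then `e, f, g` all lie in the same coset
      refine heB ?_
      have hfg : f * g ∈ B := by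
        have := hinv _ h
        rwa [map_mul, ← hf, ← hg] at this
      have : e = p * (f * g)⁻¹ := by rw [hp]; group
      rw [this]
      exact B.mul_mem (hZ hpZ) (B.inv_mem hfg)
  obtain ⟨B2, hel2, hcard2, hmem2⟩ := exists_ext B1 hel1 hfD1 hfB1 hf2
  have hB2le : B1 ≤ B2 := fun x hx => (hmem2 x).2 (Or.inl hx)
  have hfB2 : f ∈ B2 := (hmem2 f).2 (Or.inr (by rw [hf2]; exact B1.one_mem))
  have hgB2 : g ∈ B2 := by
    rw [hgdef]
    exact B2.mul_mem (B2.inv_mem (B2.mul_mem (hB2le heB1) hfB2)) (hB2le (hB1le (hZ hpZ)))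
  have hinv1 : ∀ x ∈ B1, φ x ∈ B2 := by
    intro x hx
    rcases (hmem1 x).1 hx with hx | hx
    · exact hB2le (hB1le (hinv x hx))
    · have h := B2.mul_mem hfB2 (hB2le (hB1le (hinv _ hx)))
      rwa [map_mul, ← hf, ← mul_assoc, hf2, one_mul] at h
  refine ⟨B2, hel2, hZ.trans (hB1le.trans hB2le), ?_, by omega, ?_⟩
  · intro x hx
    rcases (hmem2 x).1 hx with hx | hx
    · exact hinv1 x hx
    · have h := B2.mul_mem hgB2 (hinv1 _ hx)
      rwa [map_mul, ← hg, ← mul_assoc, hg2, one_mul] at h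
  · have hle : Subgroup.centralizer (B : Set E) ⊓ Subgroup.centralizer ({e} : Set E) ⊓
        Subgroup.centralizer ({f} : Set E) ≤ Subgroup.centralizer (B2 : Set E) := by
      rintro y hy0
      obtain ⟨hy01, hyf⟩ := Subgroup.mem_inf.1 hy0
      obtain ⟨hy, hye⟩ := Subgroup.mem_inf.1 hy01
      rw [Subgroup.mem_centralizer_singleton_iff] at hye hyf
      have hy1 : ∀ x ∈ B1, x * y = y * x := by
        intro x hx
        rcases (hmem1 x).1 hx with hx | hx
        · exact Subgroup.mem_centralizer_iff.1 hy x hx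
        · have h := Subgroup.mem_centralizer_iff.1 hy _ hx
          calc x * y = e * (e * x * y) := by simp only [← mul_assoc]; rw [he2, one_mul]
            _ = e * (y * (e * x)) := by rw [h]
            _ = y * (e * e) * x := by rw [← mul_assoc, ← hye]; group
            _ = y * x := by rw [he2, mul_one]
      rw [Subgroup.mem_centralizer_iff]
      intro x hx
      rcases (hmem2 x).1 hx with hx | hx
      · exact hy1 x hx
      · have h := hy1 _ hx
        calc x * y = f * (f * x * y) := by simp only [← mul_assoc]; rw [hf2, one_mul]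
          _ = f * (y * (f * x)) := by rw [h]
          _ = y * (f * f) * x := by rw [← mul_assoc, ← hyf]; group
          _ = y * x := by rw [hf2, mul_one]
    refine (Nat.le_of_dvd (Nat.pos_of_ne_zero Subgroup.index_ne_zero_of_finite)
      (Subgroup.index_dvd_of_le hle)).trans ?_
    refine (Subgroup.index_inf_le).trans ?_
    have h1 := (Subgroup.index_inf_le (H := Subgroup.centralizer (B : Set E))
      (K := Subgroup.centralizer ({e} : Set E)))
    have h2 := index_cent_le hB e
    have h3 := index_cent_le hB f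
    calc _ ≤ ((Subgroup.centralizer (B : Set E)).index * 2) * 2 :=
          Nat.mul_le_mul (h1.trans (Nat.mul_le_mul_left _ h2)) h3
      _ = _ := by ring

theorem exists_level (h3 : φ ^ 3 = 1) (hfix : ∀ e : E, φ e = e → e ∈ Subgroup.center E)
    (hcard : Nat.card E = 2 ^ 13) : ∀ k ≤ 3, ∃ B : Subgroup E, IsElementaryAbelian 2 B ∧
      Subgroup.center E ≤ B ∧ (∀ b ∈ B, φ b ∈ B) ∧ Nat.card ↥B = 2 * 4 ^ k ∧
      (Subgroup.centralizer (B : Set E)).index ≤ 4 ^ k := by
  intro k
  induction k with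
  | zero =>
    intro _
    refine ⟨Subgroup.center E, ⟨inferInstance, fun a ha => ?_⟩, le_rfl, fun b hb => ?_, ?_, ?_⟩
    · rw [pow_two]; exact sq_one hB ha
    · refine Subgroup.mem_center_iff.2 fun y => ?_
      obtain ⟨y', rfl⟩ := φ.surjective y
      rw [← map_mul, ← map_mul, Subgroup.mem_center_iff.1 hb y']
    · rw [hB.card]; rfl
    · rw [show Subgroup.centralizer ((Subgroup.center E : Subgroup E) : Set E) = ⊤ from
        Subgroup.centralizer_eq_top_iff_subset.2 subset_rfl, Subgroup.index_top]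
      rfl
  | succ k ih =>
    intro hk
    obtain ⟨B, hel, hZ, hinv, hc, hi⟩ := ih (by omega)
    have hD := Subgroup.card_mul_index (Subgroup.centralizer (B : Set E))
    rw [hcard] at hD
    have hbig : 4 * Nat.card ↥B < Nat.card ↥(Subgroup.centralizer (B : Set E)) := by
      by_contra hcon
      have h16 : 4 ^ k ≤ 16 := by
        calc 4 ^ k ≤ 4 ^ 2 := Nat.pow_le_pow_right (by norm_num) (by omega)
          _ = 16 := rfl
      have := Nat.mul_le_mul (not_lt.1 hcon) hi
      rw [hD, hc] at this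
      have : 4 * (2 * 4 ^ k) * 4 ^ k ≤ 4 * (2 * 16) * 16 :=
        Nat.mul_le_mul (Nat.mul_le_mul_left _ (Nat.mul_le_mul_left _ h16)) h16
      omega
    obtain ⟨B2, hel2, hZ2, hinv2, hc2, hi2⟩ := step hB φ h3 hfix B hel hZ hinv hbig
    refine ⟨B2, hel2, hZ2, hinv2, ?_, ?_⟩
    · rw [hc2, hc, pow_succ]; ring
    · rw [pow_succ]; omega

end Cfsg.Agent.Lib.SixThree54.PlusProof

namespace Cfsg.Agent.Lib.SixThree54

theorem plus : PlusStmt.{u} := by
  intro E _ _ hE hcard φ h3 hfix
  obtain ⟨B, hel, -, -, hc, -⟩ :=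
    PlusProof.exists_level (PlusProof.base_of hE) φ h3 hfix hcard 3 le_rfl
  exact ⟨B, hel, by rw [hc]; norm_num⟩

end Cfsg.Agent.Lib.SixThree54
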