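import Cfsg.Agent.Lib.SixThree54.QuotSpec

/-!
A Sylow three-subgroup of the centralizer of `x` fixes one point of the cosets of the normalizer
of `⟨x⟩` and is free on the others.
-/

set_option autoImplicit false

universe u

namespace Cfsg.Agent.Lib.SixThree54

theorem qThree_cube : ∀ a : ZMod 3, a * (a * a) - 1 = 0 → a - 1 = 0 := by decide

theorem qThree_cent_le {Q : Type u} [Group Q] (x : Q) :
    Subgroup.centralizer ({x} : Set Q) ≤ Subgroup.normalizer (Subgroup.zpowers x : Set Q) := by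
  intro c hc
  have hc' : Commute c x := Subgroup.mem_centralizer_singleton_iff.1 hc
  rw [Subgroup.mem_normalizer_iff]
  intro h
  constructor
  · intro hh
    obtain ⟨m, rfl⟩ := Subgroup.mem_zpowers_iff.1 hh
    rw [(hc'.zpow_right m).eq, mul_inv_cancel_right]
    exact Subgroup.zpow_mem_zpowers x m
  · intro hh
    obtain ⟨m, hm⟩ := Subgroup.mem_zpowers_iff.1 hh
    have : h = x ^ m := by
      calc h = c⁻¹ * (c * h * c⁻¹) * c := by group
        _ = c⁻¹ * (x ^ m * c) := by rw [← hm, mul_assoc]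
        _ = x ^ m := by rw [← (hc'.zpow_right m).eq, inv_mul_cancel_left]
    rw [this]
    exact Subgroup.zpow_mem_zpowers x m

theorem qThree_mem {L Q : Type u} [Group L] [Group Q] [Finite Q] {x : Q} {π : L →* Q} (D : QData x π)
    {s0 : L} (hs3 : s0 ^ 3 = 1) (hs1 : π s0 ≠ 1) {g : Q}
    (hg : g⁻¹ * π s0 * g ∈ Subgroup.normalizer (Subgroup.zpowers x : Set Q)) :
    g ∈ Subgroup.normalizer (Subgroup.zpowers x : Set Q) := by
  classical
  have : Fact (Nat.Prime 3) := ⟨Nat.prime_three⟩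
  have hx3 : x ^ 3 = 1 := by rw [← D.hx]; exact pow_orderOf_eq_one x
  set M := Subgroup.normalizer (Subgroup.zpowers x : Set Q) with hM
  set y := g⁻¹ * π s0 * g with hy
  have hy3 : y ^ 3 = 1 := by
    have h := (conj_pow (i := 3) (a := g⁻¹) (b := π s0))
    rw [inv_inv] at h
    rw [hy, h, ← map_pow, hs3, map_one, mul_one, inv_mul_cancel]
  have hy1 : y ≠ 1 := fun e => hs1 (by
    have : π s0 = g * y * g⁻¹ := by rw [hy]; group
    rw [this, e, mul_one, mul_inv_cancel])
  have hyC : y ∈ Subgroup.centralizer ({x} : Set Q) := by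
    rw [Subgroup.mem_centralizer_singleton_iff]
    have hmem := (Subgroup.mem_normalizer_iff.1 hg x).1 (Subgroup.mem_zpowers x)
    obtain ⟨n, hn⟩ := Subgroup.mem_zpowers_iff.1 hmem
    have hlin : ∀ m : ℤ, y * x ^ m * y⁻¹ = x ^ (n * m) := fun m => by
      rw [← conj_zpow, ← hn, ← zpow_mul]
    have hcube : x = x ^ (n * (n * n)) := by
      calc x = y ^ 3 * x * (y ^ 3)⁻¹ := by rw [hy3]; group
        _ = y * (y * (y * x * y⁻¹) * y⁻¹) * y⁻¹ := by
          simp only [pow_succ, pow_zero, one_mul, mul_inv_rev, mul_assoc]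
        _ = x ^ (n * (n * n)) := by rw [← hn, hlin, hlin]
    have hd : (3 : ℤ) ∣ n * (n * n) - 1 := by
      have h1 : x ^ (n * (n * n) - 1) = 1 := by rw [zpow_sub, ← hcube, zpow_one, mul_inv_cancel]
      have h2 := orderOf_dvd_iff_zpow_eq_one.2 h1
      rwa [D.hx] at h2
    have hn1 : (3 : ℤ) ∣ n - 1 := by
      have hz : ((n * (n * n) - 1 : ℤ) : ZMod 3) = 0 := (ZMod.intCast_zmod_eq_zero_iff_dvd _ 3).2 hd
      refine (ZMod.intCast_zmod_eq_zero_iff_dvd _ 3).1 ?_
      push_cast at hz ⊢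
      exact qThree_cube _ hz
    have hxn : x ^ n = x := by
      have h1 : x ^ (n - 1) = 1 := orderOf_dvd_iff_zpow_eq_one.1 (by rw [D.hx]; exact hn1)
      rw [zpow_sub, zpow_one, mul_inv_eq_one] at h1
      exact h1
    exact mul_inv_eq_iff_eq_mul.1 (hn.symm.trans hxn)
  obtain ⟨l₀, hl₀⟩ : y ∈ π.range := D.range_eq ▸ hyC
  set l := l₀ ^ 4 with hl
  have hly : π l = y := by rw [hl, map_pow, hl₀, pow_succ, hy3, one_mul]
  have hl3 : l ^ 3 = 1 := by
    have h := (D.ker (l₀ ^ 3) (by rw [map_pow, hl₀, hy3])).2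
    rw [hl, ← pow_mul, show 4 * 3 = 3 * 2 * 2 from rfl, pow_mul, pow_mul, h, one_pow]
  have hlo : orderOf l = 3 := orderOf_eq_prime hl3 (fun e => hy1 (by rw [← hly, e, map_one]))
  have hso : orderOf s0 = 3 := orderOf_eq_prime hs3 (fun e => hs1 (by rw [e, map_one]))
  have hconj : g * π l * g⁻¹ = π s0 := by rw [hly, hy]; group
  by_cases hsZ : s0 ∈ Subgroup.center L
  · have hlZ : l ∈ Subgroup.center L := by
      by_contra h
      exact D.not_conj l hlo h g (hconj ▸ D.center_map s0 hsZ)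
    have hgen : ∀ w ∈ Subgroup.zpowers x, w ≠ 1 → Subgroup.zpowers w = Subgroup.zpowers x := by
      intro w hw hw1
      refine Subgroup.eq_of_le_of_card_ge (Subgroup.zpowers_le.2 hw) (le_of_eq ?_)
      rw [Nat.card_zpowers, Nat.card_zpowers, D.hx]
      refine (orderOf_eq_prime ?_ hw1).symm
      obtain ⟨m, rfl⟩ := Subgroup.mem_zpowers_iff.1 hw
      rw [← zpow_natCast, zpow_comm, zpow_natCast, hx3, one_zpow]
    have h1 := hgen (π s0) (D.center_map s0 hsZ) hs1
    have h2 := hgen (π l) (D.center_map l hlZ) (hly.symm ▸ hy1)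
    rw [hM, Subgroup.mem_normalizer_iff_map_conj_eq]
    calc (Subgroup.zpowers x).map (MulAut.conj g).toMonoidHom
        = (Subgroup.zpowers (π l)).map (MulAut.conj g).toMonoidHom := by rw [h2]
      _ = Subgroup.zpowers (π s0) := by
          rw [MonoidHom.map_zpowers]; congr 1
      _ = Subgroup.zpowers x := h1
  · have hlZ : l ∉ Subgroup.center L := by
      intro h
      refine D.not_conj s0 hso hsZ g⁻¹ ?_
      rw [inv_inv, ← hy, ← hly]
      exact D.center_map l h
    obtain ⟨c, hc⟩ := isConj_iff.1 (D.facts.three l s0 hlo hso hlZ hsZ)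
    have hcM : π c ∈ M := by
      have : π c ∈ Subgroup.centralizer ({x} : Set Q) := D.range_eq ▸ ⟨c, rfl⟩
      exact qThree_cent_le x this
    have he : π c * π l * (π c)⁻¹ = g * π l * g⁻¹ := by
      rw [hconj, ← map_inv, ← map_mul, ← map_mul, hc]
    have hmem : (π c)⁻¹ * g ∈ M := D.cent_le l hlo hlZ (by
      rw [Subgroup.mem_centralizer_singleton_iff]
      calc (π c)⁻¹ * g * π l = (π c)⁻¹ * (g * π l * g⁻¹) * g := by group
        _ = π l * ((π c)⁻¹ * g) := by rw [← he]; group)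
    simpa using M.mul_mem hcM hmem

theorem qThree : QThreeStmt.{u} := by
  intro L Q _ _ _ _ x π D
  classical
  have : Fact (Nat.Prime 3) := ⟨Nat.prime_three⟩
  set M := Subgroup.normalizer (Subgroup.zpowers x : Set Q) with hM
  let S : Sylow 3 L := default
  set P := (S : Subgroup L).map π with hP
  have hinj : ∀ a ∈ (S : Subgroup L), π a = 1 → a = 1 := by
    intro a ha h
    obtain ⟨k, hk⟩ := S.2 ⟨a, ha⟩
    have hk' : a ^ (3 ^ k) = 1 := congrArg Subtype.val hk
    have h2 := (D.ker a h).2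
    have hcop : Nat.Coprime 2 (3 ^ k) := Nat.Coprime.pow_right k (by norm_num)
    rw [← pow_one a, ← hcop.gcd_eq_one]
    exact pow_gcd_eq_one.2 ⟨h2, hk'⟩
  have hcardP : Nat.card ↥P = 27 := by
    rw [← (D.facts.sylow_three S).1]
    refine (Nat.card_congr (Equiv.ofBijective
      (fun a : ↥(S : Subgroup L) => (⟨π a, Subgroup.mem_map_of_mem π a.2⟩ : ↥P)) ⟨?_, ?_⟩)).symm
    · intro a b e
      have e' : π a = π b := congrArg Subtype.val e
      exact Subtype.ext (mul_inv_eq_one.1 (hinj _ (mul_mem a.2 (inv_mem b.2))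
        (by rw [map_mul, map_inv, e', mul_inv_cancel])))
    · rintro ⟨w, hw⟩
      obtain ⟨a, ha, rfl⟩ := hw
      exact ⟨⟨a, ha⟩, rfl⟩
  have hPM : P ≤ M := by
    rintro w ⟨a, -, rfl⟩
    have : π a ∈ Subgroup.centralizer ({x} : Set Q) := D.range_eq ▸ ⟨a, rfl⟩
    rw [hM]
    exact qThree_cent_le x this
  -- stabilisers away from the point
  have hstab : ∀ p : Q ⧸ M, p ≠ ((1 : Q) : Q ⧸ M) → MulAction.stabilizer ↥P p = ⊥ := by
    intro p hp
    obtain ⟨g, rfl⟩ := QuotientGroup.mk_surjective p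
    rw [Subgroup.eq_bot_iff_forall]
    intro w hw
    by_contra hw1
    -- an element of order three in the stabiliser
    obtain ⟨s, hs⟩ : ∃ s : ↥(MulAction.stabilizer ↥P ((g : Q) : Q ⧸ M)), orderOf s = 3 := by
      refine exists_prime_orderOf_dvd_card' 3 ?_
      have hd : Nat.card ↥(MulAction.stabilizer ↥P ((g : Q) : Q ⧸ M)) ∣ 3 ^ 3 := by
        have := Subgroup.card_subgroup_dvd_card (MulAction.stabilizer ↥P ((g : Q) : Q ⧸ M))
        rwa [hcardP] at this
      obtain ⟨i, -, hi⟩ := (Nat.dvd_prime_pow Nat.prime_three).1 hd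
      rcases Nat.eq_zero_or_pos i with rfl | hi0
      · exfalso
        rw [pow_zero, Subgroup.card_eq_one] at hi
        rw [hi] at hw
        exact hw1 (Subgroup.mem_bot.1 hw)
      · rw [hi]; exact dvd_pow_self 3 hi0.ne'
    have hsP : orderOf (((s : ↥P) : Q)) = 3 := by
      rw [Subgroup.orderOf_coe, Subgroup.orderOf_coe, hs]
    obtain ⟨a, ha, hpa⟩ := Subgroup.mem_map.1 (s : ↥P).2
    have ha3 : a ^ 3 = 1 := hinj _ (pow_mem ha 3) (by
      rw [map_pow, hpa, ← hsP, pow_orderOf_eq_one])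
    have hne : π a ≠ 1 := by
      intro e
      rw [hpa] at e
      rw [e, orderOf_one] at hsP
      norm_num at hsP
    have hfix : ((s : ↥P) : Q) • ((g : Q) : Q ⧸ M) = ((g : Q) : Q ⧸ M) := s.2
    rw [MulAction.Quotient.smul_coe, smul_eq_mul] at hfix
    have hmem : g⁻¹ * π a * g ∈ M := by
      have := QuotientGroup.eq.1 hfix.symm
      rwa [← hpa, ← mul_assoc] at this
    exact hp (QuotientGroup.eq.2 (by simpa using M.inv_mem (qThree_mem D ha3 hne hmem)))
  have hpt : ∀ w : ↥P, w • ((1 : Q) : Q ⧸ M) = ((1 : Q) : Q ⧸ M) := by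
    intro w
    show (w : Q) • ((1 : Q) : Q ⧸ M) = _
    rw [MulAction.Quotient.smul_coe, smul_eq_mul, mul_one]
    exact QuotientGroup.eq.2 (by simpa using M.inv_mem (hPM w.2))
  -- orbit count
  have hfin : Finite (Q ⧸ M) := inferInstance
  cases nonempty_fintype (Q ⧸ M)
  cases nonempty_fintype ↥P
  let o₀ : MulAction.orbitRel.Quotient ↥P (Q ⧸ M) := Quotient.mk'' ((1 : Q) : Q ⧸ M)
  have hsum : Nat.card (Q ⧸ M) =
      ∑ o : MulAction.orbitRel.Quotient ↥P (Q ⧸ M), Nat.card (↥P ⧸ MulAction.stabilizer ↥P o.out) := by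
    rw [Nat.card_congr (MulAction.selfEquivSigmaOrbitsQuotientStabilizer ↥P (Q ⧸ M)), Nat.card_sigma]
  have h0 : o₀.out = ((1 : Q) : Q ⧸ M) := by
    obtain ⟨w, hw⟩ := (Quotient.eq''.1 (Quotient.out_eq' o₀) : o₀.out ∈ MulAction.orbit ↥P ((1 : Q) : Q ⧸ M))
    rw [← hw]
    exact hpt w
  rw [Subgroup.index, hsum, ← Finset.add_sum_erase _ _ (Finset.mem_univ o₀)]
  have h1 : Nat.card (↥P ⧸ MulAction.stabilizer ↥P o₀.out) = 1 := by
    rw [h0, show MulAction.stabilizer ↥P ((1 : Q) : Q ⧸ M) = ⊤ from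
      (Subgroup.eq_top_iff' _).2 hpt]
    exact Subgroup.index_top
  have h27 : ∀ o ∈ (Finset.univ.erase o₀), Nat.card (↥P ⧸ MulAction.stabilizer ↥P o.out) = 27 := by
    intro o ho
    rw [hstab o.out (fun e => (Finset.mem_erase.1 ho).1 ?_)]
    · exact Subgroup.index_bot.trans hcardP
    · rw [← Quotient.out_eq' o, e]
  rw [h1, Finset.sum_congr rfl h27, Finset.sum_const, smul_eq_mul, Nat.add_mul_mod_self_right]

end Cfsg.Agent.Lib.SixThree54
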