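import Cfsg.Agent.Lib.SixThree54.Spec
import Cfsg.Agent.Lib.H59.SelfThree.Structure
import Cfsg.Agent.Lib.H59.SelfThree.Fpf

/-!
A self-centralising subgroup of order three with a twisted automorphism of order three is normal.
-/

set_option autoImplicit false

universe u

namespace Cfsg.Agent.Lib.SixThree54

open Subgroup Cfsg
open scoped Pointwise
open Cfsg.Agent.Lib.H59.SelfThree (Inv3)

/-- An element of a commutative invariant set fixed only trivially has trivial norm. -/
theorem norm_eq_one {K : Type u} [Group K] {f : K → K} {S : Set K}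
    (hmul : ∀ a b : K, f (a * b) = f a * f b) (h3 : ∀ a, f (f (f a)) = a)
    (hmem : ∀ a ∈ S, ∀ b ∈ S, a * b ∈ S) (hf : ∀ a ∈ S, f a ∈ S)
    (hcomm : ∀ a ∈ S, ∀ b ∈ S, a * b = b * a) (hfix : ∀ a ∈ S, f a = a → a = 1)
    {a : K} (ha : a ∈ S) : a * f a * f (f a) = 1 := by
  refine hfix _ (hmem _ (hmem _ ha _ (hf _ ha)) _ (hf _ (hf _ ha))) ?_
  rw [hmul, hmul, h3]
  exact (hcomm _ (hmem _ (hf _ ha) _ (hf _ (hf _ ha))) _ ha).trans (mul_assoc _ _ _).symm

section

variable {K : Type u} [Group K] [Finite K] {x : K} (hx : orderOf x = 3)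
  (hC : Subgroup.centralizer ({x} : Set K) = Subgroup.zpowers x)
  {α : MulAut K} (hα : α ^ 3 = 1) (hαx : α x = x)
  (hfix : ∀ (j : ℕ) (k : K), α (x ^ j * k * (x ^ j)⁻¹) = k →
    k ∈ Subgroup.normalizer (Subgroup.zpowers x : Set K))

include hx hC hα hαx hfix

/-- There is no invariant abelian subgroup of order prime to three. -/
theorem eq_bot_of_invariant_abelian (Z : Subgroup K) (hZ : ¬ 3 ∣ Nat.card Z)
    (hcomm : ∀ a ∈ Z, ∀ b ∈ Z, a * b = b * a) (hαZ : ∀ a ∈ Z, α a ∈ Z)
    (hxZ : ∀ a ∈ Z, x * a * x⁻¹ ∈ Z) : Z = ⊥ := by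
  have hx3 : x ^ 3 = 1 := by rw [← hx, pow_orderOf_eq_one]
  have h3 : ∀ a, α (α (α a)) = a := fun a => by
    have h := DFunLike.congr_fun hα a
    simpa [pow_succ] using h
  have hpow : ∀ (j : ℕ), ∀ a ∈ Z, x ^ j * a * (x ^ j)⁻¹ ∈ Z := by
    intro j
    induction j with
    | zero => intro a ha; simpa using ha
    | succ j ih =>
      intro a ha
      have h := hxZ _ (ih a ha)
      simpa [pow_succ', mul_assoc] using h
  -- an element of `Z` normalising `⟨x⟩` is trivial
  have hnorm : ∀ a ∈ Z, a ∈ Subgroup.normalizer (Subgroup.zpowers x : Set K) → a = 1 := by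
    intro a ha hn
    have h1 : a * x * a⁻¹ * x⁻¹ ∈ Z := by
      have := Z.mul_mem ha (hxZ _ (Z.inv_mem ha))
      simpa [mul_assoc] using this
    have h2 : a * x * a⁻¹ * x⁻¹ ∈ Subgroup.zpowers x :=
      mul_mem ((Subgroup.mem_normalizer_iff.1 hn x).1 (mem_zpowers x)) (inv_mem (mem_zpowers x))
    have h4 : a * x * a⁻¹ * x⁻¹ ∈ Z ⊓ Subgroup.zpowers x := ⟨h1, h2⟩
    rw [SelfCentral.inf_zpowers_eq_bot Nat.prime_three hx hZ, mem_bot] at h4
    refine SelfCentral.eq_one_of_commute Nat.prime_three hx hC hZ ha ?_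
    rw [mul_inv_eq_one, mul_inv_eq_iff_eq_mul] at h4
    exact h4
  rw [Subgroup.eq_bot_iff_forall]
  intro a ha
  have hmem : ∀ a ∈ (Z : Set K), ∀ b ∈ (Z : Set K), a * b ∈ (Z : Set K) :=
    fun a ha b hb => Z.mul_mem ha hb
  -- the norms
  have hN : ∀ j : ℕ, ∀ b ∈ Z, b * α (x ^ j * b * (x ^ j)⁻¹) *
      α (α (x ^ (2 * j) * b * (x ^ (2 * j))⁻¹)) = 1 := by
    intro j b hb
    have h := norm_eq_one (f := fun k => α (x ^ j * k * (x ^ j)⁻¹)) (S := (Z : Set K))
      (fun a b => by rw [← map_mul]; congr 1; group)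
      (fun a => by
        simp only [map_mul, map_inv, map_pow, hαx, h3]
        have e : x ^ j * (x ^ j * (x ^ j * a * (x ^ j)⁻¹) * (x ^ j)⁻¹) * (x ^ j)⁻¹ =
            (x ^ j) ^ 3 * a * ((x ^ j) ^ 3)⁻¹ := by simp [pow_succ, mul_assoc]
        rw [e, ← pow_mul, mul_comm, pow_mul, hx3, one_pow, one_mul, inv_one, mul_one])
      hmem (fun a ha => hαZ _ (hpow j a ha)) hcomm
      (fun a ha e => hnorm a ha (hfix j a e)) hb
    rw [← h]
    congr 2
    simp only [map_mul, map_inv, map_pow, hαx]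
    rw [two_mul, pow_add]
    group
  have hc : ∀ b ∈ Z, b * (x * b * x⁻¹) * (x ^ 2 * b * (x ^ 2)⁻¹) = 1 := by
    intro b hb
    have h := norm_eq_one (f := fun k => x * k * x⁻¹) (S := (Z : Set K)) (fun a b => by group)
      (fun a => by
        have e : x * (x * (x * a * x⁻¹) * x⁻¹) * x⁻¹ = x ^ 3 * a * (x ^ 3)⁻¹ := by
          simp [pow_succ, mul_assoc]
        rw [e, hx3, one_mul, inv_one, mul_one])
      hmem hxZ hcomm
      (fun a ha e => SelfCentral.eq_one_of_commute Nat.prime_three hx hC hZ ha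
        (mul_inv_eq_iff_eq_mul.1 e).symm) hb
    rw [← h]
    congr 1
    simp [pow_succ, mul_assoc]
  have e4 : x ^ 4 = x := by rw [pow_succ, hx3, one_mul]
  have h0 := hN 0 a ha
  simp only [pow_zero, mul_zero, one_mul, inv_one, mul_one] at h0
  have h1 := hN 1 a ha
  rw [pow_one] at h1
  have h2 := hN 2 a ha
  rw [show 2 * 2 = 4 from rfl, e4] at h2
  have hcα := congrArg α (hc a ha)
  rw [map_mul, map_mul, map_one] at hcα
  have hcαα := congrArg α hcα
  rw [map_mul, map_mul, map_one] at hcαα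
  -- compute in the commutative group `Z`
  letI : CommGroup ↥Z := { (inferInstance : Group ↥Z) with
    mul_comm := fun p q => Subtype.ext (hcomm _ p.2 _ q.2) }
  have m1 := hxZ a ha
  have m2 := hpow 2 a ha
  let A : ↥Z := ⟨a, ha⟩
  let P1 : ↥Z := ⟨α a, hαZ _ ha⟩
  let P2 : ↥Z := ⟨α (α a), hαZ _ (hαZ _ ha)⟩
  let Q1 : ↥Z := ⟨α (x * a * x⁻¹), hαZ _ m1⟩
  let Q2 : ↥Z := ⟨α (α (x * a * x⁻¹)), hαZ _ (hαZ _ m1)⟩
  let R1 : ↥Z := ⟨α (x ^ 2 * a * (x ^ 2)⁻¹), hαZ _ m2⟩
  let R2 : ↥Z := ⟨α (α (x ^ 2 * a * (x ^ 2)⁻¹)), hαZ _ (hαZ _ m2)⟩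
  have E0 : A * P1 * P2 = 1 := Subtype.ext h0
  have E1 : A * Q1 * R2 = 1 := Subtype.ext h1
  have E2 : A * R1 * Q2 = 1 := Subtype.ext h2
  have E3 : P1 * Q1 * R1 = 1 := Subtype.ext hcα
  have E4 : P2 * Q2 * R2 = 1 := Subtype.ext hcαα
  have hA : A ^ 3 = 1 := by
    have key : (A * P1 * P2) * (A * Q1 * R2) * (A * R1 * Q2) =
        A ^ 3 * ((P1 * Q1 * R1) * (P2 * Q2 * R2)) := by
      simp [pow_succ, mul_assoc, mul_comm, mul_left_comm]
    rw [E0, E1, E2, E3, E4] at key
    simpa using key.symm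
  have hd := (orderOf_dvd_of_pow_eq_one hA)
  rcases (Nat.dvd_prime Nat.prime_three).1 hd with h | h
  · exact congrArg Subtype.val (orderOf_eq_one_iff.1 h)
  · exact absurd (h ▸ orderOf_dvd_natCard A) hZ

/-- There is no invariant subgroup of order prime to three. -/
theorem eq_bot_of_invariant (Q : Subgroup K) (hQ : ¬ 3 ∣ Nat.card Q) (hαQ : ∀ a ∈ Q, α a ∈ Q)
    (hxQ : x ∈ Subgroup.normalizer (Q : Set K)) : Q = ⊥ := by
  by_contra hne
  haveI : Group.IsNilpotent ↥Q := Inv3.nilpotent hx hC (H := Q) ⟨hxQ, hQ⟩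
  haveI : Nontrivial ↥Q := (Subgroup.nontrivial_iff_ne_bot _).2 hne
  have hZb : (Subgroup.center ↥Q).map Q.subtype = ⊥ := by
    refine eq_bot_of_invariant_abelian hx hC hα hαx hfix _
      (fun h => hQ (h.trans (card_dvd_of_le (map_subtype_le _)))) ?_ ?_ ?_
    · rintro _ ⟨a, ha, rfl⟩ _ ⟨b, -, rfl⟩
      exact congrArg Subtype.val (Subgroup.mem_center_iff.1 ha b).symm
    · rintro _ ⟨a, ha, rfl⟩
      refine ⟨⟨α a, hαQ _ a.2⟩, Subgroup.mem_center_iff.2 fun b => Subtype.ext ?_, rfl⟩
      have h3 : α (α (α (b : K))) = b := by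
        have h := DFunLike.congr_fun hα (b : K)
        simpa [pow_succ] using h
      have h := congrArg (fun z : ↥Q => α (z : K))
        (Subgroup.mem_center_iff.1 ha ⟨α (α b), hαQ _ (hαQ _ b.2)⟩)
      simpa [map_mul, h3] using h
    · rintro _ ⟨a, ha, rfl⟩
      have hm := (Subgroup.mem_normalizer_iff.1 hxQ a).1 a.2
      refine ⟨⟨_, hm⟩, Subgroup.mem_center_iff.2 fun b => Subtype.ext ?_, rfl⟩
      have hm' : x⁻¹ * (b : K) * x ∈ Q := by
        have := (Subgroup.mem_normalizer_iff.1 (inv_mem hxQ) b).1 b.2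
        rwa [inv_inv] at this
      have h := congrArg (fun z : ↥Q => x * (z : K) * x⁻¹) (Subgroup.mem_center_iff.1 ha ⟨_, hm'⟩)
      simpa [mul_assoc] using h
  rw [Subgroup.map_eq_bot_iff_of_injective _ Q.subtype_injective] at hZb
  exact Group.IsNilpotent.center_ne_bot (G := ↥Q) hZb

/-- A prime different from three dividing the order has a number of Sylow subgroups divisible by
three. -/
theorem three_dvd_card_sylow (q : ℕ) [Fact q.Prime] (hq3 : q ≠ 3) (hqd : q ∣ Nat.card K) :
    3 ∣ Nat.card (Sylow q K) := by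
  by_contra hn
  haveI : Fact (Nat.Prime 3) := ⟨Nat.prime_three⟩
  set c : MulAut K := MulAut.conj x with hc
  set A : Subgroup (MulAut K) := Subgroup.closure {α, c} with hA
  have hcomm : ∀ a ∈ ({α, c} : Set (MulAut K)), ∀ b ∈ ({α, c} : Set (MulAut K)), a * b = b * a := by
    have h : α * c = c * α := MulEquiv.ext fun k => by simp [hc, hαx]
    simp only [Set.mem_insert_iff, Set.mem_singleton_iff]
    rintro a (rfl | rfl) b (rfl | rfl) <;> first | rfl | exact h | exact h.symm
  haveI := Subgroup.isMulCommutative_closure hcomm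
  have hp : IsPGroup 3 A := by
    intro g
    refine ⟨1, ?_⟩
    obtain ⟨g, hg⟩ := g
    refine Subtype.ext ?_
    simp only [pow_one, SubmonoidClass.coe_pow, OneMemClass.coe_one]
    induction hg using Subgroup.closure_induction with
    | mem g hg =>
      simp only [Set.mem_insert_iff, Set.mem_singleton_iff] at hg
      rcases hg with rfl | rfl
      · exact hα
      · rw [hc, ← map_pow, ← hx, pow_orderOf_eq_one, map_one]
    | one => exact one_pow _
    | mul g h hg' hh' ihg ihh =>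
      have : Commute g h := congrArg Subtype.val (mul_comm' (⟨g, hg'⟩ : A) ⟨h, hh'⟩)
      rw [this.mul_pow, ihg, ihh, one_mul]
    | inv g hg' ih => rw [inv_pow, ih, inv_one]
  obtain ⟨S, hS⟩ := hp.nonempty_fixed_point_of_prime_not_dvd_card (Sylow q K) hn
  have hinv : ∀ g ∈ A, ∀ a ∈ (S : Subgroup K), g a ∈ (S : Subgroup K) := by
    intro g hg a ha
    have h : (⟨g, hg⟩ : A) • S = S := hS _
    rw [← h]
    exact Subgroup.smul_mem_pointwise_smul a g (S : Subgroup K) ha
  refine S.ne_bot_of_dvd_card hqd (eq_bot_of_invariant hx hC hα hαx hfix _ ?_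
    (fun a ha => hinv α (subset_closure (by simp)) a ha) ?_)
  · intro h
    obtain ⟨n, hn'⟩ := S.2.exists_card_eq
    rw [hn'] at h
    exact hq3 ((Nat.prime_dvd_prime_iff_eq Nat.prime_three Fact.out).1
      (Nat.prime_three.dvd_of_dvd_pow h)).symm
  · refine H59.SelfThree.mem_normalizer_of_conj_mem fun a ha => ?_
    exact hinv c (subset_closure (by simp)) a ha

end

/-- The four-group fixing the last of five points. -/
def altQuad : Subgroup (alternatingGroup (Fin 5)) where
  carrier := {g | (g : Equiv.Perm (Fin 5)) 4 = 4 ∧ g * g = 1}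
  mul_mem' {a b} ha hb := by
    revert a b
    decide +kernel
  one_mem' := by decide +kernel
  inv_mem' {a} ha := by
    obtain ⟨h1, h2⟩ := ha
    rw [Set.mem_setOf_eq, inv_eq_of_mul_eq_one_right h2]
    exact ⟨h1, h2⟩

instance : DecidablePred (· ∈ altQuad) := fun g =>
  decidable_of_iff ((g : Equiv.Perm (Fin 5)) 4 = 4 ∧ g * g = 1) Iff.rfl

theorem not_three_dvd_sylow_alt_five : ¬ 3 ∣ Nat.card (Sylow 2 (alternatingGroup (Fin 5))) := by
  haveI : Fact (Nat.Prime 2) := ⟨Nat.prime_two⟩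
  have hcard : Nat.card altQuad = 4 := by
    rw [Nat.card_eq_fintype_card]
    decide +kernel
  have h60 : Nat.card (alternatingGroup (Fin 5)) = 60 := by
    rw [Nat.card_eq_fintype_card]
    decide +kernel
  have hfac : (Nat.card (alternatingGroup (Fin 5))).factorization 2 = 2 := by
    rw [h60]
    simp [Nat.factorization_def _ Nat.prime_two]
    decide +kernel
  let P : Sylow 2 (alternatingGroup (Fin 5)) := Sylow.ofCard altQuad (by rw [hcard, hfac]; norm_num)
  have hP : (P : Subgroup (alternatingGroup (Fin 5))) = altQuad := rfl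
  obtain ⟨y, hy, hy1, hyn⟩ : ∃ y : alternatingGroup (Fin 5), y ^ 3 = 1 ∧ y ≠ 1 ∧
      ∀ a : alternatingGroup (Fin 5), a ∈ altQuad → y * a * y⁻¹ ∈ altQuad := by
    decide +kernel
  have hyN : y ∈ Subgroup.normalizer (altQuad : Set (alternatingGroup (Fin 5))) :=
    H59.SelfThree.mem_normalizer_of_conj_mem hyn
  have h3 : 3 ∣ Nat.card (Subgroup.normalizer (altQuad : Set (alternatingGroup (Fin 5)))) := by
    have := Subgroup.orderOf_dvd_natCard _ hyN
    rwa [orderOf_eq_prime hy hy1] at this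
  intro h
  rw [P.card_eq_index_normalizer, ← P.coe_coe, hP] at h
  have h' := Nat.mul_dvd_mul h3 h
  rw [Subgroup.card_mul_index, h60] at h'
  norm_num at h'

/-- A self-centralising subgroup of order three with such an automorphism is normal. -/
theorem selfThree : SelfThreeStmt.{u} := by
  intro K _ _ x hx hC α hα hαx hfix
  haveI : Fact (Nat.Prime 3) := ⟨Nat.prime_three⟩
  haveI hch : (pPrimeCore 3 K).Characteristic := PSolvable.pPrimeCore_characteristic
  have hcore : pPrimeCore 3 K = ⊥ := eq_bot_of_invariant hx hC hα hαx hfix _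
    PSolvable.pPrimeCore_not_dvd
    (fun a ha => by rw [← Subgroup.characteristic_iff_comap_eq.1 hch α] at ha; exact ha)
    (by rw [Subgroup.normalizer_eq_top]; exact mem_top _)
  have hbot : ∀ N : Subgroup K, N.Normal → ¬ 3 ∣ Nat.card N → N = ⊥ := fun N hN h3 => by
    haveI := hN
    rw [eq_bot_iff, ← hcore]
    exact PSolvable.le_pPrimeCore (Nat.prime_three.coprime_iff_not_dvd.2 h3).symm
  rcases H59.SelfThree.isShape hx hC with ⟨N, hN, -, h3, hidx⟩ | ⟨N, hN, -, hsq, ⟨e⟩⟩ | ⟨hs, h168⟩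
  · rw [hbot N hN h3, index_bot] at hidx
    have hm := (Subgroup.zpowers x).card_mul_index
    rw [Nat.card_zpowers, hx] at hm
    rcases hidx with h | h
    · rw [h] at hm
      have : (Subgroup.zpowers x).index = 1 := by omega
      rw [Subgroup.index_eq_one.1 this]
      infer_instance
    · rw [h] at hm
      exact normal_of_index_eq_two (by omega)
  · have h3 : ¬ 3 ∣ Nat.card N := fun h => by
      obtain ⟨⟨n, hn⟩, ho⟩ := exists_prime_orderOf_dvd_card' 3 h
      rw [Subgroup.orderOf_mk] at ho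
      have := orderOf_dvd_of_pow_eq_one (hsq n hn)
      rw [ho] at this
      norm_num at this
    obtain rfl := hbot N hN h3
    have e' : K ≃* alternatingGroup (Fin 5) := QuotientGroup.quotientBot.symm.trans e
    exfalso
    haveI : Fact (Nat.Prime 2) := ⟨Nat.prime_two⟩
    refine not_three_dvd_sylow_alt_five ?_
    have h60 : 2 ∣ Nat.card K := by
      rw [Nat.card_congr e'.toEquiv, Nat.card_eq_fintype_card]
      decide +kernel
    obtain ⟨S⟩ : Nonempty (Sylow 2 K) := inferInstance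
    have h := three_dvd_card_sylow hx hC hα hαx hfix 2 (by norm_num) h60
    rw [S.card_eq_index_normalizer] at h
    have hsurj : Function.Surjective e'.toMonoidHom := e'.surjective
    rw [(S.mapSurjective hsurj).card_eq_index_normalizer, ← Sylow.coe_coe,
      Sylow.coe_mapSurjective, ← Subgroup.map_equiv_normalizer_eq,
      show e'.toMonoidHom = ((e' : K ≃* alternatingGroup (Fin 5)) : K →* alternatingGroup (Fin 5)) from rfl,
      Subgroup.index_map_equiv]
    exact h
  · exfalso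
    haveI := hs
    have hnc : ¬ IsMulCommutative K := fun h => by
      have htop : (⊤ : Subgroup K) ≤ Subgroup.zpowers x := fun a _ =>
        SelfCentral.mem_zpowers_of_commute hC (h.is_comm.comm a x)
      have := Subgroup.card_le_of_le htop
      rw [Subgroup.card_top, Nat.card_zpowers, hx, h168] at this
      omega
    haveI : Fact (Nat.Prime 7) := ⟨by norm_num⟩
    have hn := SmallGroups.card_sylow_mem hnc (p := 7) (k := 1) (m := 24)
      (by rw [h168]; norm_num) (by norm_num) (by norm_num)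
    rw [show (Nat.divisors 24).filter (fun d => d % 7 = 1 ∧ d ≠ 1) = {8} by decide,
      Finset.mem_singleton] at hn
    have h := three_dvd_card_sylow hx hC hα hαx hfix 7 (by norm_num) (by rw [h168]; norm_num)
    rw [hn] at h
    norm_num at h

end Cfsg.Agent.Lib.SixThree54
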