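import Cfsg.Agent.Lib.SixThree54.Core
import Cfsg.Agent.Lib.SixThree54.Plus
import Cfsg.Agent.Lib.SixThree54.OutDvd
import Cfsg.Agent.Lib.SixThree54.SelfThree
import Cfsg.Agent.Lib.SixThree54.QThree

/-!
# The quotient by the two-core and the middle subgroups (written by helper54, row S3317)
-/

set_option autoImplicit false

universe u

namespace Cfsg.Agent.Lib.SixThree54

open Cfsg Subgroup
open scoped commutatorElement

variable {L : Type u} [Group L] {H : Type u} [Group H]

namespace Local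

variable [Finite L] [Finite H] {ι : L →* H} {x t : L} {w : H} (D : Local ι x t w)
include D

theorem ker_mk {l : L} (h : QuotientGroup.mk' (pCore 2 H) (ι l) = 1) : l ∈ Subgroup.zpowers t :=
  D.comap_le ((QuotientGroup.eq_one_iff _).1 h)

theorem zpowers_t_le : Subgroup.zpowers t ≤ Subgroup.center L := Subgroup.zpowers_le.2 D.tc

theorem mk_ix_pow : QuotientGroup.mk' (pCore 2 H) (ι x) ^ 3 = 1 := by
  rw [← map_pow, D.ix_pow, map_one]

theorem order_mk_ix : orderOf (QuotientGroup.mk' (pCore 2 H) (ι x)) = 3 :=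
  orderOf_eq_prime D.mk_ix_pow fun h => D.ix_not_mem ((QuotientGroup.eq_one_iff _).1 h)

/-- The centraliser of the image of `x`. -/
theorem range_mk :
    ((QuotientGroup.mk' (pCore 2 H)).comp ι).range =
      Subgroup.centralizer ({QuotientGroup.mk' (pCore 2 H) (ι x)} : Set (H ⧸ pCore 2 H)) := by
  refine le_antisymm ?_ fun q hq => ?_
  · rintro _ ⟨l, rfl⟩
    exact Subgroup.mem_centralizer_singleton_iff.2
      ((show Commute l x from Subgroup.mem_center_iff.1 D.xc l).map _).eq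
  · obtain ⟨k, rfl⟩ := QuotientGroup.mk'_surjective (pCore 2 H) q
    have hk : k⁻¹ * ι x * k * (ι x)⁻¹ ∈ pCore 2 H := by
      rw [← QuotientGroup.eq_one_iff]
      have h := Subgroup.mem_centralizer_singleton_iff.1 hq
      change QuotientGroup.mk' (pCore 2 H) (k⁻¹ * ι x * k * (ι x)⁻¹) = 1
      rw [map_mul, map_mul, map_mul, map_inv, map_inv, mul_assoc _ _ (QuotientGroup.mk' (pCore 2 H) k), ← h,
        ← mul_assoc, inv_mul_cancel, one_mul, mul_inv_cancel]
    obtain ⟨n, hn, hcomm⟩ := exists_twist (pCore 2 H) (ι x) (ι x) k D.ix_pow D.ix_pow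
      (natCard_eq_two_pow D.isPGroup_core) (fun n hn => (inferInstance : (pCore 2 H).Normal).conj_mem n hn _) hk
    obtain ⟨l, hl⟩ := (D.cent_x ▸ Subgroup.mem_centralizer_singleton_iff.2 hcomm.symm : k * n ∈ ι.range)
    refine ⟨l, ?_⟩
    show QuotientGroup.mk' (pCore 2 H) (ι l) = _
    rw [hl, map_mul, (QuotientGroup.eq_one_iff n).2 hn |> (show QuotientGroup.mk' (pCore 2 H) n = 1 from ·),
      mul_one]

theorem card_range_mk : Nat.card ↥((QuotientGroup.mk' (pCore 2 H)).comp ι).range = 1330560 := by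
  have h := card_map_mul_ker ((QuotientGroup.mk' (pCore 2 H)).comp ι) ⊤
  have hk : ((QuotientGroup.mk' (pCore 2 H)).comp ι).ker ⊓ ⊤ = Subgroup.zpowers t := by
    rw [inf_top_eq]
    exact le_antisymm (fun l hl => D.ker_mk hl)
      (Subgroup.zpowers_le.2 ((QuotientGroup.eq_one_iff _).2 D.t_mem))
  rw [hk, ← MonoidHom.range_eq_map, Subgroup.card_top, Nat.card_zpowers, D.ht, D.facts.card] at h
  omega

theorem card_normalizer_mk :
    Nat.card ↥(Subgroup.normalizer
      (Subgroup.zpowers (QuotientGroup.mk' (pCore 2 H) (ι x)) : Set (H ⧸ pCore 2 H))) = 2661120 := by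
  classical
  set X := QuotientGroup.mk' (pCore 2 H) (ι x) with hX
  set M := Subgroup.normalizer (Subgroup.zpowers X : Set (H ⧸ pCore 2 H))
  set C := Subgroup.centralizer ({X} : Set (H ⧸ pCore 2 H))
  have hX3 : orderOf X = 3 := D.order_mk_ix
  have hCM : C ≤ M := fun q hq => mem_normalizer_zpowers (by
    rw [Subgroup.mem_centralizer_singleton_iff.1 hq, mul_inv_cancel_right]
    exact Subgroup.mem_zpowers X)
  set W := QuotientGroup.mk' (pCore 2 H) w
  have hW : W * X * W⁻¹ = X⁻¹ := by rw [← map_inv, ← map_mul, ← map_mul, D.inverts, map_inv]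
  have hWM : W ∈ M := mem_normalizer_zpowers (by rw [hW]; exact inv_mem (Subgroup.mem_zpowers X))
  have hne : X⁻¹ ≠ X := fun h => by
    have h2 : X ^ 2 = 1 := by rw [pow_two]; nth_rw 1 [← h]; exact inv_mul_cancel X
    have := orderOf_dvd_of_pow_eq_one h2
    rw [hX3] at this
    norm_num at this
  have hidx : (C.subgroupOf M).index = 2 := by
    refine Subgroup.index_eq_two_iff.2 ⟨⟨W, hWM⟩, fun b => ?_⟩
    have hcase : (b : H ⧸ pCore 2 H) * X * (b : H ⧸ pCore 2 H)⁻¹ = X ∨
        (b : H ⧸ pCore 2 H) * X * (b : H ⧸ pCore 2 H)⁻¹ = X⁻¹ := by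
      obtain ⟨i, hi⟩ := Subgroup.mem_zpowers_iff.1
        ((Subgroup.mem_normalizer_iff.1 b.2 X).1 (Subgroup.mem_zpowers X))
      rw [← hi]
      have hm : i % 3 = 0 ∨ i % 3 = 1 ∨ i % 3 = 2 := by omega
      have hmod : X ^ i = X ^ (i % 3) := by rw [← zpow_mod_orderOf X i, hX3]; rfl
      rw [hmod]
      rcases hm with h | h | h <;> rw [h]
      · exfalso
        rw [hmod, h, zpow_zero] at hi
        have hX1 : X = 1 := by
          have := hi.symm
          rwa [mul_inv_eq_one, mul_eq_left] at this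
        rw [hX1, orderOf_one] at hX3
        omega
      · exact Or.inl (zpow_one X)
      · refine Or.inr (eq_inv_of_mul_eq_one_left ?_)
        rw [← zpow_add_one, show (2 : ℤ) + 1 = ((3 : ℕ) : ℤ) from rfl, zpow_natCast, ← hX3, pow_orderOf_eq_one]
    have hbC : b ∈ C.subgroupOf M ↔ (b : H ⧸ pCore 2 H) * X * (b : H ⧸ pCore 2 H)⁻¹ = X := by
      rw [Subgroup.mem_subgroupOf, Subgroup.mem_centralizer_singleton_iff, mul_inv_eq_iff_eq_mul]
    have hbWC : b * ⟨W, hWM⟩ ∈ C.subgroupOf M ↔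
        ((b : H ⧸ pCore 2 H) * X * (b : H ⧸ pCore 2 H)⁻¹)⁻¹ = X := by
      rw [Subgroup.mem_subgroupOf, Subgroup.mem_centralizer_singleton_iff, Subgroup.coe_mul,
        ← mul_inv_eq_iff_eq_mul]
      have : (b : H ⧸ pCore 2 H) * W * X * ((b : H ⧸ pCore 2 H) * W)⁻¹ =
          ((b : H ⧸ pCore 2 H) * X * (b : H ⧸ pCore 2 H)⁻¹)⁻¹ := by
        rw [show (b : H ⧸ pCore 2 H) * W * X * ((b : H ⧸ pCore 2 H) * W)⁻¹ =
          (b : H ⧸ pCore 2 H) * (W * X * W⁻¹) * (b : H ⧸ pCore 2 H)⁻¹ by group, hW]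
        group
      rw [this]
    rcases hcase with h | h
    · refine Or.inr ⟨hbC.2 h, fun hh => hne ?_⟩
      have := hbWC.1 hh
      rwa [h] at this
    · refine Or.inl ⟨hbWC.2 (by rw [h, inv_inv]), fun hh => hne ?_⟩
      exact h.symm.trans (hbC.1 hh)
  have := Subgroup.card_mul_index (C.subgroupOf M)
  rw [Nat.card_congr (Subgroup.subgroupOfEquivOfLe hCM).toEquiv, hidx, show C =
    ((QuotientGroup.mk' (pCore 2 H)).comp ι).range from D.range_mk.symm, D.card_range_mk] at this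
  exact this.symm

/-- The data in the quotient. -/
theorem qData : QData (QuotientGroup.mk' (pCore 2 H) (ι x)) ((QuotientGroup.mk' (pCore 2 H)).comp ι) := by
  classical
  obtain ⟨-, -, hb32⟩ := D.core
  have hE3 := natCard_eq_two_pow D.isPGroup_core
  have hnot : ∀ a : L, orderOf a = 3 → a ∉ Subgroup.center L → ∀ g : H ⧸ pCore 2 H,
      g * QuotientGroup.mk' (pCore 2 H) (ι a) * g⁻¹ ∉ Subgroup.zpowers (QuotientGroup.mk' (pCore 2 H) (ι x)) := by
    intro a ha hac g hg
    obtain ⟨h, rfl⟩ := QuotientGroup.mk'_surjective (pCore 2 H) g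
    obtain ⟨i, hi, hii⟩ := Submonoid.mem_powers_iff _ _ |>.1 ((mem_powers_iff_mem_zpowers).2 hg) |>
      fun ⟨i, hi⟩ => (⟨i % 3, Nat.mod_lt _ (by norm_num), by
        rw [← hi, ← D.order_mk_ix, pow_mod_orderOf]⟩ :
          ∃ i, i < 3 ∧ QuotientGroup.mk' (pCore 2 H) (ι x) ^ i =
            QuotientGroup.mk' (pCore 2 H) h * QuotientGroup.mk' (pCore 2 H) (ι a) *
              (QuotientGroup.mk' (pCore 2 H) h)⁻¹)
    have hi0 : i ≠ 0 := by
      rintro rfl
      rw [pow_zero] at hii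
      have : QuotientGroup.mk' (pCore 2 H) (ι a) = 1 := by
        have h' := hii.symm
        rwa [mul_inv_eq_one, mul_eq_left] at h'
      exact hac (D.zpowers_t_le (D.ker_mk this))
    have ha3 : ι a ^ 3 = 1 := by rw [← map_pow, ← ha, pow_orderOf_eq_one, map_one]
    obtain ⟨n, hn, hyn⟩ := exists_twist (pCore 2 H) (h * ι a * h⁻¹) (ι x ^ i) 1
      (by rw [conj_pow, ha3, mul_one, mul_inv_cancel]) (by rw [← pow_mul, mul_comm, pow_mul, D.ix_pow, one_pow])
      hE3 (fun n hn => (inferInstance : (pCore 2 H).Normal).conj_mem n hn _) (by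
        rw [← QuotientGroup.eq_one_iff]
        change QuotientGroup.mk' (pCore 2 H) (1⁻¹ * (h * ι a * h⁻¹) * 1 * (ι x ^ i)⁻¹) = 1
        rw [inv_one, one_mul, mul_one, map_mul, map_mul, map_mul, map_inv, map_inv, map_pow, hii,
          mul_inv_cancel])
    rw [one_mul] at hyn
    -- `k a k⁻¹ = x ^ i`
    have hk : (n⁻¹ * h) * ι a * (n⁻¹ * h)⁻¹ = ι x ^ i := by
      rw [show (n⁻¹ * h) * ι a * (n⁻¹ * h)⁻¹ = n⁻¹ * ((h * ι a * h⁻¹) * n) by group, hyn, inv_mul_cancel_left]
    have hcx : Subgroup.centralizer ({ι x ^ i} : Set H) = Subgroup.centralizer ({ι x} : Set H) := by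
      ext y
      simp only [Subgroup.mem_centralizer_singleton_iff]
      refine ⟨fun hy => ?_, fun hy => (show Commute y (ι x) from hy).pow_right i⟩
      have hi2 : i = 1 ∨ i = 2 := by omega
      rcases hi2 with rfl | rfl
      · simpa using hy
      · have h4 := (show Commute y (ι x ^ 2) from hy).pow_right 2
        rw [← pow_mul, show 2 * 2 = 3 + 1 from rfl, pow_succ, D.ix_pow, one_mul] at h4
        exact h4
    have hconj : (pCore 2 H ⊓ Subgroup.centralizer ({ι a} : Set H)).map (MulAut.conj (n⁻¹ * h)).toMonoidHom =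
        pCore 2 H ⊓ Subgroup.centralizer ({ι x} : Set H) := by
      rw [← hcx, ← hk]
      ext y
      constructor
      · rintro ⟨v, ⟨hv1, hv2⟩, rfl⟩
        refine ⟨(inferInstance : (pCore 2 H).Normal).conj_mem v hv1 _, Subgroup.mem_centralizer_singleton_iff.2 ?_⟩
        exact ((show Commute v (ι a) from Subgroup.mem_centralizer_singleton_iff.1 hv2).map
          (MulAut.conj (n⁻¹ * h)).toMonoidHom).eq
      · rintro ⟨hy1, hy2⟩
        refine ⟨(MulAut.conj (n⁻¹ * h)).symm y, ⟨?_, Subgroup.mem_centralizer_singleton_iff.2 ?_⟩,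
          (MulAut.conj (n⁻¹ * h)).apply_symm_apply y⟩
        · rw [MulAut.conj_symm_apply]
          simpa using (inferInstance : (pCore 2 H).Normal).conj_mem y hy1 (n⁻¹ * h)⁻¹
        · apply (MulAut.conj (n⁻¹ * h)).injective
          rw [map_mul (MulAut.conj (n⁻¹ * h)), map_mul (MulAut.conj (n⁻¹ * h)), MulEquiv.apply_symm_apply,
            MulAut.conj_apply]
          exact Subgroup.mem_centralizer_singleton_iff.1 hy2
    have hc := congrArg (fun K : Subgroup H => Nat.card ↥K) hconj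
    beta_reduce at hc
    rw [Subgroup.card_map_of_injective (f := (MulAut.conj (n⁻¹ * h)).toMonoidHom) (MulAut.conj (n⁻¹ * h)).injective,
      hb32 a ha hac, D.card_fix_x] at hc
    omega
  refine
    { facts := D.facts
      perfect := D.perfect
      hx := D.order_mk_ix
      range_eq := D.range_mk
      ker := fun l hl => ⟨D.zpowers_t_le (D.ker_mk hl), by
        obtain ⟨i, rfl⟩ := Subgroup.mem_zpowers_iff.1 (D.ker_mk hl)
        rw [← zpow_natCast, ← zpow_mul, mul_comm, zpow_mul, zpow_natCast, D.t_pow, one_zpow]⟩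
      center_map := fun z hz => by
        obtain ⟨i, j, rfl⟩ := D.center_eq z hz
        have hT : QuotientGroup.mk' (pCore 2 H) (ι t) = 1 := (QuotientGroup.eq_one_iff _).2 D.t_mem
        simp only [MonoidHom.comp_apply, map_mul, map_pow, hT, one_pow, mul_one]
        exact Subgroup.npow_mem_zpowers _ i
      exists_inverts := ⟨QuotientGroup.mk' (pCore 2 H) w, by rw [← map_inv, ← map_mul, ← map_mul, D.inverts, map_inv]⟩
      card_normalizer := D.card_normalizer_mk
      not_conj := hnot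
      cent_le := ?_ }
  intro a ha hac q hq
  have ha3 : ι a ^ 3 = 1 := by rw [← map_pow, ← ha, pow_orderOf_eq_one, map_one]
  obtain ⟨k, rfl⟩ := QuotientGroup.mk'_surjective (pCore 2 H) q
  have hk : k⁻¹ * ι a * k * (ι a)⁻¹ ∈ pCore 2 H := by
    rw [← QuotientGroup.eq_one_iff]
    have h := Subgroup.mem_centralizer_singleton_iff.1 hq
    simp only [MonoidHom.comp_apply] at h
    change QuotientGroup.mk' (pCore 2 H) (k⁻¹ * ι a * k * (ι a)⁻¹) = 1
    rw [map_mul, map_mul, map_mul, map_inv, map_inv, mul_assoc _ _ (QuotientGroup.mk' (pCore 2 H) k), ← h,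
      ← mul_assoc, inv_mul_cancel, one_mul, mul_inv_cancel]
  obtain ⟨n, hn, hcomm⟩ := exists_twist (pCore 2 H) (ι a) (ι a) k ha3 ha3
    hE3 (fun n hn => (inferInstance : (pCore 2 H).Normal).conj_mem n hn _) hk
  set Dh := Subgroup.centralizer ({ι a} : Set H)
  set Dq := Dh.map (QuotientGroup.mk' (pCore 2 H))
  set A := (Subgroup.centralizer ({a} : Set L)).map ((QuotientGroup.mk' (pCore 2 H)).comp ι)
  have hDq : Nat.card ↥Dq ≤ 72 := by
    have h := card_map_mul_ker (QuotientGroup.mk' (pCore 2 H)) Dh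
    rw [QuotientGroup.ker_mk', hb32 a ha hac] at h
    have := D.cent_le a ha hac (hb32 a ha hac)
    change Nat.card ↥Dq * 32 = Nat.card ↥Dh at h
    change Nat.card ↥Dh ≤ 2304 at this
    omega
  have hA : Nat.card ↥A = 36 := by
    have h := card_map_mul_ker ((QuotientGroup.mk' (pCore 2 H)).comp ι) (Subgroup.centralizer ({a} : Set L))
    have hk' : ((QuotientGroup.mk' (pCore 2 H)).comp ι).ker ⊓ Subgroup.centralizer ({a} : Set L) =
        Subgroup.zpowers t :=
      le_antisymm (fun l hl => D.ker_mk hl.1) (Subgroup.zpowers_le.2 ⟨(QuotientGroup.eq_one_iff _).2 D.t_mem,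
        Subgroup.mem_centralizer_singleton_iff.2 (Subgroup.mem_center_iff.1 D.tc a).symm⟩)
    rw [hk', Nat.card_zpowers, D.ht, D.facts.cent_three a ha hac] at h
    change Nat.card ↥A * 2 = 72 at h
    omega
  have hAD : A ≤ Dq := by
    rintro _ ⟨l, hl, rfl⟩
    exact ⟨ι l, Subgroup.mem_centralizer_singleton_iff.2
      ((show Commute l a from Subgroup.mem_centralizer_singleton_iff.1 hl).map ι).eq, rfl⟩
  haveI : (A.subgroupOf Dq).Normal := by
    have h := Subgroup.card_mul_index (A.subgroupOf Dq)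
    rw [Nat.card_congr (Subgroup.subgroupOfEquivOfLe hAD).toEquiv, hA] at h
    have h0 : (A.subgroupOf Dq).index ≠ 0 := Subgroup.index_ne_zero_of_finite
    have h2 : (A.subgroupOf Dq).index ≤ 2 := by omega
    rcases (by omega : (A.subgroupOf Dq).index = 1 ∨ (A.subgroupOf Dq).index = 2) with h1 | h1
    · rw [Subgroup.index_eq_one.1 h1]; infer_instance
    · exact Subgroup.normal_of_index_eq_two h1
  have hqD : QuotientGroup.mk' (pCore 2 H) k ∈ Dq := ⟨k * n, Subgroup.mem_centralizer_singleton_iff.2 hcomm.symm, by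
    rw [map_mul, (show QuotientGroup.mk' (pCore 2 H) n = 1 from (QuotientGroup.eq_one_iff n).2 hn), mul_one]⟩
  have hxA : QuotientGroup.mk' (pCore 2 H) (ι x) ∈ A :=
    ⟨x, Subgroup.mem_centralizer_singleton_iff.2 (Subgroup.mem_center_iff.1 D.xc a).symm, rfl⟩
  have hconjA := (inferInstance : (A.subgroupOf Dq).Normal).conj_mem ⟨_, hAD hxA⟩ hxA ⟨_, hqD⟩
  obtain ⟨l, -, hl⟩ := hconjA
  have hl' : QuotientGroup.mk' (pCore 2 H) (ι l) = QuotientGroup.mk' (pCore 2 H) k *
      QuotientGroup.mk' (pCore 2 H) (ι x) * (QuotientGroup.mk' (pCore 2 H) k)⁻¹ := hl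
  have hl3 : l ^ 3 ∈ Subgroup.zpowers t := D.ker_mk (by
    rw [map_pow, map_pow, hl', conj_pow, D.mk_ix_pow, mul_one, mul_inv_cancel])
  have hl6 : (l ^ 4) ^ 3 = 1 := by
    obtain ⟨i, hi⟩ := Subgroup.mem_zpowers_iff.1 hl3
    rw [← pow_mul, show 4 * 3 = 3 * 4 from rfl, pow_mul, ← hi, ← zpow_natCast (t ^ i), ← zpow_mul, mul_comm,
      zpow_mul, zpow_natCast, show 4 = 2 * 2 from rfl, pow_mul, D.t_pow, one_pow, one_zpow]
  have hl4 : QuotientGroup.mk' (pCore 2 H) (ι (l ^ 4)) = QuotientGroup.mk' (pCore 2 H) (ι l) := by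
    rw [show 4 = 3 + 1 from rfl, pow_succ, map_mul, map_mul, map_pow, map_pow, hl', conj_pow, D.mk_ix_pow,
      mul_one, mul_inv_cancel, one_mul]
  refine mem_normalizer_zpowers ?_
  rw [← hl', ← hl4]
  by_cases hc : l ^ 4 ∈ Subgroup.center L
  · obtain ⟨i, j, hij⟩ := D.center_eq _ hc
    have hT : QuotientGroup.mk' (pCore 2 H) (ι t) = 1 := (QuotientGroup.eq_one_iff _).2 D.t_mem
    simp only [hij, map_mul, map_pow, hT, one_pow, mul_one]
    exact Subgroup.npow_mem_zpowers _ i
  · exfalso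
    refine hnot (l ^ 4) (orderOf_eq_prime hl6 fun h => hc (h ▸ one_mem _)) hc (QuotientGroup.mk' (pCore 2 H) k)⁻¹ ?_
    rw [hl4, hl']
    convert Subgroup.mem_zpowers (QuotientGroup.mk' (pCore 2 H) (ι x)) using 1
    group

/-- The image of the element of order three generates a normal subgroup. -/
theorem zpowers_normal (h7 : QSevenStmt.{u}) (hbig : QBigStmt.{u}) :
    (Subgroup.zpowers (QuotientGroup.mk' (pCore 2 H) (ι x))).Normal := by
  classical
  obtain ⟨hX, hcard, -⟩ := D.core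
  have Q := D.qData
  set n := (Subgroup.normalizer
    (Subgroup.zpowers (QuotientGroup.mk' (pCore 2 H) (ι x)) : Set (H ⧸ pCore 2 H))).index with hn
  let φ : MulAut ↥(pCore 2 H) := MulAut.conjNormal (ι x)
  have hφ : φ ^ 3 = 1 := by
    show (MulAut.conjNormal (ι x) : MulAut ↥(pCore 2 H)) ^ 3 = 1
    rw [← map_pow, D.ix_pow, map_one]
  have hfix : ∀ e : ↥(pCore 2 H), φ e = e → e ∈ Subgroup.center ↥(pCore 2 H) := by
    intro e he
    have hmem : (e : H) ∈ pCore 2 H ⊓ Subgroup.centralizer ({ι x} : Set H) := by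
      refine ⟨e.2, Subgroup.mem_centralizer_singleton_iff.2 ?_⟩
      have h := congrArg Subtype.val he
      simp only [φ, MulAut.conjNormal_apply] at h
      exact (mul_inv_eq_iff_eq_mul.1 h).symm
    rw [D.fix_x] at hmem
    exact Subgroup.mem_center_iff.2 fun f => Subtype.ext
      (Subgroup.mem_center_iff.1 (Subgroup.zpowers_le.2 D.t_central hmem) (f : H))
  have hplus := plus ↥(pCore 2 H) hX hcard φ hφ hfix
  have hdvd := outDvd H (pCore 2 H) hX hcard D.charTwo hplus
  have hprod : n * 2661120 = Nat.card (H ⧸ pCore 2 H) := by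
    rw [hn, ← Q.card_normalizer]
    exact Subgroup.index_mul_card _
  rcases index n (hprod ▸ hdvd) (qThree L _ _ _ Q) (h7 L _ _ _ Q selfThree) with h | h
  · exact Subgroup.normalizer_eq_top_iff.1 (Subgroup.index_eq_one.1 h)
  · exact absurd h (hbig L _ _ _ Q)

/-- The middle subgroups of `C(t)`. -/
theorem middle (h7 : QSevenStmt.{u}) (hbig : QBigStmt.{u}) :
    ∃ N M : Subgroup H, N.Normal ∧ M.Normal ∧ pCore 2 H ≤ N ∧ N ≤ M ∧ M.index = 2 ∧
      Nat.card ↥N = 3 * Nat.card ↥(pCore 2 H) ∧ ⁅M, N⁆ ≤ pCore 2 H ∧ M ≤ ⁅M, M⁆ ⊔ pCore 2 H ∧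
      (∀ c : H, (∀ m ∈ M, c * m * c⁻¹ * m⁻¹ ∈ N) → c ∈ M) ∧
      ∃ _ : (N.subgroupOf M).Normal, Nonempty (↥M ⧸ N.subgroupOf M ≃* L ⧸ Subgroup.center L) := by
  classical
  haveI hXn := D.zpowers_normal h7 hbig
  have Q := D.qData
  set mk := QuotientGroup.mk' (pCore 2 H) with hmk
  set X := mk (ι x)
  set C := Subgroup.centralizer ({X} : Set (H ⧸ pCore 2 H))
  have hsurj : Function.Surjective mk := QuotientGroup.mk'_surjective _
  have hcardC : Nat.card ↥C = 1330560 := by
    rw [← D.card_range_mk, D.range_mk]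
  have hQ : Nat.card (H ⧸ pCore 2 H) = 2661120 := by
    have h := D.card_normalizer_mk
    rwa [Subgroup.normalizer_eq_top_iff.2 hXn, Subgroup.card_top] at h
  have hCidx : C.index = 2 := by
    have h := C.card_mul_index
    rw [hcardC, hQ] at h
    omega
  haveI : C.Normal := Subgroup.normal_of_index_eq_two hCidx
  have hNn : ((Subgroup.zpowers X).comap mk).Normal := inferInstance
  have hMn : (C.comap mk).Normal := inferInstance
  have hXC : Subgroup.zpowers X ≤ C := Subgroup.zpowers_le.2 (Subgroup.mem_centralizer_singleton_iff.2 rfl)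
  have hrange : (mk.comp ι).range = C := D.range_mk
  have hleM : ∀ l, ι l ∈ C.comap mk := fun l => by
    rw [Subgroup.mem_comap, ← hrange]; exact ⟨l, rfl⟩
  refine ⟨(Subgroup.zpowers X).comap mk, C.comap mk, hNn, hMn, fun e he => ?_, Subgroup.comap_mono hXC,
    by rw [Subgroup.index_comap_of_surjective _ hsurj, hCidx], ?_, ?_, ?_, ?_, inferInstance, ?_⟩
  · rw [Subgroup.mem_comap, show mk e = 1 from (QuotientGroup.eq_one_iff e).2 he]
    exact one_mem _
  · have h := card_map_mul_ker mk ((Subgroup.zpowers X).comap mk)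
    have hk : mk.ker ⊓ (Subgroup.zpowers X).comap mk = pCore 2 H := by
      rw [hmk, QuotientGroup.ker_mk']
      exact inf_eq_left.2 fun e he => by
        rw [Subgroup.mem_comap, show QuotientGroup.mk' (pCore 2 H) e = 1 from (QuotientGroup.eq_one_iff e).2 he]
        exact one_mem _
    rw [hk, Subgroup.map_comap_eq_self_of_surjective hsurj, Nat.card_zpowers, D.order_mk_ix] at h
    exact h.symm
  · rw [Subgroup.commutator_le]
    intro m hm n hn
    rw [← QuotientGroup.eq_one_iff]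
    change mk ⁅m, n⁆ = 1
    rw [map_commutatorElement, commutatorElement_eq_one_iff_mul_comm]
    obtain ⟨i, hi⟩ := Subgroup.mem_zpowers_iff.1 hn
    rw [← hi]
    exact ((show Commute (mk m) X from Subgroup.mem_centralizer_singleton_iff.1 hm).zpow_right i).eq
  · intro m hm
    obtain ⟨l, hl⟩ := (hrange ▸ hm : mk m ∈ (mk.comp ι).range)
    have hl1 : ι l ∈ ⁅C.comap mk, C.comap mk⁆ := by
      have : l ∈ ⁅(⊤ : Subgroup L), (⊤ : Subgroup L)⁆ := by rw [D.perfect]; exact Subgroup.mem_top l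
      have h2 := Subgroup.mem_map_of_mem ι this
      rw [Subgroup.map_commutator] at h2
      refine Subgroup.commutator_mono ?_ ?_ h2 <;>
        (rintro _ ⟨k, -, rfl⟩; exact hleM k)
    have hml : (ι l)⁻¹ * m ∈ pCore 2 H := QuotientGroup.eq.1 hl
    have := Subgroup.mul_mem_sup hl1 hml
    rwa [mul_inv_cancel_left] at this
  · intro c hc
    -- `c` induces a central map on the perfect group `C`
    have hζ : ∀ l : L, ∃ i : ℤ, mk c * mk (ι l) * (mk c)⁻¹ = X ^ i * mk (ι l) := by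
      intro l
      obtain ⟨i, hi⟩ := Subgroup.mem_zpowers_iff.1 (Subgroup.mem_comap.1 (hc (ι l) (hleM l)))
      refine ⟨i, ?_⟩
      rw [hi, map_mul, map_mul, map_mul, map_inv, map_inv, inv_mul_cancel_right]
    have hXcomm : ∀ (i : ℤ) (l : L), Commute (X ^ i) (mk (ι l)) := fun i l =>
      (((show Commute x l from (Subgroup.mem_center_iff.1 D.xc l).symm).map ι).map mk).zpow_left i
    have hker : ⁅(⊤ : Subgroup L), (⊤ : Subgroup L)⁆ ≤
        (MonoidHom.eqLocus ((MulAut.conj (mk c)).toMonoidHom.comp (mk.comp ι)) (mk.comp ι)) := by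
      rw [Subgroup.commutator_le]
      intro l _ l' _
      show mk c * mk (ι ⁅l, l'⁆) * (mk c)⁻¹ = mk (ι ⁅l, l'⁆)
      rw [map_commutatorElement, map_commutatorElement]
      obtain ⟨i, hi⟩ := hζ l
      obtain ⟨j, hj⟩ := hζ l'
      rw [show mk c * ⁅mk (ι l), mk (ι l')⁆ * (mk c)⁻¹ =
        ⁅mk c * mk (ι l) * (mk c)⁻¹, mk c * mk (ι l') * (mk c)⁻¹⁆ by simp only [commutatorElement_def]; group,
        hi, hj]
      have h1 : Commute (X ^ i) (X ^ j * mk (ι l')) :=
        ((Commute.refl X).zpow_zpow i j).mul_right (hXcomm i l')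
      have h2 : Commute (mk (ι l)) (X ^ j) := (hXcomm j l).symm
      simp only [commutatorElement_def]
      calc X ^ i * mk (ι l) * (X ^ j * mk (ι l')) * (X ^ i * mk (ι l))⁻¹ * (X ^ j * mk (ι l'))⁻¹
          = X ^ i * (mk (ι l) * (X ^ j * mk (ι l')) * (mk (ι l))⁻¹) * (X ^ i)⁻¹ * (mk (ι l'))⁻¹ * (X ^ j)⁻¹ := by
            group
        _ = X ^ i * (X ^ j * (mk (ι l) * mk (ι l') * (mk (ι l))⁻¹)) * (X ^ i)⁻¹ * (mk (ι l'))⁻¹ * (X ^ j)⁻¹ := by
            rw [← mul_assoc (mk (ι l)), h2.eq]; group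
        _ = X ^ i * X ^ j * (mk (ι l) * mk (ι l') * (mk (ι l))⁻¹) * (X ^ i)⁻¹ * (mk (ι l'))⁻¹ * (X ^ j)⁻¹ := by
            group
        _ = X ^ j * (mk (ι l) * mk (ι l') * (mk (ι l))⁻¹) * (mk (ι l'))⁻¹ * (X ^ j)⁻¹ := by
            have h3 : Commute (X ^ i) (X ^ j * (mk (ι l) * mk (ι l') * (mk (ι l))⁻¹)) :=
              ((Commute.refl X).zpow_zpow i j).mul_right
                (((hXcomm i l).mul_right (hXcomm i l')).mul_right (hXcomm i l).inv_right)
            rw [mul_assoc (X ^ i), h3.eq, mul_inv_cancel_right]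
        _ = mk (ι l) * mk (ι l') * (mk (ι l))⁻¹ * (mk (ι l'))⁻¹ := by
            have h4 : Commute (X ^ j) (mk (ι l) * mk (ι l') * (mk (ι l))⁻¹ * (mk (ι l'))⁻¹) :=
              (((hXcomm j l).mul_right (hXcomm j l')).mul_right (hXcomm j l).inv_right).mul_right
                (hXcomm j l').inv_right
            rw [mul_assoc (X ^ j), h4.eq, mul_inv_cancel_right]
    have hx' := hker (show x ∈ ⁅(⊤ : Subgroup L), (⊤ : Subgroup L)⁆ by rw [D.perfect]; exact Subgroup.mem_top x)
    change mk c * X * (mk c)⁻¹ = X at hx'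
    exact Subgroup.mem_centralizer_singleton_iff.2 (mul_inv_eq_iff_eq_mul.1 hx')
  · let f : L →* ↥(C.comap mk) ⧸ ((Subgroup.zpowers X).comap mk).subgroupOf (C.comap mk) :=
      (QuotientGroup.mk' _).comp (ι.codRestrict _ hleM)
    have hfs : Function.Surjective f := by
      intro q
      obtain ⟨⟨m, hm⟩, rfl⟩ := QuotientGroup.mk'_surjective _ q
      obtain ⟨l, hl⟩ := (hrange ▸ hm : mk m ∈ (mk.comp ι).range)
      refine ⟨l, QuotientGroup.eq.2 ?_⟩
      rw [Subgroup.mem_subgroupOf, Subgroup.mem_comap, Subgroup.coe_mul, Subgroup.coe_inv, map_mul, map_inv]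
      show (mk (ι l))⁻¹ * mk m ∈ _
      rw [← hl]
      exact (inv_mul_cancel (mk (ι l))).symm ▸ one_mem _
    have hfk : f.ker = Subgroup.center L := by
      refine le_antisymm (fun l hl => ?_) (fun l hl => ?_)
      · have h : mk (ι l) ∈ Subgroup.zpowers X := (QuotientGroup.eq_one_iff (ι.codRestrict _ hleM l)).1 hl
        obtain ⟨i, hi⟩ := Subgroup.mem_zpowers_iff.1 h
        have h2 : mk (ι ((x ^ i)⁻¹ * l)) = 1 := by
          rw [map_mul, map_mul, map_inv, map_inv, map_zpow, map_zpow, ← hi, inv_mul_cancel]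
        simpa using mul_mem (zpow_mem D.xc i) (D.zpowers_t_le (D.ker_mk h2))
      · exact (QuotientGroup.eq_one_iff (ι.codRestrict _ hleM l)).2 (Q.center_map l hl)
    exact ⟨((QuotientGroup.quotientMulEquivOfEq hfk.symm).trans
      (QuotientGroup.quotientKerEquivOfSurjective f hfs)).symm⟩

end Local

end Cfsg.Agent.Lib.SixThree54
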