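import Mathlib
import Cfsg.Prelude.Def_JankoFourType
import Cfsg.Prelude.Def_CaseTheorems
import Cfsg.Prelude.Def_KGroupFacts

/-!
# Bricks for recognition of `J4` from the centraliser `6.M22` of an element of order three

Written by helper54 (row S3317).  Each `...Stmt` below is proved in its own file of this folder:
`Plus`, `OutDvd`, `SelfThree`, `Cover`.
-/

set_option autoImplicit false

universe u

namespace Cfsg.Agent.Lib.SixThree54

open Cfsg

/-- An extraspecial group of order `2^13` with an automorphism of order three fixing only central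
elements is of plus type. -/
def PlusStmt : Prop :=
  ∀ (E : Type u) [Group E] [Finite E], IsExtraspecial 2 E → Nat.card E = 2 ^ 13 →
    ∀ φ : MulAut E, φ ^ 3 = 1 → (∀ e : E, φ e = e → e ∈ Subgroup.center E) →
      ∃ A : Subgroup E, IsElementaryAbelian 2 A ∧ Nat.card ↥A = 2 ^ 7

/-- The order of the orthogonal group of plus type in dimension twelve over two elements. -/
def goPlusTwelve : ℕ :=
  2 * 2 ^ 30 * (2 ^ 6 - 1) * ((4 - 1) * (4 ^ 2 - 1) * (4 ^ 3 - 1) * (4 ^ 4 - 1) * (4 ^ 5 - 1))

/-- A self-centralising normal extraspecial subgroup of plus type bounds the quotient by the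
orthogonal group. -/
def OutDvdStmt : Prop :=
  ∀ (H : Type u) [Group H] [Finite H] (E : Subgroup H) [E.Normal],
    IsExtraspecial 2 ↥E → Nat.card ↥E = 2 ^ 13 → Subgroup.centralizer (E : Set H) ≤ E →
    (∃ A : Subgroup ↥E, IsElementaryAbelian 2 A ∧ Nat.card ↥A = 2 ^ 7) →
      Nat.card (H ⧸ E) ∣ goPlusTwelve

/-- The possible indices of the normaliser of `X` in `H / E`. -/
def IndexStmt : Prop :=
  ∀ n : ℕ, n * 2661120 ∣ goPlusTwelve → n % 27 = 1 → n % 7 = 1 → n = 1 ∨ n = 2 ^ 18

/-- A self-centralising subgroup `X` of order three is normal if an automorphism `α` of order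
dividing three fixes its generator and each `α ∘ conj(x)^j` fixes only points normalising `X`. -/
def SelfThreeStmt : Prop :=
  ∀ (K : Type u) [Group K] [Finite K] (x : K), orderOf x = 3 →
    Subgroup.centralizer ({x} : Set K) = Subgroup.zpowers x →
    ∀ α : MulAut K, α ^ 3 = 1 → α x = x →
      (∀ (j : ℕ) (k : K), α (x ^ j * k * (x ^ j)⁻¹) = k →
        k ∈ Subgroup.normalizer (Subgroup.zpowers x : Set K)) →
      (Subgroup.zpowers x).Normal

/-- What is used about the perfect sixfold cover of `M22`. -/
structure CoverFacts (L : Type u) [Group L] : Prop where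
  card : Nat.card L = 2661120
  /-- every normal subgroup outside the centre is everything -/
  normal : ∀ N : Subgroup L, N.Normal → N ≤ Subgroup.center L ∨ N = ⊤
  /-- one class of elements of order three outside the centre -/
  three : ∀ a b : L, orderOf a = 3 → orderOf b = 3 → a ∉ Subgroup.center L → b ∉ Subgroup.center L →
    IsConj a b
  exists_three : ∃ a : L, orderOf a = 3 ∧ a ∉ Subgroup.center L
  cent_three : ∀ a : L, orderOf a = 3 → a ∉ Subgroup.center L →
    Nat.card ↥(Subgroup.centralizer ({a} : Set L)) = 72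
  /-- the centre of a Sylow three-subgroup is central -/
  sylow_three : ∀ S : Sylow 3 L, Nat.card ↥(S : Subgroup L) = 27 ∧
    (Subgroup.center ↥(S : Subgroup L)).map (S : Subgroup L).subtype ≤ Subgroup.center L
  cent_two : ∀ s : L, orderOf s = 2 → s ∉ Subgroup.center L →
    Nat.card ↥(Subgroup.centralizer ({s} : Set L)) ≤ 2304
  /-- no large normal two-subgroup of the centraliser of an involution centralising an element of
  order three -/
  no_big : ∀ (s a : L) (W : Subgroup L), orderOf s = 2 → s ∉ Subgroup.center L →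
    orderOf a = 3 → a ∉ Subgroup.center L → Commute s a →
    IsPGroup 2 ↥W → W ≤ Subgroup.centralizer ({s} : Set L) →
    (∀ c ∈ Subgroup.centralizer ({s} : Set L), ∀ w ∈ W, c * w * c⁻¹ ∈ W) → Nat.card ↥W < 256
  /-- elementary abelian two-subgroups -/
  elementary : ∀ W : Subgroup L, IsElementaryAbelian 2 W → Nat.card ↥W ≤ 32
  exists_eleven : ∃ k : L, k ^ 11 = 1 ∧ k ∉ Subgroup.center L
  exists_seven : ∃ u a : L, orderOf u = 7 ∧ orderOf a = 3 ∧ a ∉ Subgroup.center L ∧
    a * u * a⁻¹ ∈ Subgroup.zpowers u ∧ ¬ Commute a u ∧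
    (∀ c : L, Commute c u → c ∈ Subgroup.center L ⊔ Subgroup.zpowers u)

/-- The facts hold in every perfect central extension of `M22` with cyclic centre of order six. -/
def CoverStmt : Prop :=
  ∀ (L : Type u) [Group L] [Finite L], ⁅(⊤ : Subgroup L), (⊤ : Subgroup L)⁆ = ⊤ →
    IsCyclic ↥(Subgroup.center L) → Nat.card ↥(Subgroup.center L) = 6 →
    Nonempty (L ⧸ Subgroup.center L ≃* ↥Cfsg.Spor.M22) → CoverFacts L

end Cfsg.Agent.Lib.SixThree54
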